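import Cfsg.Agent.Lib.AutPSL.Main

/-!
# Speiser's theorem (Galois descent for `GL_n`) and diagonalisation of Hermitian matrices
-/

set_option autoImplicit false

namespace Cfsg.Agent.AutPSL.Speiser

open Matrix Cfsg.Agent.AutPSL.Main

universe u

variable {F : Type u} [Field F] {n : ℕ}

local notation "M" => Matrix (Fin n) (Fin n) F
local notation "V" => Fin n → F

/-- `A σ(A) … σ^{i-1}(A)`. -/
def twist (σ : F ≃+* F) (A : GL (Fin n) F) : ℕ → GL (Fin n) F
  | 0 => 1
  | i + 1 => A * fieldGL σ (twist σ A i)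

theorem fieldGL_mul (σ τ : F ≃+* F) (g : GL (Fin n) F) :
    fieldGL (σ * τ) g = fieldGL σ (fieldGL τ g) := Units.ext (Matrix.ext fun _ _ => rfl)

theorem fieldGL_one (g : GL (Fin n) F) : fieldGL 1 g = g := Units.ext (Matrix.ext fun _ _ => rfl)

theorem twist_one (σ : F ≃+* F) (A : GL (Fin n) F) : twist σ A 1 = A := by simp [twist]

theorem twist_succ' (σ : F ≃+* F) (A : GL (Fin n) F) :
    ∀ i, twist σ A (i + 1) = twist σ A i * fieldGL (σ ^ i) A
  | 0 => by rw [pow_zero, fieldGL_one, twist_one]; simp [twist]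
  | i + 1 => by
    show A * fieldGL σ (twist σ A (i + 1)) = A * fieldGL σ (twist σ A i) * fieldGL (σ ^ (i + 1)) A
    rw [twist_succ' σ A i, map_mul, pow_succ', fieldGL_mul, mul_assoc]

/-- Distinct powers of a field automorphism are linearly independent. -/
theorem eq_zero_of_sum_pow (σ : F ≃+* F) {c : Fin (orderOf σ) → F}
    (h : ∀ x : F, ∑ i, c i * (σ ^ (i : ℕ)) x = 0) : ∀ i, c i = 0 := by
  let f : Fin (orderOf σ) → (F →* F) := fun i => (σ ^ (i : ℕ)).toRingHom.toMonoidHom
  have hf : Function.Injective f := fun i j e => by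
    refine Fin.ext (pow_injOn_Iio_orderOf (Set.mem_Iio.2 i.isLt) (Set.mem_Iio.2 j.isLt) ?_)
    exact RingEquiv.ext fun x => DFunLike.congr_fun e x
  have hli := (linearIndependent_monoidHom F F).comp f hf
  refine Fintype.linearIndependent_iff.1 hli c (funext fun x => ?_)
  simpa [f] using h x

variable [Fintype F]

/-- Speiser's theorem. -/
theorem speiser (σ : F ≃+* F) (A : GL (Fin n) F) (hA : twist σ A (orderOf σ) = 1) :
    ∃ B : GL (Fin n) F, A = B * (fieldGL σ B)⁻¹ := by
  classical
  have : Finite (F ≃+* F) := Finite.of_injective (fun e => (e : F → F)) DFunLike.coe_injective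
  set r := orderOf σ with hr
  have hr0 : 0 < r := orderOf_pos σ
  let T : ℕ → V → V := fun i v => (twist σ A i : M) *ᵥ fun k => (σ ^ i) (v k)
  let S : Set V := {u | (A : M) *ᵥ (fun k => σ (u k)) = u}
  have hT : ∀ i v, (A : M) *ᵥ (fun k => σ (T i v k)) = T (i + 1) v := by
    intro i v
    have h1 : (fun k => σ (T i v k)) = (fieldGL σ (twist σ A i) : M) *ᵥ fun k => (σ ^ (i + 1)) (v k) := by
      funext k
      change σ (((twist σ A i : M) *ᵥ fun k => (σ ^ i) (v k)) k) = _
      rw [fieldGL_coe, Matrix.mulVec, dotProduct, map_sum, Matrix.mulVec, dotProduct]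
      exact Finset.sum_congr rfl fun l _ => by rw [map_mul, pow_succ']; rfl
    rw [h1, Matrix.mulVec_mulVec]
    rfl
  have hTr : ∀ v, T r v = T 0 v := fun v => by
    simp only [T]
    rw [hA, hr, pow_orderOf_eq_one, pow_zero]
    rfl
  have hsum : ∀ v, (∑ i : Fin r, T i v) ∈ S := by
    intro v
    change (A : M) *ᵥ (fun k => σ ((∑ i : Fin r, T i v) k)) = _
    have h1 : (fun k => σ ((∑ i : Fin r, T i v) k)) = ∑ i : Fin r, fun k => σ (T i v k) := by
      funext k; simp [Finset.sum_apply]
    rw [h1, Matrix.mulVec_sum]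
    simp only [hT]
    rw [Fin.sum_univ_eq_sum_range (fun i => T (i + 1) v), Fin.sum_univ_eq_sum_range (fun i => T i v)]
    have h2 := (Finset.sum_range_succ' (fun i => T i v) r).symm.trans (Finset.sum_range_succ (fun i => T i v) r)
    rw [hTr] at h2
    exact add_right_cancel h2
  have hspan : ⊤ ≤ Submodule.span F S := by
    by_contra hne
    obtain ⟨f, hf, hker⟩ := Submodule.exists_le_ker_of_lt_top (Submodule.span F S) (lt_top_iff_ne_top.2 fun e => hne e.ge)
    refine hf (LinearMap.ext fun v => ?_)
    have h1 : ∀ x : F, ∑ i : Fin r, f (T i v) * (σ ^ (i : ℕ)) x = 0 := fun x => by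
      have h2 := hker (Submodule.subset_span (hsum (x • v)))
      rw [LinearMap.mem_ker, map_sum] at h2
      rw [← h2]
      refine Finset.sum_congr rfl fun i _ => ?_
      have : T (i : ℕ) (x • v) = (σ ^ (i : ℕ)) x • T (i : ℕ) v := by
        simp only [T]
        rw [← Matrix.mulVec_smul]
        congr 1
        funext k
        simp
      rw [this, map_smul, smul_eq_mul, mul_comm]
    have := eq_zero_of_sum_pow σ h1 ⟨0, hr0⟩
    simpa [T, twist] using this
  let b := Module.Basis.ofSpan hspan
  have hb : ∀ i, b i ∈ S := fun i => Module.Basis.ofSpan_subset hspan ⟨i, rfl⟩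
  have : Fintype _ := FiniteDimensional.fintypeBasisIndex b
  obtain ⟨e⟩ : Nonempty (Fin n ≃ _) := ⟨(Fintype.equivFinOfCardEq
    ((Module.finrank_eq_card_basis b).symm.trans (Module.finrank_fin_fun F))).symm⟩
  let B : M := Matrix.of fun k i => b (e i) k
  have hB : B.det ≠ 0 := by
    have h1 : LinearIndependent F B.col := by
      have h0 := (b.reindex e.symm).linearIndependent
      have h2 : B.col = ⇑(b.reindex e.symm) := funext fun i => by
        rw [Module.Basis.reindex_apply, Equiv.symm_symm]
        rfl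
      rw [h2]
      exact h0
    rw [← isUnit_iff_ne_zero, ← Matrix.isUnit_iff_isUnit_det]
    exact Matrix.linearIndependent_cols_iff_isUnit.1 h1
  refine ⟨Matrix.GeneralLinearGroup.mkOfDetNeZero B hB, eq_mul_inv_of_mul_eq (Units.ext ?_)⟩
  ext k i
  exact congrFun (hb (e i)) k

/-- The norm of a field automorphism is surjective onto its fixed elements. -/
theorem norm_surjective (σ : F ≃+* F) (c : Fˣ) (hc : σ (c : F) = c) :
    ∃ l : Fˣ, (twist (n := 1) σ (Matrix.GeneralLinearGroup.mkOfDetNeZero
      (Matrix.diagonal fun _ => (l : F)) (by simp)) (orderOf σ) : Matrix (Fin 1) (Fin 1) F) 0 0 = c := by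
  classical
  let d : Fˣ →* GL (Fin 1) F :=
    { toFun := fun l => Matrix.GeneralLinearGroup.mkOfDetNeZero (Matrix.diagonal fun _ => (l : F)) (by simp)
      map_one' := Units.ext (by simp [Matrix.GeneralLinearGroup.mkOfDetNeZero])
      map_mul' := fun a b => Units.ext (by
        change Matrix.diagonal _ = Matrix.diagonal _ * Matrix.diagonal _
        rw [Matrix.diagonal_mul_diagonal]; simp) }
  have hdbij : Function.Bijective d := by
    refine ⟨fun a b h => Units.ext ?_, fun g => ⟨Matrix.GeneralLinearGroup.det g, Units.ext ?_⟩⟩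
    · simpa [d] using congrArg (fun g : GL (Fin 1) F => (g : Matrix (Fin 1) (Fin 1) F) 0 0) h
    · ext i j
      fin_cases i; fin_cases j
      simp [d, Matrix.GeneralLinearGroup.mkOfDetNeZero, Matrix.det_fin_one]
  have hcomm : ∀ x y : GL (Fin 1) F, x * y = y * x := fun x y => by
    obtain ⟨a, rfl⟩ := hdbij.2 x
    obtain ⟨b, rfl⟩ := hdbij.2 y
    rw [← map_mul, ← map_mul, mul_comm]
  let ν : GL (Fin 1) F →* GL (Fin 1) F :=
    MonoidHom.mk' (fun g => twist σ g (orderOf σ)) fun x y => by
      induction orderOf σ with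
      | zero => simp [twist]
      | succ i ih =>
        change x * y * fieldGL σ (twist σ (x * y) i) = x * fieldGL σ (twist σ x i) * (y * fieldGL σ (twist σ y i))
        rw [ih, map_mul, mul_assoc x y, ← mul_assoc y, hcomm y (fieldGL σ _), mul_assoc, mul_assoc]
  -- the fixed subgroup
  let P : Subgroup (GL (Fin 1) F) := MonoidHom.eqLocus (fieldGL σ) (MonoidHom.id _)
  let δ : GL (Fin 1) F →* GL (Fin 1) F :=
    MonoidHom.mk' (fun g => g * (fieldGL σ g)⁻¹) fun x y => by
      rw [map_mul, _root_.mul_inv_rev, mul_assoc x y, ← mul_assoc y, hcomm (y * _) _, ← mul_assoc]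
  have hδker : δ.ker = P := by
    ext g
    change g * (fieldGL σ g)⁻¹ = 1 ↔ fieldGL σ g = g
    rw [mul_inv_eq_one, eq_comm]
  have hker : ν.ker ≤ δ.range := fun g hg => by
    obtain ⟨B, hB⟩ := speiser σ g hg
    exact ⟨B, hB.symm⟩
  have himg : ν.range ≤ P := by
    rintro _ ⟨g, rfl⟩
    change fieldGL σ (twist σ g (orderOf σ)) = twist σ g (orderOf σ)
    have h1 : g * fieldGL σ (twist σ g (orderOf σ)) = twist σ g (orderOf σ) * g := by
      have h2 := twist_succ' σ g (orderOf σ)
      rwa [pow_orderOf_eq_one, fieldGL_one] at h2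
    rw [hcomm _ g] at h1
    exact mul_left_cancel h1
  have hPν : P ≤ ν.range := by
    refine (Subgroup.eq_of_le_of_card_ge himg ?_).ge
    have h1 := ν.ker.index_mul_card
    have h2 := δ.ker.index_mul_card
    rw [Subgroup.index_ker] at h1 h2
    rw [hδker] at h2
    have h3 := Subgroup.card_le_of_le hker
    by_contra hlt
    push Not at hlt
    have h4 : Nat.card ν.range * Nat.card ν.ker < Nat.card P * Nat.card δ.range :=
      Nat.mul_lt_mul_of_lt_of_le hlt h3 Nat.card_pos
    rw [h1, mul_comm, h2] at h4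
    exact lt_irrefl _ h4
  have hmem : d c ∈ P := Units.ext (by
    change ((fieldGL σ (d c) : GL (Fin 1) F) : Matrix (Fin 1) (Fin 1) F) = _
    ext i j; fin_cases i; fin_cases j
    rw [fieldGL_coe]
    simpa [d] using hc)
  obtain ⟨g, hg⟩ := hPν hmem
  obtain ⟨l, rfl⟩ := hdbij.2 g
  exact ⟨l, by
    have := congrArg (fun g : GL (Fin 1) F => (g : Matrix (Fin 1) (Fin 1) F) 0 0) hg
    simpa [ν, d] using this⟩

/-- The product `∏ σ^i(x)`. -/
noncomputable def nrm (σ : F ≃+* F) (x : F) : F := ∏ i ∈ Finset.range (orderOf σ), (σ ^ i) x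

theorem nrm_surjective (σ : F ≃+* F) (c : Fˣ) (hc : σ (c : F) = c) :
    ∃ l : Fˣ, nrm σ (l : F) = c := by
  obtain ⟨l, hl⟩ := norm_surjective σ c hc
  refine ⟨l, ?_⟩
  rw [← hl, nrm]
  generalize orderOf σ = r
  induction r with
  | zero => simp [twist]
  | succ i ih =>
    rw [Finset.prod_range_succ, twist_succ', ih, Units.val_mul, Matrix.mul_apply, Fin.sum_univ_one,
      fieldGL_coe]
    simp [Matrix.GeneralLinearGroup.mkOfDetNeZero]

/-- An invertible Hermitian matrix for an involutory `σ` is `B σ(B)ᵀ`. -/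
theorem hermitian_eq (σ : F ≃+* F) (hσ : orderOf σ = 2) (A : GL (Fin n) F)
    (hA : ((A : M).map σ)ᵀ = (A : M)) :
    ∃ B : GL (Fin n) F, (A : M) = (B : M) * ((B : M).map σ)ᵀ := by
  classical
  have hσσ : ∀ x, σ (σ x) = x := fun x => by
    have : σ ^ 2 = 1 := hσ ▸ pow_orderOf_eq_one σ
    rw [pow_two] at this
    exact DFunLike.congr_fun this x
  let H : M := ((A⁻¹ : GL (Fin n) F) : M)
  have hH : (H.map σ)ᵀ = H := by
    have h1 : (H.map σ)ᵀ * ((A : M).map σ)ᵀ = 1 := by
      rw [← transpose_mul, ← fieldGL_coe, ← fieldGL_coe σ A⁻¹, ← Units.val_mul, ← map_mul,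
        mul_inv_cancel, map_one, Units.val_one, transpose_one]
    rw [hA] at h1
    calc (H.map σ)ᵀ = (H.map σ)ᵀ * ((A : M) * H) := by simp [H]
      _ = H := by rw [← mul_assoc, h1, one_mul]
  let φ : V → V → F := fun u v => (fun k => σ (u k)) ⬝ᵥ (H *ᵥ v)
  have hsymm : ∀ u v, σ (φ u v) = φ v u := by
    intro u v
    simp only [φ, dotProduct, Matrix.mulVec, map_sum, map_mul, hσσ, Finset.mul_sum]
    rw [Finset.sum_comm]
    refine Finset.sum_congr rfl fun i _ => Finset.sum_congr rfl fun j _ => ?_
    have := congrFun (congrFun hH i) j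
    simp only [Matrix.transpose_apply, Matrix.map_apply] at this
    rw [← this]
    ring
  have hadd : ∀ u v w, φ u (v + w) = φ u v + φ u w := fun u v w => by
    simp [φ, Matrix.mulVec_add, dotProduct_add]
  have hsmul : ∀ u (c : F) v, φ u (c • v) = c * φ u v := fun u c v => by
    simp [φ, Matrix.mulVec_smul, dotProduct_smul]
  have hadd' : ∀ u v w, φ (u + v) w = φ u w + φ v w := fun u v w => by
    rw [← hsymm w, hadd, map_add, hsymm, hsymm]
  have hsmul' : ∀ u (c : F) v, φ (c • u) v = σ c * φ u v := fun u c v => by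
    rw [← hsymm v, hsmul, map_mul, hsymm]
  have hnd : ∀ v, (∀ u, φ u v = 0) → v = 0 := fun v hv => by
    have h1 : H *ᵥ v = 0 := funext fun k => by
      simpa [φ, dotProduct, Pi.single_apply, apply_ite σ] using hv (Pi.single k 1)
    have h2 := congrArg ((A : M) *ᵥ ·) h1
    simpa [H, Matrix.mulVec_mulVec] using h2
  suffices hk : ∀ k ≤ n, ∃ b : Fin k → V, ∀ i j, φ (b i) (b j) = if i = j then 1 else 0 by
    obtain ⟨b, hb⟩ := hk n le_rfl
    let B : M := Matrix.of fun r i => b i r
    have hB : (B.map σ)ᵀ * H * B = 1 := by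
      ext i j
      rw [Matrix.one_apply, ← hb i j, mul_assoc]
      rfl
    have hdet : B.det ≠ 0 := fun h0 => by
      have := congrArg Matrix.det hB
      rw [Matrix.det_mul, h0, mul_zero, Matrix.det_one] at this
      exact zero_ne_one this
    refine ⟨Matrix.GeneralLinearGroup.mkOfDetNeZero B hdet, ?_⟩
    change (A : M) = B * (B.map σ)ᵀ
    have h1 : B * ((B.map σ)ᵀ * H) = 1 := mul_eq_one_comm.1 hB
    have h2 := congrArg (· * (A : M)) h1
    simpa [H, mul_assoc] using h2.symm
  intro k hk
  induction k with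
  | zero => exact ⟨Fin.elim0, fun i => i.elim0⟩
  | succ k ih =>
    obtain ⟨b, hb⟩ := ih (by omega)
    let proj : V → V := fun v => v - ∑ i, φ (b i) v • b i
    have hsum : ∀ u (c : Fin k → F) (s : Finset (Fin k)), φ u (∑ i ∈ s, c i • b i) = ∑ i ∈ s, c i * φ u (b i) := by
      intro u c s
      induction s using Finset.induction_on with
      | empty => simp [φ]
      | insert a s ha ih => rw [Finset.sum_insert ha, Finset.sum_insert ha, hadd, hsmul, ih]
    have hsub : ∀ u v w, φ u (v - w) = φ u v - φ u w := fun u v w => by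
      have := hadd u (v - w) w
      rw [sub_add_cancel] at this
      rw [this, add_sub_cancel_right]
    have hproj : ∀ v j, φ (b j) (proj v) = 0 := fun v j => by
      simp only [proj, hsub, hsum, hb]
      simp
    obtain ⟨v, hv⟩ : ∃ v, proj v ≠ 0 := by
      by_contra hall
      push Not at hall
      have h1 : ⊤ ≤ Submodule.span F (Set.range b) := fun v _ => by
        rw [sub_eq_zero.1 (hall v)]
        exact Submodule.sum_mem _ fun i _ => Submodule.smul_mem _ _ (Submodule.subset_span ⟨i, rfl⟩)
      have h2 := Submodule.finrank_mono h1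
      rw [finrank_top, Module.finrank_fin_fun] at h2
      have h3 := finrank_range_le_card (R := F) b
      rw [Fintype.card_fin] at h3
      exact absurd (h2.trans h3) (by omega)
    obtain ⟨w, hwb, hw⟩ : ∃ w, (∀ j, φ (b j) w = 0) ∧ φ w w ≠ 0 := by
      by_contra hall
      push Not at hall
      set x := proj v
      refine hv (hnd x fun u => ?_)
      have hx : ∀ j, φ (b j) x = 0 := hproj v
      -- it is enough to test `x` against vectors orthogonal to the family
      have hred : φ u x = φ (proj u) x := by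
        rw [← hsymm x, ← hsymm x]
        congr 1
        simp only [proj, hsub, hsum]
        rw [Finset.sum_eq_zero fun i _ => by rw [← hsymm (b i) x, hx, map_zero, mul_zero], sub_zero]
      rw [hred]
      set y := proj u
      have hy : ∀ j, φ (b j) y = 0 := hproj u
      by_contra hne
      obtain ⟨l, hl⟩ : ∃ l : F, σ l * φ y x + l * φ x y ≠ 0 := by
        by_contra hc
        push Not at hc
        have h0 := eq_zero_of_sum_pow σ (c := fun i => if (i : ℕ) = 1 then φ y x else φ x y) (fun l => ?_)
          ⟨1, by omega⟩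
        · simp at h0; exact hne h0
        · rw [Fin.sum_univ_eq_sum_range (fun i => (if i = 1 then φ y x else φ x y) * (σ ^ i) l), hσ,
            Finset.sum_range_succ, Finset.sum_range_one]
          simp only [zero_ne_one, if_false, if_true, pow_zero, pow_one]
          rw [← hc l, add_comm]
          rw [show (1 : F ≃+* F) l = l from rfl]
          ring
      refine hl ?_
      have h1 := hall (x + l • y) fun j => by rw [hadd, hsmul, hx, hy, mul_zero, add_zero]
      rw [hadd, hadd', hadd', hsmul, hsmul', hsmul, hsmul', hall x hx, hall y hy] at h1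
      linear_combination h1
    have hfix : σ (φ w w) = φ w w := hsymm w w
    obtain ⟨l, hl⟩ := nrm_surjective σ (Units.mk0 _ hw) hfix
    rw [nrm, hσ, Finset.prod_range_succ, Finset.prod_range_one, pow_zero, pow_one, Units.val_mk0] at hl
    change (l : F) * σ (l : F) = φ w w at hl
    refine ⟨Fin.snoc b ((l : F)⁻¹ • w), fun i j => ?_⟩
    induction i using Fin.lastCases with
    | last =>
      induction j using Fin.lastCases with
      | last =>
        rw [Fin.snoc_last, hsmul, hsmul', if_pos rfl, ← hl, map_inv₀]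
        field_simp
      | cast j =>
        rw [Fin.snoc_last, Fin.snoc_castSucc, hsmul', ← hsymm (b j), hwb, map_zero, mul_zero,
          if_neg (Ne.symm (Fin.castSucc_lt_last j).ne)]
    | cast i =>
      induction j using Fin.lastCases with
      | last => rw [Fin.snoc_last, Fin.snoc_castSucc, hsmul, hwb, mul_zero, if_neg (Fin.castSucc_lt_last i).ne]
      | cast j => simp [Fin.snoc_castSucc, hb]

end Cfsg.Agent.AutPSL.Speiser
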