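import Cfsg.Agent.Lib.AutPSL.Basic

/-!
# Root subgroups of `PSL_n` and their characterisation as centres of Sylow subgroups
-/

set_option autoImplicit false

namespace Cfsg.Agent.AutPSL.Roots

open Matrix Cfsg.Agent.AutPSL.Basic

universe u

variable {F : Type u} [Field F] {n : ℕ}

local notation "SL" => Matrix.SpecialLinearGroup (Fin n) F
local notation "PSL" => Matrix.ProjectiveSpecialLinearGroup (Fin n) F
local notation "M" => Matrix (Fin n) (Fin n) F
local notation "V" => Fin n → F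

/-- `(v, w)` defines a point inside a hyperplane. -/
def Inc (v w : V) : Prop := v ≠ 0 ∧ w ≠ 0 ∧ w ⬝ᵥ v = 0

/-- `v'` is a non-zero multiple of `v`. -/
def Par (v v' : V) : Prop := ∃ c : F, c ≠ 0 ∧ v' = c • v

theorem Par.refl (v : V) : Par v v := ⟨1, one_ne_zero, (one_smul F v).symm⟩

theorem Par.symm {v v' : V} (h : Par v v') : Par v' v := by
  obtain ⟨c, hc, rfl⟩ := h
  exact ⟨c⁻¹, inv_ne_zero hc, (inv_smul_smul₀ hc v).symm⟩

theorem Par.trans {a b c : V} (h : Par a b) (h' : Par b c) : Par a c := by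
  obtain ⟨x, hx, rfl⟩ := h
  obtain ⟨y, hy, rfl⟩ := h'
  exact ⟨y * x, mul_ne_zero hy hx, smul_smul y x a⟩

/-- The transvection `1 + v wᵀ` (for `w ⬝ v = 0`). -/
def tv (v w : V) (h : w ⬝ᵥ v = 0) : SL :=
  ⟨1 + vecMulVec v w, by
    rw [vecMulVec_eq Unit, det_one_add_replicateCol_mul_replicateRow, h, add_zero]⟩

theorem tv_coe (v w : V) (h : w ⬝ᵥ v = 0) : ((tv v w h : SL) : M) = 1 + vecMulVec v w := rfl

theorem sq_zero {v w : V} (h : w ⬝ᵥ v = 0) : vecMulVec v w * vecMulVec v w = 0 := by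
  rw [vecMulVec_mul_vecMulVec, h, zero_smul, vecMulVec_zero]

theorem vmv_smul (v w : V) (c : F) : vecMulVec v (c • w) = c • vecMulVec v w := by
  ext i j
  simp [vecMulVec_apply]
  ring

theorem smul_dot {v w : V} (h : w ⬝ᵥ v = 0) (c : F) : w ⬝ᵥ (c • v) = 0 := by
  rw [dotProduct_smul, h, smul_zero]

/-- The one-parameter group `c ↦ 1 + c v wᵀ` in `PSL`. -/
def rootHom (v w : V) (h : w ⬝ᵥ v = 0) : Multiplicative F →* PSL :=
  (QuotientGroup.mk' (Subgroup.center SL)).comp
    { toFun := fun c => tv (c.toAdd • v) w (smul_dot h _)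
      map_one' := Subtype.ext (by simp [tv_coe])
      map_mul' := fun a b => Subtype.ext (by
        change _ = (1 + vecMulVec (a.toAdd • v) w) * (1 + vecMulVec (b.toAdd • v) w)
        rw [tv_coe, toAdd_mul, mul_add, add_mul, add_mul, vecMulVec_mul_vecMulVec, dotProduct_smul,
          h, smul_zero, zero_smul, vecMulVec_zero]
        simp [add_smul, Matrix.add_vecMulVec]
        abel) }

theorem rootHom_apply (v w : V) (h : w ⬝ᵥ v = 0) (c : Multiplicative F) :
    rootHom v w h c = QuotientGroup.mk (tv (c.toAdd • v) w (smul_dot h _)) := rfl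

/-- `X` is the root subgroup of a point-hyperplane pair `(v, w)`. -/
def IsRootOf (X : Subgroup PSL) (v w : V) : Prop :=
  Inc v w ∧ ∀ x : PSL, x ∈ X ↔
    ∃ s : SL, (∃ c : F, (s : M) = 1 + c • vecMulVec v w) ∧ x = QuotientGroup.mk s

/-- `X` is a root subgroup. -/
def IsRoot (X : Subgroup PSL) : Prop := ∃ v w, IsRootOf X v w

theorem exists_rootOf {v w : V} (h : Inc v w) : ∃ X : Subgroup PSL, IsRootOf X v w := by
  refine ⟨(rootHom v w h.2.2).range, h, fun x => ⟨?_, ?_⟩⟩
  · rintro ⟨c, rfl⟩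
    exact ⟨_, ⟨c.toAdd, by
      change 1 + vecMulVec (c.toAdd • v) w = _
      rw [smul_vecMulVec]⟩, rfl⟩
  · rintro ⟨s, ⟨c, hs⟩, rfl⟩
    exact ⟨Multiplicative.ofAdd c,
      congrArg QuotientGroup.mk (Subtype.ext (by
        change 1 + vecMulVec (c • v) w = _
        rw [hs, smul_vecMulVec]))⟩

theorem IsRootOf.mem {X : Subgroup PSL} {v w : V} (h : IsRootOf X v w) (c : F) :
    (QuotientGroup.mk (tv (c • v) w (smul_dot h.1.2.2 c)) : PSL) ∈ X :=
  (h.2 _).2 ⟨_, ⟨c, by rw [tv_coe, smul_vecMulVec]⟩, rfl⟩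

theorem IsRootOf.unique {X Y : Subgroup PSL} {v w : V} (hX : IsRootOf X v w)
    (hY : IsRootOf Y v w) : X = Y :=
  Subgroup.ext fun x => (hX.2 x).trans (hY.2 x).symm

/-- If `1 + B` is a multiple of `1 + A`, with `B² = 0` and `A` singular, then `A = B`. -/
theorem eq_of_smul {A B : M} (hB : B * B = 0) {z : V} (hz : z ≠ 0) (hAz : A *ᵥ z = 0) {c : F}
    (h : 1 + A = c • (1 + B)) : A = B := by
  have h1 : z = c • z + c • (B *ᵥ z) := by
    have := congrArg (· *ᵥ z) h
    simpa [add_mulVec, hAz, smul_mulVec] using this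
  have h2 : B *ᵥ z = c • (B *ᵥ z) := by
    have := congrArg (B *ᵥ ·) h1
    simpa [mulVec_add, mulVec_smul, mulVec_mulVec, hB] using this
  have hc : c = 1 := by
    by_contra hne
    have h3 : B *ᵥ z = 0 := by
      have h3 : (c - 1) • (B *ᵥ z) = 0 := by rw [sub_smul, one_smul, ← h2, sub_self]
      exact (smul_eq_zero.1 h3).resolve_left (sub_ne_zero.2 hne)
    rw [h3, smul_zero, add_zero] at h1
    have h4 : (c - 1) • z = 0 := by rw [sub_smul, one_smul, ← h1, sub_self]
    exact hz ((smul_eq_zero.1 h4).resolve_left (sub_ne_zero.2 hne))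
  rw [hc, one_smul] at h
  exact add_left_cancel h

theorem par_of_vecMulVec_eq {v w v' w' : V} (hv : v ≠ 0) (hw : w ≠ 0) {c : F}
    (h : vecMulVec v w = c • vecMulVec v' w') : Par v' v ∧ Par w' w := by
  obtain ⟨i, hi⟩ := Function.ne_iff.1 hv
  obtain ⟨j, hj⟩ := Function.ne_iff.1 hw
  simp only [Pi.zero_apply] at hi hj
  have he : ∀ a b, v a * w b = c * (v' a * w' b) := fun a b => by
    simpa [vecMulVec_apply] using congrFun (congrFun h a) b
  have hij : c * (v' i * w' j) ≠ 0 := he i j ▸ mul_ne_zero hi hj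
  refine ⟨⟨c * w' j / w j, ?_, ?_⟩, ⟨c * v' i / v i, ?_, ?_⟩⟩
  · exact div_ne_zero (fun h0 => hij (by linear_combination v' i * h0)) hj
  · funext a
    rw [Pi.smul_apply, smul_eq_mul, div_mul_eq_mul_div, eq_div_iff hj, he a j]
    ring
  · exact div_ne_zero (fun h0 => hij (by linear_combination w' j * h0)) hi
  · funext b
    rw [Pi.smul_apply, smul_eq_mul, div_mul_eq_mul_div, eq_div_iff hi, mul_comm (w b), he i b]
    ring

theorem IsRootOf.eq_iff {X Y : Subgroup PSL} {v w v' w' : V} (hX : IsRootOf X v w)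
    (hY : IsRootOf Y v' w') : X = Y ↔ Par v v' ∧ Par w w' := by
  constructor
  · rintro rfl
    obtain ⟨hvw, hX2⟩ := hX
    obtain ⟨s, ⟨c, hs⟩, heq⟩ := (hX2 _).1 (hY.mem 1)
    obtain ⟨d, hd⟩ := (mk_eq_mk_iff s (tv ((1 : F) • v') w' (smul_dot hY.1.2.2 1))).1 heq.symm
    rw [tv_coe, one_smul, hs] at hd
    have h1 : vecMulVec v' w' = c • vecMulVec v w := by
      refine eq_of_smul ?_ hY.1.1 ?_ hd
      · rw [smul_mul_smul_comm, sq_zero hvw.2.2, smul_zero]
      · rw [vecMulVec_mulVec, hY.1.2.2]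
        simp
    exact par_of_vecMulVec_eq hY.1.1 hY.1.2.1 h1
  · rintro ⟨⟨a, ha, rfl⟩, ⟨b, hb, rfl⟩⟩
    refine Subgroup.ext fun x => ?_
    rw [hX.2 x, hY.2 x]
    simp only [smul_vecMulVec, vmv_smul, smul_smul]
    constructor
    · rintro ⟨s, ⟨c, hs⟩, rfl⟩
      refine ⟨s, ⟨c / (a * b), ?_⟩, rfl⟩
      rw [hs]
      congr 2
      field_simp
    · rintro ⟨s, ⟨c, hs⟩, rfl⟩
      exact ⟨s, ⟨_, hs⟩, rfl⟩

/-- The image of a root subgroup under `gAut`. -/
theorem IsRootOf.map_gAut {X : Subgroup PSL} {v w : V} (hX : IsRootOf X v w)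
    (g : GL (Fin n) F) :
    IsRootOf (X.map (gAut g).toMonoidHom) ((g : M) *ᵥ v) (((g⁻¹ : GL (Fin n) F) : M)ᵀ *ᵥ w) := by
  have hdot : (((g⁻¹ : GL (Fin n) F) : M)ᵀ *ᵥ w) ⬝ᵥ ((g : M) *ᵥ v) = 0 := by
    rw [mulVec_transpose, ← dotProduct_mulVec, mulVec_mulVec, Units.inv_mul, one_mulVec, hX.1.2.2]
  have key : ∀ c : F, (g : M) * (1 + c • vecMulVec v w) * ((g⁻¹ : GL (Fin n) F) : M) =
      1 + c • vecMulVec ((g : M) *ᵥ v) (((g⁻¹ : GL (Fin n) F) : M)ᵀ *ᵥ w) := fun c => by
    rw [mul_add, add_mul, mul_one, Units.mul_inv, mul_smul_comm, smul_mul_assoc, mul_vecMulVec,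
      vecMulVec_mul, mulVec_transpose]
  refine ⟨⟨?_, ?_, hdot⟩, fun x => ⟨?_, ?_⟩⟩
  · exact fun h => hX.1.1 (by
      have := congrArg (((g⁻¹ : GL (Fin n) F) : M) *ᵥ ·) h
      simpa using this)
  · exact fun h => hX.1.2.1 (by
      have := congrArg (((g : M))ᵀ *ᵥ ·) h
      simpa [mulVec_mulVec, ← transpose_mul] using this)
  · rintro ⟨y, hy, rfl⟩
    obtain ⟨s, ⟨c, hs⟩, rfl⟩ := (hX.2 y).1 hy
    exact ⟨conjSL g s, ⟨c, by rw [conjSL_coe, hs, key]⟩, rfl⟩
  · rintro ⟨s, ⟨c, hs⟩, rfl⟩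
    refine ⟨_, hX.mem c, congrArg QuotientGroup.mk (Subtype.ext ?_)⟩
    change (g : M) * (1 + vecMulVec (c • v) w) * _ = _
    rw [hs, smul_vecMulVec, key]

/-- The image of a root subgroup under inverse transpose. -/
theorem IsRootOf.map_iota {X : Subgroup PSL} {v w : V} (hX : IsRootOf X v w) :
    IsRootOf (X.map (iota (n := n) (F := F)).toMonoidHom) w v := by
  have key : ∀ (s : SL) (c : F), (s : M) = 1 + c • vecMulVec v w →
      ((iotaSL s : SL) : M) = 1 + (-c) • vecMulVec w v := by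
    intro s c hs
    have h1 : (s⁻¹ : SL) = tv ((-c) • v) w (smul_dot hX.1.2.2 _) := by
      refine inv_eq_of_mul_eq_one_right (Subtype.ext ?_)
      change (s : M) * (1 + vecMulVec ((-c) • v) w) = 1
      rw [hs, smul_vecMulVec, mul_add, add_mul, add_mul, smul_mul_smul_comm,
        sq_zero hX.1.2.2]
      simp
    rw [iotaSL_coe, h1, tv_coe, transpose_add, transpose_one, transpose_vecMulVec,
      vmv_smul]
  refine ⟨⟨hX.1.2.1, hX.1.1, by rw [dotProduct_comm]; exact hX.1.2.2⟩, fun x => ⟨?_, ?_⟩⟩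
  · rintro ⟨y, hy, rfl⟩
    obtain ⟨s, ⟨c, hs⟩, rfl⟩ := (hX.2 y).1 hy
    exact ⟨iotaSL s, ⟨-c, key s c hs⟩, rfl⟩
  · rintro ⟨s, ⟨c, hs⟩, rfl⟩
    refine ⟨_, hX.mem (-c), congrArg QuotientGroup.mk (Subtype.ext ?_)⟩
    exact (key _ (-c) (by rw [tv_coe, smul_vecMulVec])).trans (by rw [neg_neg, hs])

section Sylow

variable [Fintype F]

/-- The upper unitriangular subgroup of `SL`. -/
def unitriSL : Subgroup SL where
  carrier := {s | (∀ i j : Fin n, j < i → (s : M) i j = 0) ∧ ∀ i, (s : M) i i = 1}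
  one_mem' := ⟨fun i j h => Matrix.one_apply_ne h.ne', fun i => Matrix.one_apply_eq i⟩
  mul_mem' := by
    rintro a b ⟨ha, ha'⟩ ⟨hb, hb'⟩
    have hta : (a : M).BlockTriangular id := fun i j h => ha i j h
    have htb : (b : M).BlockTriangular id := fun i j h => hb i j h
    refine ⟨fun i j h => (hta.mul htb) h, fun i => ?_⟩
    change ((a : M) * (b : M)) i i = 1
    rw [Matrix.mul_apply, Finset.sum_eq_single i, ha', hb', one_mul]
    · intro k _ hk
      rcases lt_or_gt_of_ne hk with h | h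
      · rw [ha _ _ h, zero_mul]
      · rw [hb _ _ h, mul_zero]
    · simp
  inv_mem' := by
    rintro a ⟨ha, ha'⟩
    have hta : (a : M).BlockTriangular id := fun i j h => ha i j h
    have : Invertible (a : M) := ⟨(a⁻¹ : SL).1, by
      rw [show (a⁻¹ : SL).1 * (a : M) = ((a⁻¹ * a : SL) : M) from rfl, inv_mul_cancel]; rfl, by
      rw [show (a : M) * (a⁻¹ : SL).1 = ((a * a⁻¹ : SL) : M) from rfl, mul_inv_cancel]; rfl⟩
    have hinv : ((a⁻¹ : SL) : M).BlockTriangular id := by
      have h1 : (a : M)⁻¹ = ((a⁻¹ : SL) : M) := Matrix.inv_eq_right_inv (by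
        rw [show (a : M) * ((a⁻¹ : SL) : M) = ((a * a⁻¹ : SL) : M) from rfl, mul_inv_cancel]; rfl)
      rw [← h1]
      exact Matrix.blockTriangular_inv_of_blockTriangular hta
    refine ⟨fun i j h => hinv h, fun i => ?_⟩
    have h2 : ((a⁻¹ : SL) : M) * (a : M) = 1 := by
      rw [show ((a⁻¹ : SL) : M) * (a : M) = ((a⁻¹ * a : SL) : M) from rfl, inv_mul_cancel]; rfl
    have h3 := congrFun (congrFun h2 i) i
    rw [Matrix.mul_apply, Finset.sum_eq_single i, ha', mul_one, Matrix.one_apply_eq] at h3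
    · exact h3
    · intro k _ hk
      rcases lt_or_gt_of_ne hk with h | h
      · rw [hinv h, zero_mul]
      · rw [ha _ _ h, mul_zero]
    · simp

/-- Its image in `PSL`. -/
def unitri : Subgroup PSL := (unitriSL (n := n) (F := F)).map (QuotientGroup.mk' _)

theorem mk_injOn (s t : SL) (hs : s ∈ unitriSL) (ht : t ∈ unitriSL) (i₀ : Fin n)
    (h : (QuotientGroup.mk s : PSL) = QuotientGroup.mk t) : s = t := by
  obtain ⟨c, hc⟩ := (mk_eq_mk_iff s t).1 h
  have : c = 1 := by
    have := congrFun (congrFun hc i₀) i₀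
    rw [ht.2, Matrix.smul_apply, hs.2, smul_eq_mul, mul_one] at this
    exact this.symm
  exact Subtype.ext (by rw [hc, this, one_smul])

theorem card_unitri (hn : 1 ≤ n) :
    Nat.card (unitri (n := n) (F := F)) = Fintype.card F ^ (∑ i : Fin n, (i : ℕ)) := by
  classical
  let Φ : ((Σ j : Fin n, Fin (j : ℕ)) → F) → unitri (n := n) (F := F) := fun f =>
    ⟨_, Subgroup.mem_map_of_mem (QuotientGroup.mk' (Subgroup.center SL))
      (K := unitriSL)
      (x := (show SL from ⟨Matrix.of fun i j => if h : i < j then f ⟨j, ⟨i.val, h⟩⟩ else if i = j then 1 else 0, by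
        rw [Matrix.det_of_upperTriangular]
        · simp
        · intro i j hij
          have hij' : j < i := hij
          simp [not_lt.2 hij'.le, hij'.ne']⟩))
      ⟨fun i j hij => by simp [not_lt.2 hij.le, hij.ne'], fun i => by simp⟩⟩
  have hΦ : Function.Bijective Φ := by
    refine ⟨fun f g h => ?_, fun x => ?_⟩
    · have h1 := mk_injOn _ _ ?_ ?_ ⟨0, hn⟩ (congrArg Subtype.val h)
      · funext ⟨j, i⟩
        have hlt : (⟨i.val, i.isLt.trans j.isLt⟩ : Fin n) < j := i.isLt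
        have := congrFun (congrFun (congrArg Subtype.val h1) ⟨i.val, i.isLt.trans j.isLt⟩) j
        simpa [hlt] using this
      all_goals exact ⟨fun i j hij => by simp [not_lt.2 hij.le, hij.ne'], fun i => by simp⟩
    · obtain ⟨_, s, hs, rfl⟩ := x
      refine ⟨fun p => (s : M) ⟨p.2.val, p.2.isLt.trans p.1.isLt⟩ p.1, Subtype.ext ?_⟩
      refine congrArg QuotientGroup.mk (Subtype.ext ?_)
      ext i j
      rcases lt_trichotomy i j with h | h | h
      · simp [h]
      · simp [h, hs.2]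
      · simp [not_lt.2 h.le, h.ne', hs.1 _ _ h]
  rw [← Nat.card_congr (Equiv.ofBijective Φ hΦ), Nat.card_fun, Nat.card_eq_fintype_card]
  congr 1
  simp [Nat.card_eq_fintype_card]

/-- `unitri` is a Sylow subgroup. -/
theorem exists_sylow_eq (p : ℕ) [Fact p.Prime] [CharP F p] (hn : 1 ≤ n) :
    ∃ P : Sylow p PSL, (P : Subgroup PSL) = unitri := by
  classical
  obtain ⟨a, hp, hF⟩ := FiniteField.card F p
  set N := ∑ i : Fin n, (i : ℕ)
  have h1 := Classical.Linear.gcd_mul_natCard_PSL_fin (F := F) (k := n) hn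
  have h2 := Classical.Linear.mul_natCard_SL_fin (F := F) (k := n) hn
  have h3 : (Fintype.card F - 1) * Nat.gcd n (Fintype.card F - 1) * Nat.card PSL =
      Fintype.card F ^ N * ∏ i : Fin n, (Fintype.card F ^ (n - (i : ℕ)) - 1) := by
    rw [mul_assoc, h1, h2, ← Finset.prod_pow_eq_pow_sum, ← Finset.prod_mul_distrib]
    refine Finset.prod_congr rfl fun i _ => ?_
    rw [Nat.mul_sub, mul_one, ← pow_add, Nat.add_sub_cancel' i.isLt.le]
  have hpq : ∀ k : ℕ, 1 ≤ k → ¬ p ∣ Fintype.card F ^ k - 1 := by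
    intro k hk h
    have h4 : p ∣ Fintype.card F ^ k := dvd_pow (hF ▸ dvd_pow_self p a.ne_zero) (by omega)
    have h5 := Nat.dvd_sub h4 h
    rw [Nat.sub_sub_self (Nat.one_le_pow _ _ Fintype.card_pos)] at h5
    exact hp.not_dvd_one h5
  refine ⟨IsPGroup.toSylow (P := unitri) (IsPGroup.of_card (n := (a : ℕ) * N) ?_) ?_, rfl⟩
  · rw [card_unitri hn, hF, ← pow_mul]
  · intro hdvd
    have h6 := Subgroup.card_mul_index (unitri (n := n) (F := F))
    rw [card_unitri hn] at h6
    have h7 : (Fintype.card F - 1) * Nat.gcd n (Fintype.card F - 1) *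
        (unitri (n := n) (F := F)).index = ∏ i : Fin n, (Fintype.card F ^ (n - (i : ℕ)) - 1) := by
      refine Nat.eq_of_mul_eq_mul_left (pow_pos (Fintype.card_pos (α := F)) N) ?_
      rw [← h3, ← h6]
      ring
    have h8 := (hdvd.mul_left ((Fintype.card F - 1) * Nat.gcd n (Fintype.card F - 1))).trans h7.dvd
    obtain ⟨i, -, hi⟩ := (Nat.prime_iff.1 hp).exists_mem_finset_dvd h8
    exact hpq _ (by omega) hi

/-- The centre of a Sylow subgroup is a root subgroup. -/
theorem isRoot_center_unitri (hn : 2 ≤ n) :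
    IsRootOf (((Subgroup.center (unitri (n := n) (F := F))).map (unitri (n := n) (F := F)).subtype))
      (Pi.single ⟨0, by omega⟩ 1) (Pi.single ⟨n - 1, by omega⟩ 1) := by
  classical
  set a₀ : Fin n := ⟨0, by omega⟩ with ha₀
  set a₁ : Fin n := ⟨n - 1, by omega⟩ with ha₁
  have h01 : a₀ < a₁ := show (0 : ℕ) < n - 1 by omega
  have hinc : Inc (Pi.single a₀ (1 : F)) (Pi.single a₁ 1) :=
    ⟨by simp, by simp, by simp [h01.ne', h01.ne]⟩
  have htriv : ∀ i j (hij : i ≠ j) (c : F), i < j →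
      Matrix.SpecialLinearGroup.transvection hij c ∈ unitriSL (n := n) (F := F) := by
    intro i j hij c h
    constructor
    · intro a b hba
      rw [Matrix.SpecialLinearGroup.transvection_coe, Matrix.add_apply, Matrix.one_apply_ne hba.ne', zero_add]
      rw [Matrix.single_apply, if_neg]
      rintro ⟨rfl, rfl⟩
      exact lt_asymm h hba
    · intro b
      rw [Matrix.SpecialLinearGroup.transvection_coe, Matrix.add_apply, Matrix.one_apply_eq, Matrix.single_apply, if_neg, add_zero]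
      rintro ⟨rfl, rfl⟩
      exact hij rfl
  have hv : ∀ c : F, c • vecMulVec (Pi.single a₀ (1 : F)) (Pi.single a₁ 1) = Matrix.single a₀ a₁ c := by
    intro c
    ext i j
    simp [vecMulVec_apply, Matrix.single_apply, Pi.single_apply]
    grind
  refine ⟨hinc, fun x => ⟨?_, ?_⟩⟩
  · rintro ⟨⟨_, s, hs, rfl⟩, hz, rfl⟩
    refine ⟨s, ⟨(s : M) a₀ a₁, ?_⟩, rfl⟩
    have hcomm : ∀ i j : Fin n, i < j →
        Matrix.single i j 1 * (s : M) = (s : M) * Matrix.single i j 1 := by
      intro i j hij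
      have ht := htriv i j hij.ne 1 hij
      have h1 := congrArg Subtype.val (Subgroup.mem_center_iff.1 hz
        ⟨_, Subgroup.mem_map_of_mem _ ht⟩)
      have h2 := mk_injOn (Matrix.SpecialLinearGroup.transvection hij.ne (1 : F) * s)
        (s * Matrix.SpecialLinearGroup.transvection hij.ne 1) (mul_mem ht hs) (mul_mem hs ht) a₀ h1
      have h3 := congrArg Subtype.val h2
      change ((Matrix.SpecialLinearGroup.transvection hij.ne (1 : F) : SL) : M) * (s : M) =
        (s : M) * ((Matrix.SpecialLinearGroup.transvection hij.ne (1 : F) : SL) : M) at h3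
      rw [Matrix.SpecialLinearGroup.transvection_coe, add_mul, mul_add, one_mul, mul_one] at h3
      exact add_left_cancel h3
    ext a b
    rw [hv, Matrix.add_apply]
    rcases lt_trichotomy a b with hab | rfl | hab
    · rw [Matrix.one_apply_ne hab.ne, zero_add, Matrix.single_apply]
      by_cases ha : a = a₀
      · subst ha
        by_cases hb : a₁ = b
        · subst hb; simp
        · -- `(s e_{b,last})_{0,last} = s_{0 b}`
          have hb' : b < a₁ := lt_of_le_of_ne (show (b : ℕ) ≤ n - 1 by omega) (Ne.symm hb)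
          have h := congrFun (congrFun (hcomm b a₁ hb') a₀) a₁
          rw [Matrix.single_mul_apply_of_ne (h := hab.ne), Matrix.mul_single_apply_same, mul_one] at h
          simp [hb, ← h]
      · -- `(e_{0,a} s)_{0,b} = s_{a b}`
        have ha' : a₀ < a := Fin.lt_def.2 (Nat.pos_of_ne_zero fun h => ha (Fin.ext h))
        have h := congrFun (congrFun (hcomm a₀ a ha') a₀) b
        rw [Matrix.single_mul_apply_same, one_mul, Matrix.mul_single_apply_of_ne (hbj := hab.ne')] at h
        simp [Ne.symm ha, h]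
    · rw [hs.2, Matrix.one_apply_eq, Matrix.single_apply, if_neg, add_zero]
      rintro ⟨h, h'⟩
      exact h01.ne (h.trans h'.symm)
    · rw [hs.1 _ _ hab, Matrix.one_apply_ne hab.ne', zero_add, Matrix.single_apply, if_neg]
      rintro ⟨rfl, rfl⟩
      exact lt_asymm h01 hab
  · rintro ⟨s, ⟨c, hs⟩, rfl⟩
    have hs' : s = Matrix.SpecialLinearGroup.transvection h01.ne c :=
      Subtype.ext (by rw [hs, Matrix.SpecialLinearGroup.transvection_coe, hv])
    subst hs'
    refine ⟨⟨_, Subgroup.mem_map_of_mem _ (htriv _ _ h01.ne c h01)⟩, Subgroup.mem_center_iff.2 ?_, rfl⟩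
    rintro ⟨_, t, ht, rfl⟩
    refine Subtype.ext (congrArg QuotientGroup.mk (Subtype.ext ?_))
    change (t : M) * ((Matrix.SpecialLinearGroup.transvection h01.ne c : SL) : M) =
      ((Matrix.SpecialLinearGroup.transvection h01.ne c : SL) : M) * (t : M)
    rw [Matrix.SpecialLinearGroup.transvection_coe, mul_add, add_mul, one_mul, mul_one]
    congr 1
    ext a b
    by_cases hb : b = a₁
    · subst hb
      rw [Matrix.mul_single_apply_same]
      by_cases ha : a = a₀
      · subst ha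
        rw [Matrix.single_mul_apply_same, ht.2, ht.2, one_mul, mul_one]
      · have ha' : a₀ < a := Fin.lt_def.2 (Nat.pos_of_ne_zero fun h => ha (Fin.ext h))
        rw [Matrix.single_mul_apply_of_ne (h := ha), ht.1 _ _ ha', zero_mul]
    · rw [Matrix.mul_single_apply_of_ne (hbj := hb)]
      by_cases ha : a = a₀
      · subst ha
        have hb' : b < a₁ := lt_of_le_of_ne (show (b : ℕ) ≤ n - 1 by omega) hb
        rw [Matrix.single_mul_apply_same, ht.1 _ _ hb', mul_zero]
      · rw [Matrix.single_mul_apply_of_ne (h := ha)]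

end Sylow

end Cfsg.Agent.AutPSL.Roots
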