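import Cfsg.Agent.Lib.AutPSL.Main
import Cfsg.Prelude.Def_KGroupFacts

/-!
# The structure of `Aut(PSL_n(F))`: uniqueness of the decomposition and the projection maps
-/

set_option autoImplicit false

namespace Cfsg.Agent.AutPSL.Out

open Matrix Cfsg.Agent.AutPSL.Basic Cfsg.Agent.AutPSL.Roots Cfsg.Agent.AutPSL.Frame
  Cfsg.Agent.AutPSL.Main

universe u

variable {F : Type u} [Field F] {n : ℕ}

local notation "SL" => Matrix.SpecialLinearGroup (Fin n) F
local notation "PSL" => Matrix.ProjectiveSpecialLinearGroup (Fin n) F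
local notation "M" => Matrix (Fin n) (Fin n) F

theorem single_sq_zero {i j : Fin n} (h : i ≠ j) (c : F) :
    Matrix.single i j c * Matrix.single i j c = 0 :=
  Matrix.single_mul_single_of_ne _ _ _ _ h.symm _

/-- Reading off a conjugation identity on a transvection. -/
theorem conj_single {g : GL (Fin n) F} {i j : Fin n} (hij : i ≠ j) {a : F} {B : M}
    (hB : B * B = 0) {c : F}
    (h : (g : M) * (1 + Matrix.single i j a) * ((g⁻¹ : GL (Fin n) F) : M) = c • (1 + B)) :
    (g : M) * Matrix.single i j a = B * (g : M) := by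
  rw [mul_add, add_mul, mul_one, Units.mul_inv] at h
  have hz : ((g : M) *ᵥ Pi.single i 1) ≠ 0 := fun h0 => by
    have := congrArg (((g⁻¹ : GL (Fin n) F) : M) *ᵥ ·) h0
    simp only [Matrix.mulVec_mulVec, Units.inv_mul, Matrix.one_mulVec, Matrix.mulVec_zero] at this
    simpa using congrFun this i
  have h1 := eq_of_smul hB hz (A := (g : M) * Matrix.single i j a * ((g⁻¹ : GL (Fin n) F) : M)) ?_ h
  · rw [← h1, mul_assoc _ ((g⁻¹ : GL (Fin n) F) : M), Units.inv_mul, mul_one]
  · rw [Matrix.mulVec_mulVec, mul_assoc, Units.inv_mul, mul_one, ← Matrix.mulVec_mulVec]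
    have : Matrix.single i j a *ᵥ (Pi.single i 1 : Fin n → F) = 0 := by
      rw [Matrix.single_mulVec]
      simp [hij.symm]
    rw [this, Matrix.mulVec_zero]

theorem mul_field_eq_one (hn : 2 ≤ n) {g : GL (Fin n) F} {σ : F ≃+* F}
    (h : (gAut g * fAut σ : MulAut PSL) = 1) :
    σ = 1 ∧ g ∈ Subgroup.center (GL (Fin n) F) := by
  have key : ∀ (i j : Fin n) (_ : i ≠ j) (c : F),
      (g : M) * Matrix.single i j (σ c) = Matrix.single i j c * (g : M) := by
    intro i j hij c
    have h1 := DFunLike.congr_fun h (QuotientGroup.mk (Matrix.SpecialLinearGroup.transvection hij c))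
    obtain ⟨d, hd⟩ := (mk_eq_mk_iff _ _).1 h1.symm
    change (g : M) * ((Matrix.SpecialLinearGroup.transvection hij c : SL) : M).map σ * _ = _ at hd
    rw [Matrix.SpecialLinearGroup.transvection_coe, Matrix.map_add _ (map_add σ),
      Matrix.map_one _ (map_zero σ) (map_one σ)] at hd
    refine conj_single hij (single_sq_zero hij c) (c := d) ?_
    rw [← hd]
    congr 3
    ext r s
    rw [Matrix.map_apply, Matrix.single_apply, Matrix.single_apply]
    split_ifs <;> simp
  have hg : g ∈ Subgroup.center (GL (Fin n) F) := by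
    rw [Matrix.GeneralLinearGroup.mem_center_iff_val_mem_range_scalar]
    refine Matrix.mem_range_scalar_of_commute_single fun i j hij => ?_
    have := key i j hij 1
    rw [map_one] at this
    exact this.symm
  refine ⟨?_, hg⟩
  obtain ⟨a, ha⟩ := Matrix.GeneralLinearGroup.mem_center_iff_val_mem_range_scalar.1 hg
  have ha0 : a ≠ 0 := fun h0 => by
    have h1 := Units.mul_inv g
    rw [← ha, h0, map_zero, zero_mul] at h1
    simpa using congrFun (congrFun h1 ⟨0, by omega⟩) ⟨0, by omega⟩
  refine RingEquiv.ext fun c => ?_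
  have h2 := congrFun (congrFun (key ⟨0, by omega⟩ ⟨1, by omega⟩ (by simp) c) ⟨0, by omega⟩) ⟨1, by omega⟩
  rw [← ha] at h2
  simp [Matrix.scalar_apply, mul_comm] at h2
  simpa [ha0] using h2

theorem mul_field_ne_iota (hn : 3 ≤ n) (g : GL (Fin n) F) (σ : F ≃+* F) :
    (gAut g * fAut σ : MulAut PSL) ≠ iota := by
  intro h
  have key : ∀ (i j : Fin n) (_ : i ≠ j),
      (g : M) * Matrix.single i j 1 = Matrix.single j i (-1) * (g : M) := by
    intro i j hij
    have h1 := DFunLike.congr_fun h (QuotientGroup.mk (Matrix.SpecialLinearGroup.transvection hij 1))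
    obtain ⟨d, hd⟩ := (mk_eq_mk_iff _ _).1 h1.symm
    change (g : M) * ((Matrix.SpecialLinearGroup.transvection hij 1 : SL) : M).map σ * _ =
      d • (((Matrix.SpecialLinearGroup.transvection hij 1 : SL)⁻¹ : SL) : M)ᵀ at hd
    rw [Matrix.SpecialLinearGroup.transvection_inv, Matrix.SpecialLinearGroup.transvection_coe,
      Matrix.SpecialLinearGroup.transvection_coe, Matrix.map_add _ (map_add σ),
      Matrix.map_one _ (map_zero σ) (map_one σ), Matrix.transpose_add, Matrix.transpose_one,
      Matrix.transpose_single] at hd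
    refine conj_single hij (single_sq_zero hij.symm _) (c := d) ?_
    rw [← hd]
    congr 3
    ext r s
    rw [Matrix.map_apply, Matrix.single_apply]
    split_ifs <;> simp
  have hcol : ∀ (i j : Fin n), i ≠ j → ∀ a, a ≠ j → (g : M) a i = 0 := by
    intro i j hij a ha
    have := congrFun (congrFun (key i j hij) a) j
    rwa [Matrix.mul_single_apply_same, mul_one, Matrix.single_mul_apply_of_ne (h := ha)] at this
  set i : Fin n := ⟨0, by omega⟩
  obtain ⟨j, hji, -⟩ := Classical.Linear.exists_third (n := Fin n) (by simpa using hn) i i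
  obtain ⟨k, hki, hkj⟩ := Classical.Linear.exists_third (n := Fin n) (by simpa using hn) i j
  have hzero : ∀ a, (g : M) a i = 0 := fun a => by
    by_cases ha : a = j
    · exact hcol i k hki.symm a (ha ▸ hkj.symm)
    · exact hcol i j hji.symm a ha
  have h1 := congrFun (congrFun (Units.inv_mul g) i) i
  rw [Matrix.mul_apply, Finset.sum_eq_zero fun a _ => by rw [hzero a, mul_zero],
    Matrix.one_apply_eq] at h1
  exact zero_ne_one h1

theorem gAut_eq_one_iff (hn : 2 ≤ n) (g : GL (Fin n) F) :
    (gAut g : MulAut PSL) = 1 ↔ g ∈ Subgroup.center (GL (Fin n) F) := by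
  constructor
  · intro h
    exact (mul_field_eq_one hn (σ := 1) (by rw [map_one, mul_one, h])).2
  · intro hg
    refine MulEquiv.ext fun x => ?_
    induction x using QuotientGroup.induction_on with | H s => ?_
    refine congrArg QuotientGroup.mk (Subtype.ext ?_)
    change (g : M) * (s : M) * ((g⁻¹ : GL (Fin n) F) : M) = (s : M)
    have hc := Subgroup.mem_center_iff.1 hg (Matrix.SpecialLinearGroup.toGL s)
    have := congrArg (fun x : GL (Fin n) F => (x : M)) hc
    simp only [Units.val_mul] at this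
    rw [← show (s : M) * (g : M) = (g : M) * (s : M) from this, mul_assoc, Units.mul_inv, mul_one]

/-- `1 ↦ 1` and the non-trivial element goes to inverse transpose. -/
def epow : Multiplicative (ZMod 2) →* MulAut PSL where
  toFun x := if x = 1 then 1 else iota
  map_one' := if_pos rfl
  map_mul' x y := by
    have h : ∀ z : Multiplicative (ZMod 2), z = 1 ∨ z = Multiplicative.ofAdd 1 := by decide
    have h1 : (Multiplicative.ofAdd (1 : ZMod 2)) ≠ 1 := by decide
    have h2 : (Multiplicative.ofAdd (1 : ZMod 2)) * Multiplicative.ofAdd 1 = 1 := by decide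
    rcases h x with rfl | rfl <;> rcases h y with rfl | rfl <;> simp [h1, h2, iota_mul_self]

theorem epow_conj (x : Multiplicative (ZMod 2)) (g : GL (Fin n) F) :
    ∃ g', (epow x : MulAut PSL) * gAut g = gAut g' * epow x := by
  by_cases h : x = 1
  · exact ⟨g, by simp [h]⟩
  · exact ⟨dual g, by simpa [epow, h] using iota_mul_gAut g⟩

theorem epow_fAut (x : Multiplicative (ZMod 2)) (σ : F ≃+* F) :
    (epow x : MulAut PSL) * fAut σ = fAut σ * epow x := by
  by_cases h : x = 1
  · simp [h]
  · simpa [epow, h] using iota_mul_fAut σ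

/-- Composition law of decompositions. -/
theorem mul_decomp (g g' : GL (Fin n) F) (σ σ' : F ≃+* F) (x x' : Multiplicative (ZMod 2)) :
    ∃ g'', (gAut g * fAut σ * epow x : MulAut PSL) * (gAut g' * fAut σ' * epow x') =
      gAut g'' * fAut (σ * σ') * epow (x * x') := by
  obtain ⟨g₁, hg₁⟩ := epow_conj x g'
  refine ⟨g * fieldGL σ g₁, ?_⟩
  calc (gAut g * fAut σ * epow x : MulAut PSL) * (gAut g' * fAut σ' * epow x')
      = gAut g * fAut σ * (epow x * gAut g') * fAut σ' * epow x' := by group
    _ = gAut g * (fAut σ * gAut g₁) * (epow x * fAut σ') * epow x' := by rw [hg₁]; group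
    _ = gAut g * gAut (fieldGL σ g₁) * fAut σ * fAut σ' * (epow x * epow x') := by
        rw [fAut_mul_gAut, epow_fAut]; group
    _ = _ := by rw [map_mul, map_mul, map_mul]; group

theorem eq_of_decomp (hn : 3 ≤ n) {g g' : GL (Fin n) F} {σ σ' : F ≃+* F}
    {x x' : Multiplicative (ZMod 2)}
    (h : (gAut g * fAut σ * epow x : MulAut PSL) = gAut g' * fAut σ' * epow x') :
    σ = σ' ∧ x = x' := by
  have h1 : (gAut (fieldGL σ'⁻¹ (g'⁻¹ * g)) * fAut (σ'⁻¹ * σ) : MulAut PSL) = epow (x' * x⁻¹) := by
    have h2 : (gAut (g'⁻¹ * g) * fAut σ : MulAut PSL) = fAut σ' * (epow x' * (epow x)⁻¹) := by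
      rw [map_mul, map_inv, mul_assoc, eq_mul_inv_of_mul_eq h]
      group
    rw [map_mul (fAut (n := n) (F := F)), ← mul_assoc, ← fAut_mul_gAut, mul_assoc, h2, map_inv,
      map_mul, map_inv]
    group
  by_cases hx : x' * x⁻¹ = 1
  · rw [hx, map_one] at h1
    obtain ⟨hσ, -⟩ := mul_field_eq_one (by omega) h1
    exact ⟨(inv_mul_eq_one.1 hσ).symm, (mul_inv_eq_one.1 hx).symm⟩
  · exact absurd (h1.trans (by simp [epow, hx])) (mul_field_ne_iota hn _ _)

/-- The standard symplectic matrix, inducing inverse transpose in dimension two. -/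
def symp2 : GL (Fin 2) F :=
  ⟨!![0, 1; -1, 0], !![0, -1; 1, 0],
    by simp [Matrix.one_fin_two], by simp [Matrix.one_fin_two]⟩

theorem iota_eq_gAut_two :
    (iota : MulAut (Matrix.ProjectiveSpecialLinearGroup (Fin 2) F)) = gAut symp2 := by
  rw [iota, gAut, MonoidHom.comp_apply]
  congr 1
  refine MulEquiv.ext fun s => Subtype.ext ?_
  rw [iotaSL_coe, conjSL_coe, Matrix.SpecialLinearGroup.coe_inv, Matrix.adjugate_fin_two]
  ext i j
  fin_cases i <;> fin_cases j <;> simp [symp2, Matrix.mul_apply, Matrix.vecMul, dotProduct, Fin.sum_univ_two]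

variable [Fintype F]

theorem exists_decomp' (hn : 2 ≤ n) (β : MulAut PSL) :
    ∃ (g : GL (Fin n) F) (σ : F ≃+* F) (x : Multiplicative (ZMod 2)),
      β = gAut g * fAut σ * epow x := by
  obtain ⟨g, σ, γ, hγ, h⟩ := exists_decomp hn β
  rcases hγ with rfl | rfl
  · exact ⟨g, σ, 1, by rw [map_one]; exact h⟩
  · exact ⟨g, σ, Multiplicative.ofAdd 1, h.trans (by simp [epow])⟩

theorem exists_decomp_two (β : MulAut (Matrix.ProjectiveSpecialLinearGroup (Fin 2) F)) :
    ∃ (g : GL (Fin 2) F) (σ : F ≃+* F), β = gAut g * fAut σ := by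
  obtain ⟨g, σ, γ, hγ, h⟩ := exists_decomp le_rfl β
  rcases hγ with rfl | rfl
  · exact ⟨g, σ, by simpa using h⟩
  · refine ⟨g * fieldGL σ symp2, σ, h.trans ?_⟩
    rw [iota_eq_gAut_two, mul_assoc, fAut_mul_gAut, ← mul_assoc, ← map_mul]

/-- The projection to field and graph part, for `n ≥ 3`. -/
theorem exists_proj (hn : 3 ≤ n) :
    ∃ ψ : MulAut PSL →* (F ≃+* F) × Multiplicative (ZMod 2), Function.Surjective ψ ∧
      ψ.ker = (gAut (n := n) (F := F)).range := by
  choose g σ x h using exists_decomp' (F := F) (n := n) (by omega)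
  refine ⟨MonoidHom.mk' (fun β => (σ β, x β)) fun a b => ?_, fun ⟨s, e⟩ => ⟨fAut s * epow e, ?_⟩, ?_⟩
  · obtain ⟨g'', hg⟩ := mul_decomp (g a) (g b) (σ a) (σ b) (x a) (x b)
    rw [← h a, ← h b, h (a * b)] at hg
    obtain ⟨h1, h2⟩ := eq_of_decomp hn hg
    exact Prod.ext h1 h2
  · obtain ⟨h1, h2⟩ := eq_of_decomp hn (g := g (fAut s * epow e)) (g' := 1)
      ((h (fAut s * epow e)).symm.trans (by rw [map_one, one_mul]))
    exact Prod.ext h1 h2
  · ext β
    rw [MonoidHom.mem_ker]
    constructor
    · intro hk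
      have h1 : σ β = 1 := congrArg Prod.fst hk
      have h2 : x β = 1 := congrArg Prod.snd hk
      exact ⟨g β, by conv_rhs => rw [h β, h1, h2, map_one, map_one, mul_one, mul_one]⟩
    · rintro ⟨g', rfl⟩
      obtain ⟨h1, h2⟩ := eq_of_decomp hn (g := g (gAut g')) (g' := g') (σ' := 1) (x' := 1)
        ((h (gAut g')).symm.trans (by rw [map_one, map_one, mul_one, mul_one]))
      exact Prod.ext h1 h2

/-- The projection to the field part, for `n = 2`. -/
theorem exists_proj_two :
    ∃ ψ : MulAut (Matrix.ProjectiveSpecialLinearGroup (Fin 2) F) →* (F ≃+* F),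
      Function.Surjective ψ ∧ ψ.ker = (gAut (n := 2) (F := F)).range := by
  choose g σ h using exists_decomp_two (F := F)
  have huniq : ∀ {g g' : GL (Fin 2) F} {s s' : F ≃+* F},
      (gAut g * fAut s : MulAut (Matrix.ProjectiveSpecialLinearGroup (Fin 2) F)) = gAut g' * fAut s' →
        s = s' := by
    intro g g' s s' e
    have h1 : (gAut (fieldGL s'⁻¹ (g'⁻¹ * g)) * fAut (s'⁻¹ * s) :
        MulAut (Matrix.ProjectiveSpecialLinearGroup (Fin 2) F)) = 1 := by
      rw [map_mul (fAut (n := 2) (F := F)), ← mul_assoc, ← fAut_mul_gAut, mul_assoc,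
        map_mul (gAut (n := 2) (F := F)), mul_assoc (gAut g'⁻¹), e, map_inv, map_inv]
      group
    exact (inv_mul_eq_one.1 (mul_field_eq_one le_rfl h1).1).symm
  refine ⟨MonoidHom.mk' σ fun a b => ?_, fun s => ⟨fAut s, ?_⟩, ?_⟩
  · refine huniq (g := g (a * b)) (g' := g a * fieldGL (σ a) (g b)) ?_
    calc (gAut (g (a * b)) * fAut (σ (a * b)) : MulAut _) = a * b := (h (a * b)).symm
      _ = gAut (g a) * fAut (σ a) * (gAut (g b) * fAut (σ b)) := by rw [← h a, ← h b]
      _ = gAut (g a) * (fAut (σ a) * gAut (g b)) * fAut (σ b) := by group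
      _ = _ := by rw [fAut_mul_gAut, map_mul, map_mul]; group
  · exact huniq (g' := 1) ((h (fAut s)).symm.trans (by rw [map_one, one_mul]))
  · ext β
    rw [MonoidHom.mem_ker]
    constructor
    · intro hk
      have h1 : σ β = 1 := hk
      exact ⟨g β, by conv_rhs => rw [h β, h1, map_one, mul_one]⟩
    · rintro ⟨g', rfl⟩
      exact huniq (g' := g') ((h (gAut g')).symm.trans (by rw [map_one, mul_one]))

/-- The automorphism group of a finite field of order `p ^ f` is cyclic of order `f`. -/
theorem exists_ringAut_equiv {p f : ℕ} [Fact p.Prime] (hF : Fintype.card F = p ^ f) :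
    Nonempty ((F ≃+* F) ≃* Multiplicative (ZMod f)) := by
  have : CharP F p := charP_of_card_eq_prime_pow hF
  let := ZMod.algebra F p
  let e : (F ≃+* F) ≃* Gal(F/ZMod p) :=
    { toFun := fun σ => AlgEquiv.ofRingEquiv (f := σ)
        (DFunLike.congr_fun (Subsingleton.elim (σ.toRingHom.comp (algebraMap (ZMod p) F)) (algebraMap (ZMod p) F)))
      invFun := fun a => a.toRingEquiv
      left_inv := fun _ => rfl
      right_inv := fun _ => rfl
      map_mul' := fun _ _ => rfl }
  have hc : Nat.card (Gal(F/ZMod p)) = f := by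
    rw [IsGalois.card_aut_eq_finrank]
    have h := Module.natCard_eq_pow_finrank (K := ZMod p) (V := F)
    rw [Nat.card_eq_fintype_card, hF, Nat.card_zmod] at h
    exact (Nat.pow_right_injective (Fact.out : p.Prime).two_le h).symm
  exact ⟨e.trans (mulEquivOfCyclicCardEq (by rw [hc, Nat.card_congr Multiplicative.toAdd, Nat.card_zmod]))⟩

end Cfsg.Agent.AutPSL.Out
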