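import Cfsg.Agent.Lib.AutPSL.Out

/-!
# The diagonal part of `Out(PSL_n(F))`
-/

set_option autoImplicit false

namespace Cfsg.Agent.AutPSL.Diag

open Matrix Cfsg.Agent.AutPSL.Basic Cfsg.Agent.AutPSL.Frame Cfsg.Agent.AutPSL.Main
  Cfsg.Agent.AutPSL.Out

universe u

variable {F : Type u} [Field F] [Fintype F] {n : ℕ}

local notation "PSL" => Matrix.ProjectiveSpecialLinearGroup (Fin n) F
local notation "M" => Matrix (Fin n) (Fin n) F

theorem inn_le_range : Inn PSL ≤ (gAut (n := n) (F := F)).range := by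
  rintro _ ⟨y, rfl⟩
  induction y using QuotientGroup.induction_on with | H s => ?_
  exact ⟨_, (conj_mk_eq_gAut s).symm⟩

theorem gAut_mem_inn_iff (hn : 2 ≤ n) (g : GL (Fin n) F) :
    (gAut g : MulAut PSL) ∈ Inn PSL ↔
      ∃ c : Fˣ, (c : F) ^ n = (g : M).det := by
  constructor
  · rintro ⟨y, hy⟩
    induction y using QuotientGroup.induction_on with | H s => ?_
    rw [conj_mk_eq_gAut] at hy
    have h1 : (gAut ((Matrix.SpecialLinearGroup.toGL s)⁻¹ * g) : MulAut PSL) = 1 := by
      rw [map_mul, map_inv, hy, inv_mul_cancel]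
    obtain ⟨a, ha⟩ := Matrix.GeneralLinearGroup.mem_center_iff_val_mem_range_scalar.1
      ((gAut_eq_one_iff hn _).1 h1)
    have h2 : (g : M) = (s : M) * Matrix.scalar (Fin n) a := by
      rw [ha, Units.val_mul, ← mul_assoc,
        show (s : M) * (((Matrix.SpecialLinearGroup.toGL s)⁻¹ : GL (Fin n) F) : M) = 1 from
          Units.mul_inv (Matrix.SpecialLinearGroup.toGL s), one_mul]
    have h3 := congrArg Matrix.det h2
    rw [Matrix.det_mul, s.prop, one_mul, Matrix.scalar_apply, Matrix.det_diagonal,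
      Finset.prod_const, Finset.card_univ, Fintype.card_fin] at h3
    have ha0 : a ≠ 0 := fun h0 => by
      rw [h0, zero_pow (by omega)] at h3
      exact (Matrix.GeneralLinearGroup.det g).ne_zero (by simpa using h3)
    exact ⟨Units.mk0 a ha0, h3.symm⟩
  · rintro ⟨c, hc⟩
    let s : Matrix.SpecialLinearGroup (Fin n) F := ⟨(c⁻¹ : Fˣ) • (g : M), by
      rw [Units.smul_def, Matrix.det_smul, Fintype.card_fin, ← hc, ← mul_pow, Units.inv_mul, one_pow]⟩
    refine ⟨QuotientGroup.mk s, ?_⟩
    rw [conj_mk_eq_gAut]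
    refine eq_of_mul_inv_eq_one ?_
    rw [← map_inv, ← map_mul, gAut_eq_one_iff hn,
      Matrix.GeneralLinearGroup.mem_center_iff_val_mem_range_scalar]
    refine ⟨((c⁻¹ : Fˣ) : F), ?_⟩
    change _ = ((c⁻¹ : Fˣ) • (g : M)) * ((g⁻¹ : GL (Fin n) F) : M)
    rw [smul_mul_assoc, Units.mul_inv, Matrix.scalar_apply, Units.smul_def, smul_one_eq_diagonal]

/-- The diagonal automorphisms modulo the inner ones form a cyclic group of order
`gcd(n, q - 1)`. -/
theorem card_diag (hn : 2 ≤ n) :
    ∀ K : Subgroup (Out PSL), K = (gAut (n := n) (F := F)).range.map (QuotientGroup.mk' (Inn PSL)) →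
      IsCyclic K ∧ Nat.card K = Nat.gcd n (Fintype.card F - 1) := by
  classical
  rintro K rfl
  let i₀ : Fin n := ⟨0, by omega⟩
  let d : Fˣ →* GL (Fin n) F :=
    { toFun := fun t => Matrix.GeneralLinearGroup.mkOfDetNeZero
        (Matrix.diagonal fun i => if i = i₀ then (t : F) else 1) (by simp [Matrix.det_diagonal])
      map_one' := Units.ext (by simp [Matrix.GeneralLinearGroup.mkOfDetNeZero])
      map_mul' := fun a b => Units.ext (by
        change Matrix.diagonal _ = Matrix.diagonal _ * Matrix.diagonal _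
        rw [Matrix.diagonal_mul_diagonal]
        congr 1
        funext i
        split_ifs <;> simp) }
  let f : Fˣ →* Out PSL := ((QuotientGroup.mk' (Inn PSL)).comp gAut).comp d
  have hdet : ∀ t : Fˣ, ((d t : GL (Fin n) F) : M).det = (t : F) := fun t => by
    change (Matrix.diagonal _).det = _
    rw [Matrix.det_diagonal]
    simp
  have hrange : (gAut (n := n) (F := F)).range.map (QuotientGroup.mk' (Inn PSL)) = f.range := by
    refine le_antisymm ?_ ?_
    · rintro _ ⟨_, ⟨g, rfl⟩, rfl⟩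
      refine ⟨Matrix.GeneralLinearGroup.det g, (QuotientGroup.eq.2 ?_)⟩
      rw [← map_inv, ← map_mul, gAut_mem_inn_iff hn]
      refine ⟨1, ?_⟩
      rw [Units.val_one, one_pow, Units.val_mul, Matrix.det_mul, Matrix.coe_units_inv,
        Matrix.det_nonsing_inv, hdet]
      have hne := (Matrix.GeneralLinearGroup.det g).ne_zero
      simp at hne ⊢
      rw [inv_mul_cancel₀ hne]
    · rintro _ ⟨t, rfl⟩
      exact ⟨_, ⟨_, rfl⟩, rfl⟩
  have hker : f.ker = (powMonoidHom n : Fˣ →* Fˣ).range := by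
    ext t
    rw [MonoidHom.mem_ker]
    change (QuotientGroup.mk (gAut (d t)) : Out PSL) = 1 ↔ _
    rw [QuotientGroup.eq_one_iff, gAut_mem_inn_iff hn, hdet]
    simp [MonoidHom.mem_range, powMonoidHom_apply, Units.ext_iff]
  rw [hrange]
  refine ⟨isCyclic_of_surjective f.rangeRestrict f.rangeRestrict_surjective, ?_⟩
  rw [← Subgroup.index_ker, hker, IsCyclic.index_powMonoidHom_range, Nat.card_units,
    Nat.card_eq_fintype_card, Nat.gcd_comm]

end Cfsg.Agent.AutPSL.Diag
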