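import Cfsg.Prelude.Def_LieTypeDatum

/-!
# `splitClassCount` as an index, and its invariance under conjugation
-/

set_option autoImplicit false

namespace Cfsg.Agent.AutPSL.SplitClass

variable {X : Type*} [Group X]

theorem splitClassCount_eq (H K : Subgroup X) [K.Normal] (hK : K ≤ H) (x : X) :
    splitClassCount H K x = (K ⊔ (H ⊓ Subgroup.centralizer {x})).relIndex H := by
  classical
  set D := K ⊔ (H ⊓ Subgroup.centralizer {x}) with hD
  have key : ∀ h h' : H, IsConjUnder K ((h : X) * x * (h : X)⁻¹) ((h' : X) * x * (h' : X)⁻¹) ↔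
      (h : X)⁻¹ * h' ∈ D := by
    intro h h'
    rw [hD, Subgroup.mem_sup_of_normal_left]
    constructor
    · rintro ⟨k, hk, e⟩
      refine ⟨(h : X)⁻¹ * k * h, ?_, (h : X)⁻¹ * k⁻¹ * h', Subgroup.mem_inf.2 ⟨?_, ?_⟩, by group⟩
      · simpa using (inferInstance : K.Normal).conj_mem k hk (h : X)⁻¹
      · exact mul_mem (mul_mem (inv_mem h.2) (inv_mem (hK hk))) h'.2
      · refine Subgroup.mem_centralizer_singleton_iff.2 ?_
        calc (h : X)⁻¹ * k⁻¹ * h' * x = (h : X)⁻¹ * k⁻¹ * ((h' : X) * x * (h' : X)⁻¹) * h' := by group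
          _ = (h : X)⁻¹ * k⁻¹ * (k * ((h : X) * x * (h : X)⁻¹) * k⁻¹) * h' := by rw [e]
          _ = x * ((h : X)⁻¹ * k⁻¹ * h') := by group
    · rintro ⟨k, hk, c, ⟨-, hc⟩, e⟩
      refine ⟨(h : X) * k * (h : X)⁻¹, (inferInstance : K.Normal).conj_mem k hk h, ?_⟩
      have hc' : c * x * c⁻¹ = x := by
        rw [Subgroup.mem_centralizer_singleton_iff.1 hc, mul_inv_cancel_right]
      have he : (h' : X) = h * (k * c) := by rw [e, mul_inv_cancel_left]
      calc (h' : X) * x * (h' : X)⁻¹ = (h : X) * k * (c * x * c⁻¹) * k⁻¹ * (h : X)⁻¹ := by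
            rw [he]; group
        _ = _ := by rw [hc']; group
  let R := fun y z : {y : X // IsConjUnder H x y} => IsConjUnder K y.1 z.1
  let g : H → Quot R := fun h => Quot.mk R ⟨(h : X) * x * (h : X)⁻¹, h, h.2, rfl⟩
  have hg : ∀ h h' : H, (h : X)⁻¹ * h' ∈ D → g h = g h' := fun h h' hh =>
    Quot.sound ((key h h').2 hh)
  let g' : H ⧸ D.subgroupOf H → Quot R := Quotient.lift g fun a b hab =>
    hg a b (Subgroup.mem_subgroupOf.1 (QuotientGroup.leftRel_apply.1 hab))
  have hbij : Function.Bijective g' := by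
    refine ⟨?_, ?_⟩
    · intro a b
      induction a using QuotientGroup.induction_on with | H a => ?_
      induction b using QuotientGroup.induction_on with | H b => ?_
      intro hab
      have hequiv : Equivalence R := by
        refine ⟨fun y => ⟨1, one_mem _, by simp⟩, ?_, ?_⟩
        · rintro y z ⟨k, hk, e⟩
          exact ⟨k⁻¹, inv_mem hk, by rw [e]; group⟩
        · rintro y z w ⟨k, hk, e⟩ ⟨l, hl, e'⟩
          exact ⟨l * k, mul_mem hl hk, by rw [e', e]; group⟩
      rw [QuotientGroup.eq, Subgroup.mem_subgroupOf]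
      exact (key a b).1 (hequiv.quot_mk_eq_iff _ _ |>.1 hab)
    · intro q
      induction q using Quot.ind with | mk y => ?_
      obtain ⟨y, h, hh, rfl⟩ := y
      exact ⟨QuotientGroup.mk ⟨h, hh⟩, rfl⟩
  rw [splitClassCount, Subgroup.relIndex, Subgroup.index]
  exact (Nat.card_eq_of_bijective g' hbij).symm

theorem map_conj_inf_centralizer (H : Subgroup X) [H.Normal] (α x : X) :
    (H ⊓ Subgroup.centralizer {x}).map (MulAut.conj α).toMonoidHom =
      H ⊓ Subgroup.centralizer {α * x * α⁻¹} := by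
  ext y
  constructor
  · rintro ⟨z, ⟨hz, hzc⟩, rfl⟩
    refine ⟨(inferInstance : H.Normal).conj_mem z hz α, Subgroup.mem_centralizer_singleton_iff.2 ?_⟩
    change α * z * α⁻¹ * (α * x * α⁻¹) = α * x * α⁻¹ * (α * z * α⁻¹)
    calc α * z * α⁻¹ * (α * x * α⁻¹) = α * (z * x) * α⁻¹ := by group
      _ = _ := by rw [Subgroup.mem_centralizer_singleton_iff.1 hzc]; group
  · rintro ⟨hy, hyc⟩
    refine ⟨α⁻¹ * y * α, ⟨by simpa using (inferInstance : H.Normal).conj_mem y hy α⁻¹,
      Subgroup.mem_centralizer_singleton_iff.2 ?_⟩, ?_⟩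
    · calc α⁻¹ * y * α * x = α⁻¹ * (y * (α * x * α⁻¹)) * α := by group
        _ = _ := by rw [Subgroup.mem_centralizer_singleton_iff.1 hyc]; group
    · change α * (α⁻¹ * y * α) * α⁻¹ = y
      group

theorem nonempty_centralizer_conj (H : Subgroup X) [H.Normal] (α x : X) :
    Nonempty (↥(H ⊓ Subgroup.centralizer {x}) ≃* ↥(H ⊓ Subgroup.centralizer {α * x * α⁻¹})) :=
  ⟨((MulAut.conj α).subgroupMap _).trans (MulEquiv.subgroupCongr (map_conj_inf_centralizer H α x))⟩

theorem map_conj_normal (H : Subgroup X) [H.Normal] (α : X) :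
    H.map (MulAut.conj α).toMonoidHom = H := by
  have h := map_conj_inf_centralizer H α 1
  have htop : Subgroup.centralizer {(1 : X)} = ⊤ := by
    ext y; simp [Subgroup.mem_centralizer_singleton_iff]
  simpa [htop] using h

theorem splitClassCount_conj (H K : Subgroup X) [H.Normal] [K.Normal] (hK : K ≤ H) (α x : X) :
    splitClassCount H K (α * x * α⁻¹) = splitClassCount H K x := by
  rw [splitClassCount_eq H K hK, splitClassCount_eq H K hK, ← map_conj_inf_centralizer H α x]
  conv_lhs => rw [← map_conj_normal K α, ← Subgroup.map_sup]; arg 2; rw [← map_conj_normal H α]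
  exact Subgroup.relIndex_map_map_of_injective _ _ (MulAut.conj α).injective

end Cfsg.Agent.AutPSL.SplitClass
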