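import Cfsg.Agent.Lib.AutPSL.Conj
import Cfsg.Agent.Lib.AutPSL.Diag
import Cfsg.Agent.Lib.AutPSL.SplitClass

/-!
# The centraliser of a standard field automorphism in the inner-diagonal group
-/

set_option autoImplicit false

namespace Cfsg.Agent.AutPSL.FieldCent

open Matrix Cfsg.Agent.AutPSL.Basic Cfsg.Agent.AutPSL.Frame Cfsg.Agent.AutPSL.Main
  Cfsg.Agent.AutPSL.Out Cfsg.Agent.AutPSL.Speiser Cfsg.Agent.AutPSL.Conj Cfsg.Agent.AutPSL.Diag
  Cfsg.Agent.AutPSL.SplitClass

universe u v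

variable {F : Type u} [Field F] [Fintype F] {n : ℕ} {F₀ : Type v} [Field F₀] [Fintype F₀]

local notation "PSL" => Matrix.ProjectiveSpecialLinearGroup (Fin n) F
local notation "M" => Matrix (Fin n) (Fin n) F

theorem dvd_degree {p f : ℕ} [Fact p.Prime] (hF : Fintype.card F = p ^ f) (σ : F ≃+* F) :
    orderOf σ ∣ f := by
  obtain ⟨e⟩ := exists_ringAut_equiv (F := F) hF
  have h := orderOf_dvd_natCard σ
  rwa [Nat.card_congr e.toEquiv, Nat.card_congr Multiplicative.toAdd, Nat.card_zmod] at h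

theorem exists_emb {p f r : ℕ} [Fact p.Prime] (hF : Fintype.card F = p ^ f) (σ : F ≃+* F)
    (hσ : orderOf σ = r) (hF₀ : Fintype.card F₀ = p ^ (f / r)) :
    ∃ ι : F₀ →+* F, (∀ y, σ (ι y) = ι y) ∧ ∀ x, σ x = x → ∃ y, ι y = x := by
  classical
  have : Finite (F ≃+* F) := Finite.of_injective (fun e => (e : F → F)) DFunLike.coe_injective
  let G : Subgroup (RingAut F) := Subgroup.zpowers σ
  have : Fintype G := Fintype.ofFinite _
  let K := FixedPoints.subfield G F
  have hmem : ∀ x : F, x ∈ K ↔ σ x = x := by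
    intro x
    refine ⟨fun h => h ⟨σ, Subgroup.mem_zpowers σ⟩, fun h => ?_⟩
    rintro ⟨g, hg⟩
    obtain ⟨k, rfl⟩ := Subgroup.mem_zpowers_iff.1 hg
    change (σ ^ k) • x = x
    exact MulAction.mem_fixedBy_zpow (show x ∈ MulAction.fixedBy F (σ : RingAut F) from h) k
  have hcard : Fintype.card K = p ^ (f / r) := by
    have h1 := Module.natCard_eq_pow_finrank (K := K) (V := F)
    rw [FixedPoints.finrank_eq_card, ← Nat.card_eq_fintype_card (α := G), Nat.card_zpowers, hσ,
      Nat.card_eq_fintype_card, hF] at h1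
    have hdvd : Fintype.card K ∣ p ^ f := by
      rw [h1, Nat.card_eq_fintype_card]
      exact dvd_pow_self _ (hσ ▸ (orderOf_pos σ).ne')
    obtain ⟨k, -, hk⟩ := (Nat.dvd_prime_pow Fact.out).1 hdvd
    rw [Nat.card_eq_fintype_card, hk, ← pow_mul] at h1
    rw [hk, Nat.pow_right_injective (Fact.out : p.Prime).two_le h1,
      Nat.mul_div_cancel _ (hσ ▸ orderOf_pos σ)]
  let e : F₀ ≃+* K := FiniteField.ringEquivOfCardEq (hF₀.trans hcard.symm)
  exact ⟨K.subtype.comp e.toRingHom, fun y => (hmem _).1 (e y).2,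
    fun x hx => ⟨e.symm ⟨x, (hmem x).2 hx⟩, by simp⟩⟩

variable (ι : F₀ →+* F)

/-- The matrices over the subfield, acting on `PSL_n(F)`. -/
def subAct : GL (Fin n) F₀ →* MulAut PSL :=
  gAut.comp (Matrix.GeneralLinearGroup.map ι)

theorem subAct_ker (hn : 2 ≤ n) :
    (subAct (n := n) ι).ker = Subgroup.center (GL (Fin n) F₀) := by
  ext g
  rw [MonoidHom.mem_ker, subAct, MonoidHom.comp_apply, gAut_eq_one_iff hn]
  constructor
  · intro hg
    refine Subgroup.mem_center_iff.2 fun h => ?_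
    have := Subgroup.mem_center_iff.1 hg (Matrix.GeneralLinearGroup.map ι h)
    rw [← map_mul, ← map_mul] at this
    refine Units.ext (Matrix.ext fun i j => ι.injective ?_)
    exact congrArg (fun g : GL (Fin n) F => (g : M) i j) this
  · intro hg
    obtain ⟨a, rfl⟩ := exists_sc (by omega) hg
    rw [show Matrix.GeneralLinearGroup.map ι (sc a : GL (Fin n) F₀) =
        sc (Units.map ι.toMonoidHom a) from Units.ext (by
      change ((Matrix.scalar (Fin n) (a : F₀)).map ι) = Matrix.scalar (Fin n) (ι a)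
      rw [Matrix.scalar_apply, Matrix.scalar_apply, Matrix.diagonal_map (map_zero ι)])]
    exact sc_mem_center _

theorem subAct_range (hn : 2 ≤ n) (σ : F ≃+* F) (hfix : ∀ y, σ (ι y) = ι y)
    (hsur : ∀ x, σ x = x → ∃ y, ι y = x) :
    (subAct (n := n) ι).range =
      (gAut (n := n) (F := F)).range ⊓ Subgroup.centralizer {(fAut σ : MulAut PSL)} := by
  refine le_antisymm ?_ ?_
  · rintro _ ⟨g, rfl⟩
    refine ⟨⟨_, rfl⟩, Subgroup.mem_centralizer_singleton_iff.2 ?_⟩
    rw [subAct, MonoidHom.comp_apply, fAut_mul_gAut]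
    congr 2
    exact Units.ext (Matrix.ext fun i j => (hfix _).symm)
  · rintro _ ⟨⟨A, rfl⟩, hA⟩
    have h1 := Subgroup.mem_centralizer_singleton_iff.1 hA
    rw [fAut_mul_gAut] at h1
    have h2 : (gAut ((fieldGL σ A)⁻¹ * A) : MulAut PSL) = 1 := by
      rw [map_mul, mul_right_cancel h1, ← map_mul, inv_mul_cancel, map_one]
    obtain ⟨c, hc⟩ := exists_sc (by omega) ((gAut_eq_one_iff hn _).1 h2)
    have hA2 : A = sc c * fieldGL σ A := by rw [sc_comm, hc, mul_inv_cancel_left]
    obtain ⟨b, hb⟩ : ∃ b : Fˣ, σ (b : F) * (c : F) = (b : F) := by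
      have hiter : ∀ i, A = twist σ (sc c) i * fieldGL (σ ^ i) A := by
        intro i
        induction i with
        | zero => simp [twist, fieldGL_one]
        | succ i ih =>
          rw [twist, pow_succ', fieldGL_mul, mul_assoc, ← map_mul, ← ih]
          exact hA2
      have htw : twist σ (sc c : GL (Fin n) F) (orderOf σ) = 1 := by
        have h3 := hiter (orderOf σ)
        rw [pow_orderOf_eq_one, fieldGL_one] at h3
        exact mul_right_cancel (h3.symm.trans (one_mul A).symm)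
      obtain ⟨B, hB⟩ := speiser σ _ htw
      have hB2 := eq_mul_inv_iff_mul_eq.1 hB
      obtain ⟨i, j, hij⟩ : ∃ i j, (B : M) i j ≠ 0 := by
        by_contra h
        push Not at h
        have : Nonempty (Fin n) := ⟨⟨0, by omega⟩⟩
        exact B.ne_zero (Matrix.ext h)
      refine ⟨Units.mk0 _ hij, ?_⟩
      have h4 : ((sc c * fieldGL σ B : GL (Fin n) F) : M) i j = (B : M) i j :=
        congrArg (fun g : GL (Fin n) F => (g : M) i j) hB2
      rw [Units.val_mul, sc_coe, Matrix.scalar_apply, Matrix.diagonal_mul, fieldGL_coe,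
        Matrix.map_apply] at h4
      rw [Units.val_mk0, mul_comm]
      exact h4
    have hfixA : fieldGL σ (sc b⁻¹ * A) = sc b⁻¹ * A := by
      rw [map_mul, fieldGL_sc]
      conv_rhs => rw [hA2]
      rw [← mul_assoc, ← map_mul]
      congr 2
      refine Units.ext ?_
      change σ ((b⁻¹ : Fˣ) : F) = ((b⁻¹ : Fˣ) : F) * (c : F)
      have := (map_ne_zero σ).2 b.ne_zero
      rw [Units.val_inv_eq_inv_val, map_inv₀]
      field_simp
      linear_combination -hb
    have hent : ∀ i j, ∃ y, ι y = ((sc b⁻¹ * A : GL (Fin n) F) : M) i j := fun i j =>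
      hsur _ (congrArg (fun g : GL (Fin n) F => (g : M) i j) hfixA)
    choose B hB using hent
    have hBM : (Matrix.of B).map ι = ((sc b⁻¹ * A : GL (Fin n) F) : M) := Matrix.ext hB
    have hdet : (Matrix.of B).det ≠ 0 := fun h0 => by
      have h5 := congrArg ι h0
      rw [RingHom.map_det, RingHom.mapMatrix_apply, hBM, map_zero] at h5
      exact (Matrix.GeneralLinearGroup.det (sc b⁻¹ * A)).ne_zero (by simpa using h5)
    refine ⟨Matrix.GeneralLinearGroup.mkOfDetNeZero _ hdet, ?_⟩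
    have : Matrix.GeneralLinearGroup.map ι
        (Matrix.GeneralLinearGroup.mkOfDetNeZero _ hdet) = sc b⁻¹ * A := Units.ext hBM
    rw [subAct, MonoidHom.comp_apply, this, map_mul, gAut_sc hn, one_mul]

theorem sup_range_pow {G : Type*} [CommGroup G] (a b : ℕ) :
    (powMonoidHom a : G →* G).range ⊔ (powMonoidHom b).range =
      (powMonoidHom (a.gcd b)).range := by
  refine le_antisymm (sup_le ?_ ?_) ?_
  · rintro _ ⟨x, rfl⟩
    obtain ⟨k, hk⟩ := Nat.gcd_dvd_left a b
    exact ⟨x ^ k, by simp only [powMonoidHom_apply]; rw [← pow_mul, mul_comm, ← hk]⟩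
  · rintro _ ⟨x, rfl⟩
    obtain ⟨k, hk⟩ := Nat.gcd_dvd_right a b
    exact ⟨x ^ k, by simp only [powMonoidHom_apply]; rw [← pow_mul, mul_comm, ← hk]⟩
  · rintro _ ⟨x, rfl⟩
    refine Subgroup.mem_sup.2 ⟨_, ⟨x ^ a.gcdA b, rfl⟩, _, ⟨x ^ a.gcdB b, rfl⟩, ?_⟩
    simp only [powMonoidHom_apply]
    rw [← zpow_natCast, ← zpow_natCast _ b, ← _root_.zpow_mul, ← _root_.zpow_mul, ← _root_.zpow_add,
      mul_comm (a.gcdA b), mul_comm (a.gcdB b), ← Nat.gcd_eq_gcd_ab, zpow_natCast]

theorem range_eq_pow_range (hι : Function.Injective ι) :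
    (Units.map (ι : F₀ →* F)).range =
      (powMonoidHom ((Fintype.card F - 1) / (Fintype.card F₀ - 1)) : Fˣ →* Fˣ).range ∧
    (Fintype.card F₀ - 1) ∣ (Fintype.card F - 1) := by
  classical
  have hinj : Function.Injective (Units.map (ι : F₀ →* F)) := Units.map_injective hι
  have hcard : Nat.card (Units.map (ι : F₀ →* F)).range = Fintype.card F₀ - 1 := by
    rw [← Nat.card_congr (MonoidHom.ofInjective hinj).toEquiv, Nat.card_units,
      Nat.card_eq_fintype_card]
  have hdvd : (Fintype.card F₀ - 1) ∣ (Fintype.card F - 1) := by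
    have := Subgroup.card_subgroup_dvd_card (Units.map (ι : F₀ →* F)).range
    rwa [hcard, Nat.card_units, Nat.card_eq_fintype_card] at this
  refine ⟨Subgroup.eq_of_le_of_card_ge ?_ ?_, hdvd⟩
  · rintro _ ⟨a, rfl⟩
    obtain ⟨g, hg⟩ := IsCyclic.exists_generator (α := Fˣ)
    obtain ⟨k, hk⟩ := Submonoid.mem_powers_iff _ _ |>.1 ((mem_powers_iff_mem_zpowers).2 (hg (Units.map (ι : F₀ →* F) a)))
    have h1 : (g ^ k) ^ (Fintype.card F₀ - 1) = 1 := by
      rw [hk, ← map_pow, ← Fintype.card_units, pow_card_eq_one, map_one]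
    rw [← pow_mul, ← orderOf_dvd_iff_pow_eq_one, orderOf_eq_card_of_forall_mem_zpowers hg,
      Nat.card_units, Nat.card_eq_fintype_card] at h1
    obtain ⟨m, hm⟩ := hdvd
    have hm0 : 0 < Fintype.card F₀ - 1 := by
      have := Fintype.one_lt_card (α := F₀); omega
    rw [hm, Nat.mul_div_cancel_left _ hm0]
    rw [hm, mul_comm k] at h1
    obtain ⟨l, hl⟩ := Nat.dvd_of_mul_dvd_mul_left hm0 h1
    exact ⟨g ^ l, by rw [powMonoidHom_apply, ← pow_mul, ← hk, hl, mul_comm]⟩
  · rw [hcard, IsCyclic.card_powMonoidHom_range, Nat.card_units, Nat.card_eq_fintype_card,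
      Nat.gcd_eq_right (Nat.div_dvd_of_dvd hdvd),
      Nat.div_div_self hdvd (by have := Fintype.one_lt_card (α := F); omega)]

theorem splitClassCount_fAut (hn : 2 ≤ n) (σ : F ≃+* F) (hfix : ∀ y, σ (ι y) = ι y)
    (hsur : ∀ x, σ x = x → ∃ y, ι y = x) :
    splitClassCount (gAut (n := n) (F := F)).range (Inn PSL) (fAut σ) =
      Nat.gcd n ((Fintype.card F - 1) / (Fintype.card F₀ - 1)) := by
  classical
  have : (Inn PSL).Normal := inferInstance
  obtain ⟨hP, hdvd⟩ := range_eq_pow_range ι ι.injective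
  rw [splitClassCount_eq _ _ inn_le_range, ← subAct_range ι hn σ hfix hsur, ← Subgroup.index_comap]
  have hmap : ∀ g : GL (Fin n) F₀, Matrix.GeneralLinearGroup.det
      (Matrix.GeneralLinearGroup.map ι g) =
      Units.map (ι : F₀ →* F) (Matrix.GeneralLinearGroup.det g) := fun g =>
    Matrix.GeneralLinearGroup.map_det ι g
  have hdetsur : Function.Surjective (Matrix.GeneralLinearGroup.det : GL (Fin n) F →* Fˣ) := by
    intro a
    refine ⟨Matrix.GeneralLinearGroup.mkOfDetNeZero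
      (Matrix.diagonal fun i => if i = ⟨0, by omega⟩ then (a : F) else 1) (by simp [Matrix.det_diagonal]),
      Units.ext ?_⟩
    simp [Matrix.GeneralLinearGroup.mkOfDetNeZero, Matrix.det_diagonal]
  have hcomap : Subgroup.comap (gAut (n := n) (F := F)) (Inn PSL ⊔ (subAct (n := n) ι).range) =
      Subgroup.comap Matrix.GeneralLinearGroup.det
        ((powMonoidHom n : Fˣ →* Fˣ).range ⊔ (Units.map (ι : F₀ →* F)).range) := by
    ext g
    rw [Subgroup.mem_comap, Subgroup.mem_comap, Subgroup.mem_sup_of_normal_left,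
      Subgroup.mem_sup]
    constructor
    · rintro ⟨i, hi, _, ⟨A, rfl⟩, e⟩
      set A' := Matrix.GeneralLinearGroup.map ι A
      have h1 : (gAut (g * A'⁻¹) : MulAut PSL) ∈ Inn PSL := by
        rw [map_mul, map_inv, ← e]
        simpa [subAct, A'] using hi
      obtain ⟨c, hc⟩ := (gAut_mem_inn_iff hn _).1 h1
      refine ⟨c ^ n, ⟨c, rfl⟩, _, ⟨Matrix.GeneralLinearGroup.det A, rfl⟩, ?_⟩
      rw [← hmap, show c ^ n = Matrix.GeneralLinearGroup.det (g * A'⁻¹) from Units.ext hc,
        ← map_mul, inv_mul_cancel_right]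
    · rintro ⟨_, ⟨c, rfl⟩, _, ⟨a, rfl⟩, e⟩
      obtain ⟨A, rfl⟩ : ∃ A : GL (Fin n) F₀, Matrix.GeneralLinearGroup.det A = a := by
        refine ⟨Matrix.GeneralLinearGroup.mkOfDetNeZero
          (Matrix.diagonal fun i => if i = ⟨0, by omega⟩ then (a : F₀) else 1)
          (by simp [Matrix.det_diagonal]), Units.ext ?_⟩
        simp [Matrix.GeneralLinearGroup.mkOfDetNeZero, Matrix.det_diagonal]
      set A' := Matrix.GeneralLinearGroup.map ι A with hA'
      refine ⟨gAut (g * A'⁻¹), (gAut_mem_inn_iff hn _).2 ⟨c, ?_⟩, _, ⟨A, rfl⟩, ?_⟩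
      · have h2 : Matrix.GeneralLinearGroup.det (g * A'⁻¹) = c ^ n := by
          rw [map_mul, map_inv, hA', hmap, ← e, powMonoidHom_apply, mul_inv_cancel_right]
        exact (congrArg Units.val h2).symm
      · rw [subAct, MonoidHom.comp_apply, ← hA', ← map_mul, inv_mul_cancel_right]
  rw [hcomap, Subgroup.index_comap_of_surjective _ hdetsur, hP, sup_range_pow,
    IsCyclic.index_powMonoidHom_range, Nat.card_units, Nat.card_eq_fintype_card,
    Nat.gcd_eq_right (dvd_trans (Nat.gcd_dvd_right _ _) (Nat.div_dvd_of_dvd hdvd))]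

theorem main {p f : ℕ} [Fact p.Prime] (hF : Fintype.card F = p ^ f) (hn : 2 ≤ n) (x : MulAut PSL)
    (hx : IsFieldAutClassPSL x) {r : ℕ} (hxr : orderOf x = r)
    (hF₀ : Fintype.card F₀ = p ^ (f / r)) :
    r ∣ f ∧
    Nonempty (↥(inndiagPSL n F ⊓ Subgroup.centralizer {x}) ≃* Matrix.ProjGenLinGroup (Fin n) F₀) ∧
    splitClassCount (inndiagPSL n F) (Inn PSL) x =
      Nat.gcd n ((p ^ f - 1) / (p ^ (f / r) - 1)) := by
  obtain ⟨α, σ, -, hφ⟩ := hx
  have hφ' := (isStdFieldAutPSL_iff _ _).1 hφ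
  rw [← orderOf_conj α, hφ'] at hxr
  have hσ := field_order hn hxr
  obtain ⟨ι, hfix, hsur⟩ := exists_emb (F₀ := F₀) hF σ hσ hF₀
  have := range_normal (F := F) hn
  have : (Inn PSL).Normal := inferInstance
  rw [inndiagPSL_eq]
  refine ⟨hσ ▸ dvd_degree hF σ, ?_, ?_⟩
  · obtain ⟨e⟩ := nonempty_centralizer_conj (gAut (n := n) (F := F)).range α x
    rw [hφ'] at e
    refine ⟨e.trans ((MulEquiv.subgroupCongr (subAct_range ι hn σ hfix hsur).symm).trans ?_)⟩
    exact ((QuotientGroup.quotientKerEquivRange (subAct (n := n) ι)).symm.trans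
      (QuotientGroup.quotientMulEquivOfEq (subAct_ker ι hn)))
  · rw [← splitClassCount_conj _ _ inn_le_range α x, hφ', splitClassCount_fAut ι hn σ hfix hsur,
      hF, hF₀]

end Cfsg.Agent.AutPSL.FieldCent
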