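import Cfsg.Agent.Lib.AutPSL.GraphBalance
import Cfsg.Agent.Lib.AutPSL.FieldCent
import Cfsg.Agent.Lib.AutPSp.LocalBalance

/-!
# Local balance for outer automorphisms of `PSL_n(F)`

The `p'`-core of the centraliser of an automorphism of prime order `p` that is not inner-diagonal
is non-trivial exactly for field automorphisms whose fixed point group has order prime to `p`.
-/

set_option autoImplicit false

namespace Cfsg.Agent.AutPSL.LocalBalance

open Matrix Cfsg.Agent.AutPSL.Basic Cfsg.Agent.AutPSL.Main Cfsg.Agent.AutPSL.Out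
  Cfsg.Agent.AutPSL.Conj Cfsg.Agent.AutPSL.FieldCent Cfsg.Agent.AutPSL.Roots

universe u v

variable {F : Type u} [Field F] {n : ℕ} {F₀ : Type v} [Field F₀]

local notation "V" => (Fin n → F)
local notation "M" => Matrix (Fin n) (Fin n) F
local notation "SL" => Matrix.SpecialLinearGroup (Fin n) F
local notation "PSL" => Matrix.ProjectiveSpecialLinearGroup (Fin n) F

theorem conj_injective (hn : 2 ≤ n) : Function.Injective (MulAut.conj : PSL →* MulAut PSL) := by
  refine (injective_iff_map_eq_one _).2 fun k hk => ?_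
  induction k using QuotientGroup.induction_on with | H s => ?_
  rw [Frame.conj_mk_eq_gAut] at hk
  obtain ⟨a, ha⟩ := exists_sc (by omega) ((gAut_eq_one_iff hn _).1 hk)
  refine (mk_eq_one_iff s).2 ⟨(a : F), ?_⟩
  have h := congrArg (fun g : GL (Fin n) F => (g : M)) ha
  simp only [sc_coe, Matrix.scalar_apply, ← smul_one_eq_diagonal] at h
  exact h.symm

/-! ### Two by two matrices over the two smallest fields -/

theorem sq_two_by_two {E : Type v} [Field E] (s : Matrix.SpecialLinearGroup (Fin 2) E) :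
    ((s : Matrix (Fin 2) (Fin 2) E) * (s : Matrix (Fin 2) (Fin 2) E)) =
      ((s : Matrix (Fin 2) (Fin 2) E) 0 0 + (s : Matrix (Fin 2) (Fin 2) E) 1 1) •
        (s : Matrix (Fin 2) (Fin 2) E) - 1 := by
  have hd : (s : Matrix (Fin 2) (Fin 2) E).det = 1 := s.prop
  rw [det_fin_two] at hd
  ext i j
  fin_cases i <;> fin_cases j <;> simp [Matrix.mul_apply, Fin.sum_univ_two] <;>
    first
    | linear_combination hd
    | linear_combination -hd
    | ring

theorem small_pow_twelve {E : Type v} [Field E] (hE : ∀ a : E, a = 0 ∨ a * a = 1)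
    (s : Matrix.SpecialLinearGroup (Fin 2) E) : s ^ 12 = 1 := by
  have h := sq_two_by_two s
  set A := (s : Matrix (Fin 2) (Fin 2) E)
  set t := A 0 0 + A 1 1
  refine Subtype.ext ?_
  rw [Matrix.SpecialLinearGroup.coe_pow, Matrix.SpecialLinearGroup.coe_one]
  change A ^ 12 = 1
  rcases hE t with ht | ht
  · rw [ht, zero_smul, zero_sub] at h
    rw [show (12 : ℕ) = 2 * 6 from rfl, pow_mul, pow_two, h, Even.neg_pow ⟨3, rfl⟩, one_pow]
  · have h3 : A ^ 3 = (-t) • (1 : Matrix (Fin 2) (Fin 2) E) := by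
      rw [pow_succ, pow_two, h, Matrix.sub_mul, Matrix.smul_mul, h, Matrix.one_mul, smul_sub,
        smul_smul, ht, one_smul, neg_smul]
      abel
    rw [show (12 : ℕ) = 3 * 4 from rfl, pow_mul, h3, smul_pow, one_pow,
      show (-t) ^ 4 = 1 by linear_combination (t * t + 1) * ht, one_smul]

theorem small_normal {E : Type v} [Field E] (hE : ∀ a : E, a = 0 ∨ a * a = 1)
    (N : Subgroup (Matrix.SpecialLinearGroup (Fin 2) E)) [hNn : N.Normal]
    (hN : ¬ N ≤ Subgroup.center _) :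
    ∃ n ∈ N, n ∉ Subgroup.center _ ∧
      ((2 : E) = 0 → n ^ 3 = 1) ∧ ((3 : E) = 0 → n ^ 4 = 1) := by
  obtain ⟨g₀, hg₀, hc⟩ := Set.not_subset.1 hN
  -- move to an element with non-zero lower left corner
  obtain ⟨g, hg, hg10⟩ : ∃ g ∈ N, (g : Matrix (Fin 2) (Fin 2) E) 1 0 ≠ 0 := by
    by_contra hall
    push Not at hall
    let w : Matrix.SpecialLinearGroup (Fin 2) E := ⟨!![0, 1; -1, 0], by simp [det_fin_two]⟩
    let l : Matrix.SpecialLinearGroup (Fin 2) E := ⟨!![1, 0; 1, 1], by simp [det_fin_two]⟩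
    have h0 := hall g₀ hg₀
    have h1 := hall _ (hNn.conj_mem g₀ hg₀ w)
    have h2 := hall _ (hNn.conj_mem g₀ hg₀ l)
    have hw : (w : Matrix (Fin 2) (Fin 2) E) = !![0, 1; -1, 0] := rfl
    have hl : (l : Matrix (Fin 2) (Fin 2) E) = !![1, 0; 1, 1] := rfl
    clear_value w l
    simp [hw, hl, Matrix.SpecialLinearGroup.coe_inv, Matrix.adjugate_fin_two, Matrix.mul_apply,
      Matrix.vecMul, dotProduct, Fin.sum_univ_two, h0] at h1 h2
    refine hc (Matrix.SpecialLinearGroup.mem_center_iff.2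
      ⟨(g₀ : Matrix (Fin 2) (Fin 2) E) 0 0, ?_, ?_⟩)
    · have hd : (g₀ : Matrix (Fin 2) (Fin 2) E).det = 1 := g₀.prop
      rw [det_fin_two, h0, mul_zero, sub_zero] at hd
      rw [h1] at h2
      simp only [Fintype.card_fin, pow_two]
      linear_combination hd + (g₀ : Matrix (Fin 2) (Fin 2) E) 0 0 * h2
    · rw [h1] at h2
      ext i j
      fin_cases i <;> fin_cases j <;> simp [h0, h1] <;> linear_combination h2
  let t : Matrix.SpecialLinearGroup (Fin 2) E := ⟨!![1, 1; 0, 1], by simp [det_fin_two]⟩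
  set z := g * (t * g⁻¹ * t⁻¹)
  have hz : z ∈ N := N.mul_mem hg (hNn.conj_mem _ (N.inv_mem hg) t)
  set A := (z : Matrix (Fin 2) (Fin 2) E)
  have htr : A 0 0 + A 1 1 = 3 := by
    have hd : (g : Matrix (Fin 2) (Fin 2) E).det = 1 := g.prop
    rw [det_fin_two] at hd
    have ht : (t : Matrix (Fin 2) (Fin 2) E) = !![1, 1; 0, 1] := rfl
    clear_value t
    simp [A, z, ht, Matrix.SpecialLinearGroup.coe_inv, Matrix.adjugate_fin_two, Matrix.mul_apply,
      Fin.sum_univ_two]
    linear_combination 2 * hd + (hE _).resolve_left hg10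
  have hsq := sq_two_by_two z
  rw [htr] at hsq
  refine ⟨z, hz, fun hcz => ?_, fun h2 => Subtype.ext ?_, fun h3 => Subtype.ext ?_⟩
  · obtain ⟨a, ha, hA⟩ := Matrix.SpecialLinearGroup.mem_center_iff.1 hcz
    rw [Fintype.card_fin] at ha
    have h00 : A 0 0 = a := by simp [A, ← hA]
    have h11 : A 1 1 = a := by simp [A, ← hA]
    rw [h00, h11] at htr
    have h5 : (5 : E) = 0 := by linear_combination -(2 * a + 3) * htr + 4 * ha
    rcases hE 2 with h | h
    · exact one_ne_zero (α := E) (by linear_combination h5 - 2 * h)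
    · exact one_ne_zero (α := E) (by linear_combination 2 * h - h5)
  · rw [Matrix.SpecialLinearGroup.coe_pow, Matrix.SpecialLinearGroup.coe_one]
    change A ^ 3 = 1
    rw [show (3 : E) = 1 by linear_combination h2, one_smul] at hsq
    rw [pow_succ, pow_two, hsq, Matrix.sub_mul, Matrix.one_mul, hsq,
      show A - 1 - A = -(1 : Matrix (Fin 2) (Fin 2) E) by abel]
    ext i j
    simp only [Matrix.neg_apply]
    linear_combination -(1 : Matrix (Fin 2) (Fin 2) E) i j * h2
  · rw [Matrix.SpecialLinearGroup.coe_pow, Matrix.SpecialLinearGroup.coe_one]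
    change A ^ 4 = 1
    rw [h3, zero_smul, zero_sub] at hsq
    rw [show (4 : ℕ) = 2 * 2 from rfl, pow_mul, pow_two A, hsq]
    simp

/-! ### The special linear group over the fixed field -/

variable (ι : F₀ →+* F) [Fintype F] [Fintype F₀]

/-- The action of the special linear group over the subfield. -/
noncomputable def ψ : Matrix.SpecialLinearGroup (Fin n) F₀ →* MulAut PSL :=
  (subAct ι).comp Matrix.SpecialLinearGroup.toGL

theorem ψ_eq_conj (s : Matrix.SpecialLinearGroup (Fin n) F₀) :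
    ψ ι s = MulAut.conj (QuotientGroup.mk (Matrix.SpecialLinearGroup.map ι s) : PSL) := by
  rw [Frame.conj_mk_eq_gAut]
  exact congrArg gAut (Units.ext rfl)

theorem ψ_eq_one_iff (hn : 2 ≤ n) (s : Matrix.SpecialLinearGroup (Fin n) F₀) :
    ψ ι s = 1 ↔ s ∈ Subgroup.center (Matrix.SpecialLinearGroup (Fin n) F₀) := by
  rw [ψ, MonoidHom.comp_apply, ← MonoidHom.mem_ker, subAct_ker ι hn,
    Matrix.SpecialLinearGroup.mem_center_iff]
  constructor
  · intro h
    obtain ⟨a, ha⟩ := exists_sc (by omega) h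
    have e := congrArg (fun g : GL (Fin n) F₀ => (g : Matrix (Fin n) (Fin n) F₀)) ha
    simp only [sc_coe] at e
    refine ⟨(a : F₀), ?_, e⟩
    have hd := congrArg Matrix.det e
    rw [Matrix.scalar_apply, det_diagonal, Finset.prod_const, Finset.card_univ] at hd
    exact hd.trans s.prop
  · rintro ⟨a, -, ha⟩
    exact Matrix.GeneralLinearGroup.mem_center_iff_val_mem_range_scalar.2 ⟨a, ha⟩

theorem subAct_conj (g : GL (Fin n) F₀) (s : Matrix.SpecialLinearGroup (Fin n) F₀) :
    (subAct ι g : MulAut PSL) * ψ ι s * (subAct ι g)⁻¹ = ψ ι (conjSL g s) := by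
  rw [ψ, MonoidHom.comp_apply, ← map_inv, ← map_mul, ← map_mul]
  exact congrArg (subAct ι) (Units.ext (conjSL_coe g s).symm)

theorem subAct_pow_mem (hn : 2 ≤ n) (g : GL (Fin n) F₀) :
    (subAct ι g : MulAut PSL) ^ n ∈ (ψ (n := n) ι).range := by
  set d : F₀ˣ := Matrix.GeneralLinearGroup.det g
  set g' : GL (Fin n) F₀ := sc d⁻¹ * g ^ n
  have hdet : (g' : Matrix (Fin n) (Fin n) F₀).det = 1 := by
    simp only [g', Units.val_mul, Units.val_pow_eq_pow_val, det_mul, det_pow, sc_coe,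
      Matrix.scalar_apply, det_diagonal, Finset.prod_const, Finset.card_univ, Fintype.card_fin]
    rw [← mul_pow, Units.val_inv_eq_inv_val, show (d : F₀) = (g : Matrix (Fin n) (Fin n) F₀).det from rfl,
      inv_mul_cancel₀, one_pow]
    exact (Matrix.GeneralLinearGroup.det g).ne_zero
  let X : Matrix.SpecialLinearGroup (Fin n) F₀ := ⟨_, hdet⟩
  refine ⟨X, ?_⟩
  have h1 : (subAct ι (sc d⁻¹) : MulAut PSL) = 1 := by
    rw [← MonoidHom.mem_ker, subAct_ker ι hn]
    exact sc_mem_center _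
  rw [ψ, MonoidHom.comp_apply,
    show Matrix.SpecialLinearGroup.toGL X = g' from Units.ext rfl, map_mul, h1, one_mul, map_pow]

/-- The image of a transvection. -/
theorem decomp_mk_tv (g : GL (Fin n) F) (τ : F ≃+* F) (v w : V) (h : w ⬝ᵥ v = 0) :
    ∃ s : SL, (gAut g * fAut τ : MulAut PSL) (QuotientGroup.mk (tv v w h)) = QuotientGroup.mk s ∧
      (s : M) = 1 + vecMulVec ((g : M) *ᵥ fun i => τ (v i))
        ((fun i => τ (w i)) ᵥ* ((g⁻¹ : GL (Fin n) F) : M)) := by
  refine ⟨conjSL g (fieldSL τ (tv v w h)), rfl, ?_⟩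
  rw [conjSL_coe, fieldSL_coe, tv_coe, Matrix.map_add _ (map_add τ), Matrix.map_one _ (map_zero τ) (map_one τ),
    show (vecMulVec v w).map τ = vecMulVec (fun i => τ (v i)) fun i => τ (w i) from
      Matrix.ext fun i j => map_mul τ _ _,
    mul_add, add_mul, mul_one, Units.mul_inv, mul_vecMulVec, vecMulVec_mul]

theorem par_of_mk_eq {v w v' w' : V} (h : w ⬝ᵥ v = 0) (hv : v ≠ 0) (hw : w ≠ 0) (s : SL)
    (hs : (s : M) = 1 + vecMulVec v' w') (h' : w' ⬝ᵥ v' = 0)
    (e : (QuotientGroup.mk s : PSL) = QuotientGroup.mk (tv v w h)) : Par v' v := by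
  obtain ⟨c, hc⟩ := (mk_eq_mk_iff _ _).1 e
  rw [tv_coe, hs] at hc
  have h1 := eq_of_smul (A := vecMulVec v w) (B := vecMulVec v' w') (sq_zero h') (z := v) hv
    (by rw [vecMulVec_mulVec, h]; simp) hc
  exact (par_of_vecMulVec_eq hv hw (c := 1) (by rw [one_smul]; exact h1)).1

theorem decomp_eq_field (hn : 2 ≤ n) (g : GL (Fin n) F) (τ : F ≃+* F)
    (h : ∀ (v w : Fin n → F₀) (hvw : (fun i => ι (w i)) ⬝ᵥ (fun i => ι (v i)) = 0),
      (gAut g * fAut τ : MulAut PSL) (QuotientGroup.mk (tv _ _ hvw)) = QuotientGroup.mk (tv _ _ hvw)) :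
    (gAut g * fAut τ : MulAut PSL) = fAut τ ∧ ∀ y, τ (ι y) = ι y := by
  classical
  have hpar : ∀ v w : Fin n → F₀, v ≠ 0 → w ≠ 0 → w ⬝ᵥ v = 0 →
      ∃ c : F, ((g : M) *ᵥ fun i => τ (ι (v i))) = c • fun i => ι (v i) := by
    intro v w hv hw hvw
    have hι : (fun i => ι (w i)) ⬝ᵥ (fun i => ι (v i)) = 0 := by
      rw [show ((fun i => ι (w i)) ⬝ᵥ fun i => ι (v i)) = ι (w ⬝ᵥ v) from (RingHom.map_dotProduct ι w v).symm,
        hvw, map_zero]
    have hne : ∀ u : Fin n → F₀, u ≠ 0 → (fun i => ι (u i)) ≠ (0 : V) := fun u hu e =>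
      hu (funext fun i => ι.injective (by rw [congrFun e i, Pi.zero_apply, Pi.zero_apply, map_zero]))
    obtain ⟨s, hs1, hs2⟩ := decomp_mk_tv g τ _ _ hι
    have h' : ((fun i => τ (ι (w i))) ᵥ* ((g⁻¹ : GL (Fin n) F) : M)) ⬝ᵥ
        ((g : M) *ᵥ fun i => τ (ι (v i))) = 0 := by
      rw [← dotProduct_mulVec, mulVec_mulVec, Units.inv_mul, one_mulVec,
        show ((fun i => τ (ι (w i))) ⬝ᵥ fun i => τ (ι (v i))) =
          τ ((fun i => ι (w i)) ⬝ᵥ fun i => ι (v i)) from (RingHom.map_dotProduct τ.toRingHom _ _).symm,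
        hι, map_zero]
    obtain ⟨c, hc, he⟩ := par_of_mk_eq hι (hne v hv) (hne w hw) s hs2 h' (hs1.symm.trans (h v w hι))
    exact ⟨c⁻¹, by rw [he, inv_smul_smul₀ hc]⟩
  set i0 : Fin n := ⟨0, by omega⟩
  set i1 : Fin n := ⟨1, by omega⟩
  have h01 : i0 ≠ i1 := by simp [i0, i1, Fin.ext_iff]
  have hs : ∀ k : Fin n, (fun i => τ (ι ((Pi.single k 1 : Fin n → F₀) i))) = (Pi.single k 1 : V) :=
    fun k => funext fun i => by by_cases hi : i = k <;> simp [hi]
  have hs' : ∀ k : Fin n, (fun i => ι ((Pi.single k 1 : Fin n → F₀) i)) = (Pi.single k 1 : V) :=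
    fun k => funext fun i => by by_cases hi : i = k <;> simp [hi]
  have hcol : ∀ k : Fin n, ∃ a : F, (g : M) *ᵥ Pi.single k 1 = a • Pi.single k 1 := fun k => by
    obtain ⟨l, hl⟩ : ∃ l : Fin n, l ≠ k := by
      by_cases hk : k = i0
      · exact ⟨i1, hk ▸ h01.symm⟩
      · exact ⟨i0, fun e => hk e.symm⟩
    obtain ⟨c, hc⟩ := hpar (Pi.single k 1) (Pi.single l 1) (by simp) (by simp)
      (by simp [Ne.symm hl])
    rw [hs, hs'] at hc
    exact ⟨c, hc⟩
  choose a ha using hcol
  have hpair : ∀ (k l : Fin n) (y : F₀), k ≠ l → a l * τ (ι y) = a k * ι y := by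
    intro k l y hkl
    obtain ⟨c, hc⟩ := hpar (Pi.single k 1 + y • Pi.single l 1) (y • Pi.single k 1 - Pi.single l 1)
      (fun e => by simpa [hkl] using congrFun e k) (fun e => by simpa [Ne.symm hkl] using congrFun e l)
      (by simp [dotProduct_add, sub_dotProduct, hkl, Ne.symm hkl])
    have e : (fun i => τ (ι ((Pi.single k 1 + y • Pi.single l 1 : Fin n → F₀) i))) =
        (Pi.single k 1 + τ (ι y) • Pi.single l 1 : V) := funext fun i => by
      by_cases hi : i = k <;> by_cases hi' : i = l <;> simp_all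
    rw [e, mulVec_add, mulVec_smul, ha, ha] at hc
    have h1 := congrFun hc k
    have h2 := congrFun hc l
    simp [hkl, Ne.symm hkl] at h1 h2
    rw [h1, mul_comm, h2]
  have heq : ∀ k, a k = a i0 := fun k => by
    by_cases hk : k = i0
    · rw [hk]
    · simpa using hpair i0 k 1 (Ne.symm hk)
  have ha0 : a i0 ≠ 0 := fun h0 => GraphBalance.semi_ne_zero g 1 (show (Pi.single i0 1 : V) ≠ 0 by simp)
    (by simp only [RingAut.one_apply]; rw [ha, h0, zero_smul])
  have hg : g = sc (Units.mk0 _ ha0) := by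
    refine Units.ext (Matrix.ext_of_mulVec_single fun k => ?_)
    rw [ha, heq, sc_coe, Matrix.scalar_apply, diagonal_mulVec_single]
    funext i
    by_cases hi : i = k <;> simp [hi]
  refine ⟨by rw [hg, gAut_sc hn, one_mul], fun y => ?_⟩
  exact mul_left_cancel₀ ha0 (by simpa [heq i1] using hpair i0 i1 y h01)

theorem exists_field_of_fix (hn : 2 ≤ n) (γ : MulAut PSL)
    (h : ∀ (v w : Fin n → F₀) (hvw : (fun i => ι (w i)) ⬝ᵥ (fun i => ι (v i)) = 0),
      γ (QuotientGroup.mk (tv _ _ hvw)) = QuotientGroup.mk (tv _ _ hvw)) :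
    ∃ τ : F ≃+* F, γ = fAut τ ∧ ∀ y, τ (ι y) = ι y := by
  obtain ⟨g, τ, rfl⟩ : ∃ (g : GL (Fin n) F) (τ : F ≃+* F), γ = gAut g * fAut τ := by
    rcases eq_or_lt_of_le hn with rfl | hn3
    · exact exists_decomp_two γ
    obtain ⟨g, τ, x, rfl⟩ := exists_decomp' hn γ
    by_cases hx : x = 1
    · exact ⟨g, τ, by rw [hx, map_one, mul_one]⟩
    exfalso
    classical
    have hne : ∀ u : Fin n → F₀, u ≠ 0 → (fun i => ι (u i)) ≠ (0 : V) := fun u hu e =>
      hu (funext fun i => ι.injective (by rw [congrFun e i, Pi.zero_apply, Pi.zero_apply, map_zero]))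
    have hs : ∀ k : Fin n, (fun i => τ (-(ι ((Pi.single k 1 : Fin n → F₀) i)))) = -(Pi.single k 1 : V) :=
      fun k => funext fun i => by by_cases hi : i = k <;> simp [hi]
    have hs' : ∀ k : Fin n, (fun i => ι ((Pi.single k 1 : Fin n → F₀) i)) = (Pi.single k 1 : V) :=
      fun k => funext fun i => by by_cases hi : i = k <;> simp [hi]
    have hswap : ∀ k l : Fin n, k ≠ l →
        ∃ c : F, (g : M) *ᵥ Pi.single l 1 = c • Pi.single k 1 := by
      intro k l hkl
      set v : V := fun i => ι ((Pi.single k 1 : Fin n → F₀) i)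
      set w : V := fun i => ι ((Pi.single l 1 : Fin n → F₀) i)
      have hvw : w ⬝ᵥ v = 0 := by simp only [v, w, hs']; simp [hkl]
      have hwv : v ⬝ᵥ (-w) = 0 := by rw [dotProduct_neg, dotProduct_comm, hvw, neg_zero]
      have hι : (epow x : MulAut PSL) (QuotientGroup.mk (tv v w hvw)) = QuotientGroup.mk (tv (-w) v hwv) := by
        rw [show (epow x : MulAut PSL) = iota from by simp [epow, hx]]
        refine congrArg QuotientGroup.mk (Subtype.ext ?_)
        have hinv : (tv v w hvw)⁻¹ = tv (-v) w (by rw [dotProduct_neg, hvw, neg_zero]) :=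
          inv_eq_of_mul_eq_one_right (Subtype.ext (by
            change (1 + vecMulVec v w) * (1 + vecMulVec (-v) w) = (1 : M)
            rw [Matrix.neg_vecMulVec, mul_add, mul_one, add_mul, one_mul, mul_neg, sq_zero hvw,
              neg_zero, add_zero, add_neg_cancel_right]))
        change ((iotaSL (tv v w hvw) : SL) : M) = ((tv (-w) v hwv : SL) : M)
        rw [iotaSL_coe, hinv, tv_coe, tv_coe, transpose_add, transpose_one, transpose_vecMulVec,
          Matrix.vecMulVec_neg, Matrix.neg_vecMulVec]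
      obtain ⟨s, hs1, hs2⟩ := decomp_mk_tv g τ (-w) v hwv
      have h' : ((fun i => τ (v i)) ᵥ* ((g⁻¹ : GL (Fin n) F) : M)) ⬝ᵥ
          ((g : M) *ᵥ fun i => τ ((-w) i)) = 0 := by
        rw [← dotProduct_mulVec, mulVec_mulVec, Units.inv_mul, one_mulVec,
          show ((fun i => τ (v i)) ⬝ᵥ fun i => τ ((-w) i)) = τ (v ⬝ᵥ (-w)) from
            (RingHom.map_dotProduct τ.toRingHom _ _).symm, hwv, map_zero]
      have e := h (Pi.single k 1) (Pi.single l 1) hvw
      rw [MulAut.mul_apply, hι] at e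
      obtain ⟨c, hc, he⟩ := par_of_mk_eq hvw (hne _ (by simp)) (hne _ (by simp)) s hs2 h' (hs1.symm.trans e)
      simp only [v, w, hs', Pi.neg_apply] at he
      rw [show (fun i => τ (-(Pi.single l 1 : V) i)) = -(Pi.single l 1 : V) from funext fun i => by
        by_cases hi : i = l <;> simp [hi], mulVec_neg, smul_neg, ← neg_smul] at he
      exact ⟨(-c)⁻¹, by rw [he, inv_smul_smul₀ (neg_ne_zero.2 hc)]⟩
    obtain ⟨j, hj, -⟩ := Classical.Linear.exists_third (n := Fin n) (by rw [Fintype.card_fin]; exact hn3) ⟨0, by omega⟩ ⟨0, by omega⟩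
    obtain ⟨k, hk, hkj⟩ := Classical.Linear.exists_third (n := Fin n) (by rw [Fintype.card_fin]; exact hn3) ⟨0, by omega⟩ j
    obtain ⟨c, hc⟩ := hswap _ _ hj
    obtain ⟨d, hd⟩ := hswap _ _ hk
    rw [hc] at hd
    have := congrFun hd j
    simp [hkj.symm] at this
    exact GraphBalance.semi_ne_zero g 1 (show (Pi.single (⟨0, by omega⟩ : Fin n) 1 : V) ≠ 0 by simp)
      (by simp only [RingAut.one_apply]; rw [hc, this, zero_smul])
  obtain ⟨e1, e2⟩ := decomp_eq_field ι hn g τ h
  exact ⟨τ, e1, e2⟩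

theorem invariant_coprime_eq_bot (hn : 2 ≤ n) {p : ℕ} [Fact p.Prime]
    (hpr : (p : F₀) ≠ 0) (hel : ∃ s, ψ (n := n) ι s ≠ 1 ∧ ψ ι s ^ p = 1)
    (N : Subgroup (MulAut PSL)) (hle : N ≤ (ψ (n := n) ι).range)
    (hinv : ∀ s, ∀ x ∈ N, ψ ι s * x * (ψ ι s)⁻¹ ∈ N) (hcop : (Nat.card N).Coprime p) : N = ⊥ := by
  have hp : p.Prime := Fact.out
  set N' := N.comap (ψ (n := n) ι)
  have hN' : N'.Normal := ⟨fun x hx s => by
    rw [Subgroup.mem_comap, map_mul, map_mul, map_inv]
    exact hinv s _ hx⟩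
  have hno : ∀ t, ψ ι t ∈ N → ψ ι t ^ p = 1 → ψ ι t = 1 := fun t ht hpt => by
    refine orderOf_eq_one_iff.1 (Nat.eq_one_of_dvd_coprimes hcop ?_ (orderOf_dvd_of_pow_eq_one hpt))
    rw [← Subgroup.orderOf_mk _ ht]
    exact orderOf_dvd_natCard _
  by_cases hc : N' ≤ Subgroup.center _
  · refine (Subgroup.eq_bot_iff_forall N).2 fun x hx => ?_
    obtain ⟨t, rfl⟩ := hle hx
    exact (ψ_eq_one_iff ι hn t).2 (hc hx)
  exfalso
  obtain ⟨s, hs1, hsp⟩ := hel
  by_cases hsmall : n = 2 ∧ Fintype.card F₀ < 4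
  · obtain ⟨rfl, hsmall⟩ := hsmall
    have hE : ∀ a : F₀, a = 0 ∨ a * a = 1 := fun a => or_iff_not_imp_left.2 fun ha => by
      have h1 := FiniteField.pow_card_sub_one_eq_one a ha
      have h2 : 1 < Fintype.card F₀ := Fintype.one_lt_card
      rcases (show Fintype.card F₀ = 2 ∨ Fintype.card F₀ = 3 by omega) with h | h <;>
        rw [h] at h1 <;> simp [pow_two] at h1 <;> simp [h1]
    have hdvd : p ∣ 12 := by
      rw [← orderOf_eq_prime hsp hs1]
      exact orderOf_dvd_of_pow_eq_one (by rw [← map_pow, small_pow_twelve hE, map_one])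
    obtain ⟨x, hx, hxc, hx3, hx4⟩ := small_normal hE N' hc
    have hq : (2 : F₀) = 0 ∨ (3 : F₀) = 0 := by
      rcases hE 2 with h | h
      · exact Or.inl h
      · exact Or.inr (by linear_combination h)
    have hxp : ψ ι x ^ p = 1 ∨ (ψ ι x ^ 4 = 1 ∧ p = 2) := by
      rcases hp.dvd_mul.1 (show p ∣ 2 ^ 2 * 3 from hdvd) with h | h
      · obtain rfl := (Nat.prime_dvd_prime_iff_eq hp Nat.prime_two).1 (hp.dvd_of_dvd_pow h)
        refine Or.inr ⟨?_, rfl⟩
        rw [← map_pow, hx4 (hq.resolve_left (by exact_mod_cast hpr)), map_one]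
      · obtain rfl := (Nat.prime_dvd_prime_iff_eq hp Nat.prime_three).1 h
        refine Or.inl ?_
        rw [← map_pow, hx3 (hq.resolve_right (by exact_mod_cast hpr)), map_one]
    refine hxc ((ψ_eq_one_iff ι hn x).1 ?_)
    rcases hxp with h | ⟨h, rfl⟩
    · exact hno x hx h
    · have h2 : ψ ι (x * x) = 1 := hno (x * x) (by rw [map_mul]; exact N.mul_mem hx hx) (by
        rw [map_mul, ← pow_two, ← pow_mul]; exact h)
      exact hno x hx (by rw [pow_two, ← map_mul, h2])
  · have hS : IsSimpleGroup (Matrix.ProjectiveSpecialLinearGroup (Fin n) F₀) :=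
      Classical.Linear.isSimpleGroup_PSL_fin hn fun e => by
        by_contra h
        exact hsmall ⟨e, by omega⟩
    set π := QuotientGroup.mk' (Subgroup.center (Matrix.SpecialLinearGroup (Fin n) F₀))
    rcases (hN'.map π (QuotientGroup.mk'_surjective _)).eq_bot_or_eq_top with h | h
    · rw [Subgroup.map_eq_bot_iff, QuotientGroup.ker_mk'] at h
      exact hc h
    · obtain ⟨x, hx, hxs⟩ := (h ▸ Subgroup.mem_top (π s) : π s ∈ N'.map π)
      have hz : ψ ι (x⁻¹ * s) = 1 := (ψ_eq_one_iff ι hn _).2 (QuotientGroup.eq.1 hxs)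
      rw [map_mul, map_inv, inv_mul_eq_one] at hz
      exact hs1 (hno s (hz ▸ hx) hsp)

theorem exists_rational_element (hn : 2 ≤ n) {p : ℕ} [Fact p.Prime] (hpr : (p : F₀) ≠ 0)
    (σ : F ≃+* F) (hfix : ∀ y, σ (ι y) = ι y) (hsur : ∀ x, σ x = x → ∃ y, ι y = x)
    (hdvd : p ∣ Nat.card (MonoidHom.eqLocus (fAut σ : MulAut PSL).toMonoidHom (MonoidHom.id PSL))) :
    ∃ s, ψ (n := n) ι s ≠ 1 ∧ ψ ι s ^ p = 1 := by
  classical
  have hp : p.Prime := Fact.out
  rcases hp.eq_two_or_odd' with rfl | hodd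
  · have h2 : (2 : F₀) ≠ 0 := by exact_mod_cast hpr
    rcases eq_or_lt_of_le hn with rfl | hn3
    · let w : Matrix.SpecialLinearGroup (Fin 2) F₀ := ⟨!![0, 1; -1, 0], by simp [det_fin_two]⟩
      refine ⟨w, fun h => ?_, ?_⟩
      · obtain ⟨a, -, ha⟩ := Matrix.SpecialLinearGroup.mem_center_iff.1 ((ψ_eq_one_iff ι le_rfl w).1 h)
        simpa [w] using congrFun (congrFun ha 0) 1
      · rw [← map_pow, ψ_eq_one_iff ι le_rfl, Matrix.SpecialLinearGroup.mem_center_iff]
        refine ⟨-1, by simp, ?_⟩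
        have hw : (w : Matrix (Fin 2) (Fin 2) F₀) = !![0, 1; -1, 0] := rfl
        clear_value w
        rw [Matrix.SpecialLinearGroup.coe_pow, pow_two, hw]
        ext i j
        fin_cases i <;> fin_cases j <;> simp [Matrix.mul_apply, Fin.sum_univ_two]
    · set i0 : Fin n := ⟨0, by omega⟩
      set i1 : Fin n := ⟨1, by omega⟩
      set i2 : Fin n := ⟨2, hn3⟩
      let e : Fin n → F₀ := fun i => (if i = i0 then -1 else 1) * (if i = i1 then -1 else 1)
      have hd : (Matrix.diagonal e).det = 1 := by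
        rw [det_diagonal, Finset.prod_mul_distrib]
        simp
      let X : Matrix.SpecialLinearGroup (Fin n) F₀ := ⟨_, hd⟩
      refine ⟨X, fun h => ?_, ?_⟩
      · obtain ⟨a, -, ha⟩ := Matrix.SpecialLinearGroup.mem_center_iff.1 ((ψ_eq_one_iff ι hn _).1 h)
        have e0 := congrFun (congrFun ha i0) i0
        have e2 := congrFun (congrFun ha i2) i2
        simp [X, e, i0, i1, i2, Fin.ext_iff] at e0 e2
        exact h2 (by linear_combination e2.symm.trans rfl - e0.symm.trans rfl)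
      · rw [← map_pow, show X ^ 2 = 1 from Subtype.ext ?_, map_one]
        rw [Matrix.SpecialLinearGroup.coe_pow, Matrix.SpecialLinearGroup.coe_one]
        change Matrix.diagonal e ^ 2 = 1
        rw [Matrix.diagonal_pow, ← Matrix.diagonal_one]
        congr 1
        funext i
        simp only [Pi.pow_apply, e]
        split_ifs <;> ring
  by_cases hpn : p ∣ n
  · have hpn' : p ≤ n := Nat.le_of_dvd (by omega) hpn
    have : NeZero n := ⟨by omega⟩
    set i : Fin n := ⟨p - 1, by have := hp.two_le; omega⟩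
    have hi : i ≠ 0 := fun e => by
      have := congrArg Fin.val e
      simp [i] at this
      have := hp.two_le
      omega
    set π := Fin.cycleRange i
    have hsign : Equiv.Perm.sign π⁻¹ = 1 := by
      rw [Equiv.Perm.sign_inv, Fin.sign_cycleRange]
      obtain ⟨k, hk⟩ := hodd
      rw [show (i : ℕ) = 2 * k from by simp [i]; omega, pow_mul]
      simp
    have hord : π ^ p = 1 := by
      have h1 : orderOf π = p := by
        rw [← Equiv.Perm.lcm_cycleType, Fin.cycleType_cycleRange hi]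
        simp [i]
        have := hp.two_le
        omega
      rw [← h1, pow_orderOf_eq_one]
    let Y : Matrix (Fin n) (Fin n) F₀ := Matrix.permMatrixHom π
    have hd : Y.det = 1 := by
      change ((π⁻¹).permMatrix F₀).det = 1
      rw [Matrix.det_permutation, hsign]
      simp
    let X : Matrix.SpecialLinearGroup (Fin n) F₀ := ⟨Y, hd⟩
    refine ⟨X, fun h => ?_, ?_⟩
    · obtain ⟨a, -, ha⟩ := Matrix.SpecialLinearGroup.mem_center_iff.1 ((ψ_eq_one_iff ι hn _).1 h)
      have h1 : π⁻¹ 0 ≠ 0 := fun e0 => by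
        have := (Equiv.Perm.inv_eq_iff_eq).1 e0
        rw [Fin.cycleRange_apply] at this
        have hlt : (0 : Fin n) < i := Fin.pos_iff_ne_zero.2 hi
        rw [if_pos hlt] at this
        have hv := congrArg Fin.val this
        simp [Fin.val_add, Nat.mod_eq_of_lt (show 1 < n by omega)] at hv
      have e := congrFun (congrFun ha 0) (π⁻¹ 0)
      simp [X, Y, Matrix.scalar_apply, Ne.symm h1, Equiv.Perm.permMatrix] at e
      exact zero_ne_one ((Matrix.diagonal_apply_ne _ (Ne.symm h1)).symm.trans e)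
    · rw [← map_pow, show X ^ p = 1 from Subtype.ext ?_, map_one]
      rw [Matrix.SpecialLinearGroup.coe_pow, Matrix.SpecialLinearGroup.coe_one]
      change (Matrix.permMatrixHom π) ^ p = (1 : Matrix (Fin n) (Fin n) F₀)
      rw [← map_pow, hord, map_one]
  · obtain ⟨⟨k, hk⟩, hko⟩ := exists_prime_orderOf_dvd_card' p hdvd
    have hko' : orderOf (MulAut.conj k) = p := by
      rw [orderOf_injective _ (conj_injective hn), ← hko, Subgroup.orderOf_mk]
    obtain ⟨g, hg⟩ : MulAut.conj k ∈ (subAct (n := n) ι).range := by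
      rw [subAct_range ι hn σ hfix hsur]
      exact ⟨Diag.inn_le_range ⟨k, rfl⟩,
        (AutPSp.LocalBalance.conj_mem_centralizer_iff (conj_injective hn) _ k).2 hk⟩
    obtain ⟨s, hs⟩ := subAct_pow_mem ι hn g
    refine ⟨s, ?_, ?_⟩
    · rw [hs, hg]
      intro h
      exact hpn (hko' ▸ orderOf_dvd_of_pow_eq_one h)
    · rw [hs, hg, ← pow_mul, mul_comm, pow_mul]
      conv_lhs => rw [← hko', pow_orderOf_eq_one, one_pow]

theorem core_ne_bot_iff (hn : 2 ≤ n) {p : ℕ} [Fact p.Prime] (hpr : (p : F) ≠ 0)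
    (A : Subgroup (MulAut PSL)) (hinn : ∀ k : PSL, MulAut.conj k ∈ A)
    (σ : F ≃+* F) (hσ : orderOf σ = p) :
    Cfsg.pPrimeCore p ↥(A ⊓ Subgroup.centralizer {(fAut σ : MulAut PSL)}) ≠ ⊥ ↔
      Nat.Coprime p (Nat.card (MonoidHom.eqLocus (fAut σ : MulAut PSL).toMonoidHom (MonoidHom.id PSL))) := by
  classical
  set x : MulAut PSL := fAut σ with hx
  have hp : p.Prime := Fact.out
  let K : Subfield F := RingHom.eqLocusField σ.toRingHom (RingHom.id F)
  have : Fintype K := Fintype.ofFinite _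
  have hfix : ∀ y : K, σ (K.subtype y) = K.subtype y := fun y => y.2
  have hsur : ∀ z, σ z = z → ∃ y, K.subtype y = z := fun z hz => ⟨⟨z, hz⟩, rfl⟩
  have hpr₀ : (p : K) ≠ 0 := fun h => hpr (by simpa using congrArg K.subtype h)
  have hinj := conj_injective (F := F) hn
  have hψmem : ∀ s, ψ (n := n) K.subtype s ∈ A ⊓ Subgroup.centralizer {x} := fun s => by
    have h1 : ψ (n := n) K.subtype s ∈ (subAct (n := n) K.subtype).range := ⟨_, rfl⟩
    rw [subAct_range K.subtype hn σ hfix hsur] at h1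
    exact ⟨ψ_eq_conj K.subtype s ▸ hinn _, h1.2⟩
  constructor
  · contrapose!
    intro hcop
    have hdvd : p ∣ Nat.card (MonoidHom.eqLocus x.toMonoidHom (MonoidHom.id PSL)) :=
      not_not.1 fun h => hcop (hp.coprime_iff_not_dvd.2 h)
    have hel := exists_rational_element K.subtype hn hpr₀ σ hfix hsur hdvd
    set H := A ⊓ Subgroup.centralizer {x}
    set D : Subgroup H := (Inn PSL).subgroupOf H
    have : (Inn PSL).Normal := inferInstance
    let f : Matrix.SpecialLinearGroup (Fin n) K →* H := (ψ K.subtype).codRestrict H hψmem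
    refine AutPSp.LocalBalance.core_eq_bot p D f.range ?_ ?_ ?_ ?_
    · rintro _ ⟨s, rfl⟩
      exact Subgroup.mem_subgroupOf.2 ⟨_, (ψ_eq_conj K.subtype s).symm⟩
    · rintro d hd _ ⟨s, rfl⟩
      obtain ⟨g, hg⟩ : (d : MulAut PSL) ∈ (subAct (n := n) K.subtype).range := by
        rw [subAct_range K.subtype hn σ hfix hsur]
        exact ⟨Diag.inn_le_range (Subgroup.mem_subgroupOf.1 hd), d.2.2⟩
      refine ⟨conjSL g s, Subtype.ext ?_⟩
      change ψ K.subtype (conjSL g s) = (d : MulAut PSL) * ψ K.subtype s * (d : MulAut PSL)⁻¹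
      rw [← hg, subAct_conj]
    · intro N hN hinv hcopN
      rw [← Subgroup.map_eq_bot_iff_of_injective N H.subtype_injective]
      refine invariant_coprime_eq_bot (p := p) K.subtype hn hpr₀ hel _ ?_ ?_
        (by rwa [Subgroup.card_map_of_injective H.subtype_injective])
      · rintro _ ⟨y, hy, rfl⟩
        obtain ⟨s, rfl⟩ := hN hy
        exact ⟨s, rfl⟩
      · rintro s _ ⟨y, hy, rfl⟩
        exact ⟨f s * y * (f s)⁻¹, hinv (f s) ⟨s, rfl⟩ y hy, rfl⟩
    · intro γ hγ
      obtain ⟨τ, hτ, hτfix⟩ := exists_field_of_fix K.subtype hn (γ : MulAut PSL) (by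
        intro v w hvw
        have hvw₀ : w ⬝ᵥ v = 0 := K.subtype.injective (by
          rw [map_zero, RingHom.map_dotProduct]; exact hvw)
        have h1 := congrArg Subtype.val (hγ (f (tv v w hvw₀)) ⟨_, rfl⟩)
        change (γ : MulAut PSL) * ψ K.subtype (tv v w hvw₀) = ψ K.subtype (tv v w hvw₀) * (γ : MulAut PSL) at h1
        rw [ψ_eq_conj, AutPSp.LocalBalance.conj_mul_apply] at h1
        have h2 := hinj (mul_right_cancel h1)
        have h3 : Matrix.SpecialLinearGroup.map K.subtype (tv v w hvw₀) = tv _ _ hvw := Subtype.ext (by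
          change ((1 : Matrix (Fin n) (Fin n) K) + vecMulVec v w).map K.subtype = _
          rw [Matrix.map_add _ (map_add K.subtype), Matrix.map_one _ (map_zero _) (map_one _), tv_coe]
          congr 1)
        rwa [h3] at h2)
      have hτσ := AutPSp.LocalBalance.mem_zpowers_of_fix σ τ fun z hz => hτfix ⟨z, hz⟩
      refine ⟨1, Subtype.ext ?_⟩
      obtain ⟨j, rfl⟩ := Subgroup.mem_zpowers_iff.1 hτσ
      rw [pow_one, SubmonoidClass.coe_pow, hτ, ← map_pow, ← zpow_natCast, ← _root_.zpow_mul, mul_comm,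
        _root_.zpow_mul, zpow_natCast, ← hσ, pow_orderOf_eq_one, _root_.one_zpow, map_one,
        OneMemClass.coe_one]
  · intro hcop
    refine AutPSp.LocalBalance.core_ne_bot hinj A hinn x p ?_ hcop
    set i0 : Fin n := ⟨0, by omega⟩
    set i1 : Fin n := ⟨1, by omega⟩
    have h01 : i0 ≠ i1 := by simp [i0, i1, Fin.ext_iff]
    set s : Matrix.SpecialLinearGroup (Fin n) K :=
      tv (Pi.single i0 1) (Pi.single i1 1) (by simp [h01])
    have hs : s ∉ Subgroup.center (Matrix.SpecialLinearGroup (Fin n) K) := fun h => by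
      obtain ⟨a, -, ha⟩ := Matrix.SpecialLinearGroup.mem_center_iff.1 h
      have e := congrFun (congrFun ha i0) i1
      simp [s, tv_coe, vecMulVec_apply, h01] at e
    refine ⟨QuotientGroup.mk (Matrix.SpecialLinearGroup.map K.subtype s), fun h => hs ?_, ?_⟩
    · rw [← ψ_eq_one_iff K.subtype hn, ψ_eq_conj, h, map_one]
    · have := (hψmem s).2
      rw [ψ_eq_conj] at this
      exact (AutPSp.LocalBalance.conj_mem_centralizer_iff hinj _ _).1 this

/-- Conjugate data give the same answer. -/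
theorem transfer (hn : 2 ≤ n) {p : ℕ} [Fact p.Prime] (hpr : (p : F) ≠ 0)
    (A : Subgroup (MulAut PSL)) (hinn : ∀ k : PSL, MulAut.conj k ∈ A)
    (b : MulAut PSL) (σ : F ≃+* F) (hσ : orderOf σ = p) :
    Cfsg.pPrimeCore p ↥(A ⊓ Subgroup.centralizer {b * fAut σ * b⁻¹}) ≠ ⊥ ↔
      Nat.Coprime p (Nat.card (MonoidHom.eqLocus (b * fAut σ * b⁻¹).toMonoidHom (MonoidHom.id PSL))) := by
  set c := (MulAut.conj b : MulAut (MulAut PSL)).toMonoidHom
  have hc : Function.Injective c := (MulAut.conj b).injective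
  set A' := A.comap c
  have hinn' : ∀ k : PSL, MulAut.conj k ∈ A' := fun k => by
    change b * MulAut.conj k * b⁻¹ ∈ A
    rw [AutPSp.LocalBalance.conj_mul_apply, mul_inv_cancel_right]
    exact hinn _
  have hmap : (A' ⊓ Subgroup.centralizer {(fAut σ : MulAut PSL)}).map c =
      A ⊓ Subgroup.centralizer {b * fAut σ * b⁻¹} := by
    ext y
    simp only [Subgroup.mem_map, Subgroup.mem_inf, A', Subgroup.mem_comap,
      Subgroup.mem_centralizer_singleton_iff]
    constructor
    · rintro ⟨z, ⟨hz1, hz2⟩, rfl⟩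
      refine ⟨hz1, ?_⟩
      change b * z * b⁻¹ * _ = _ * (b * z * b⁻¹)
      calc _ = b * (z * fAut σ) * b⁻¹ := by group
        _ = _ := by rw [hz2]; group
    · rintro ⟨hy1, hy2⟩
      refine ⟨b⁻¹ * y * b, ⟨?_, ?_⟩, ?_⟩
      · change b * (b⁻¹ * y * b) * b⁻¹ ∈ A
        simpa [mul_assoc] using hy1
      · calc b⁻¹ * y * b * fAut σ = b⁻¹ * (y * (b * fAut σ * b⁻¹)) * b := by group
          _ = _ := by rw [hy2]; group
      · change b * (b⁻¹ * y * b) * b⁻¹ = y
        simp [mul_assoc]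
  have e := ((A' ⊓ Subgroup.centralizer {(fAut σ : MulAut PSL)}).equivMapOfInjective c hc).trans
    (MulEquiv.subgroupCongr hmap)
  have hcore := PLocal.Cores.map_pPrimeCore_equiv (p := p) e
  have hcard : Nat.card (MonoidHom.eqLocus (b * fAut σ * b⁻¹).toMonoidHom (MonoidHom.id PSL)) =
      Nat.card (MonoidHom.eqLocus (fAut σ : MulAut PSL).toMonoidHom (MonoidHom.id PSL)) := by
    refine Nat.card_congr (Equiv.subtypeEquiv b.symm.toEquiv fun k => ?_)
    change b (fAut σ (b.symm k)) = k ↔ fAut σ (b.symm k) = b.symm k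
    exact b.eq_symm_apply.symm
  rw [hcard, ← hcore, Ne, Subgroup.map_eq_bot_iff_of_injective _ e.injective]
  exact core_ne_bot_iff hn hpr A' hinn' σ hσ

/-- The criterion. -/
theorem main {r : ℕ} [Fact r.Prime] [CharP F r] (hn : 2 ≤ n) (A : Subgroup (MulAut PSL))
    (hinn : ∀ k : PSL, MulAut.conj k ∈ A) (p : ℕ) [Fact p.Prime] (hpr : p ≠ r) (β : MulAut PSL)
    (hord : orderOf β = p) (hnot : ¬ Cfsg.IsInnerDiagonalAutPSL β) :
    Cfsg.pPrimeCore p ↥(A ⊓ Subgroup.centralizer {β}) ≠ ⊥ ↔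
      ((∃ γ φ : MulAut PSL, Cfsg.IsInnerDiagonalAutPSL γ ∧ Cfsg.IsFieldAutPSL φ ∧ β = φ.trans γ) ∧
        Nat.Coprime p (Nat.card ↥(MonoidHom.eqLocus β.toMonoidHom (MonoidHom.id PSL)))) := by
  have hp : p.Prime := Fact.out
  have hβp : β ^ p = 1 := hord ▸ pow_orderOf_eq_one β
  have hprF : (p : F) ≠ 0 := fun h => hpr (((Nat.prime_dvd_prime_iff_eq Fact.out hp).1
    ((CharP.cast_eq_zero_iff F r p).1 h)).symm)
  by_cases hfield : ∃ (g : GL (Fin n) F) (σ : F ≃+* F), β = gAut g * fAut σ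
  · obtain ⟨g, σ, rfl⟩ := hfield
    have h2 := hβp
    rw [pow_gAut_fAut] at h2
    obtain ⟨hσp, -⟩ := mul_field_eq_one hn h2
    have hσ1 : σ ≠ 1 := fun e => hnot ((isInnerDiagonalAutPSL_iff _).2 ⟨g, by rw [e, map_one, mul_one]⟩)
    have hσ := orderOf_eq_prime hσp hσ1
    obtain ⟨B, hB⟩ := exists_decomp_field σ hσ hn g hβp
    rw [hB, transfer hn hprF A hinn _ σ hσ, and_iff_right]
    refine ⟨gAut g, fAut σ, (isInnerDiagonalAutPSL_iff _).2 ⟨g, rfl⟩,
      ⟨σ, (isStdFieldAutPSL_iff σ (fAut σ : MulAut PSL)).2 rfl⟩, ?_⟩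
    rw [← hB]
    rfl
  · push Not at hfield
    have hn3 : 3 ≤ n := by
      by_contra h
      obtain rfl : n = 2 := by omega
      obtain ⟨g, σ, e⟩ := exists_decomp_two β
      exact hfield g σ e
    obtain ⟨g, σ, x, hx⟩ := exists_decomp' hn β
    have hx1 : x ≠ 1 := fun e => hfield g σ (by rw [hx, e, map_one, mul_one])
    obtain rfl : p = 2 := by
      rcases hp.eq_two_or_odd' with h | hodd
      · exact h
      exfalso
      obtain ⟨g', hg'⟩ := GraphBalance.decomp_pow g σ x p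
      rw [← hx, hβp] at hg'
      obtain ⟨-, h1⟩ := eq_of_decomp hn3 (g := 1) (σ := 1) (x := 1) ((by simp : _ = (1 : MulAut PSL)).trans hg')
      obtain ⟨k, rfl⟩ := hodd
      rw [pow_succ, pow_mul, (show ∀ y : Multiplicative (ZMod 2), y ^ 2 = 1 by decide) x, one_pow,
        one_mul] at h1
      exact hx1 h1.symm
    have hx' : β = gAut g * fAut σ * iota := by rw [hx]; simp [epow, hx1]
    have h2 : (2 : F) ≠ 0 := by exact_mod_cast hprF
    subst hx'
    refine iff_of_false (not_not.2 (GraphBalance.core_eq_bot hn3 h2 A hinn g σ hβp)) ?_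
    rintro ⟨⟨γ, φ, hγ, ⟨τ, hφ⟩, e⟩, -⟩
    obtain ⟨g', rfl⟩ := (isInnerDiagonalAutPSL_iff _).1 hγ
    obtain rfl := (isStdFieldAutPSL_iff τ φ).1 hφ
    exact hfield g' τ e

end Cfsg.Agent.AutPSL.LocalBalance
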