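import Cfsg.Agent.Lib.AutPSL.FieldCent

/-!
# Involutory graph-field automorphisms of `PSL_n(F)`
-/

set_option autoImplicit false

namespace Cfsg.Agent.AutPSL.GraphFieldCent

open Matrix Cfsg.Agent.AutPSL.Basic Cfsg.Agent.AutPSL.Frame Cfsg.Agent.AutPSL.Main
  Cfsg.Agent.AutPSL.Out Cfsg.Agent.AutPSL.Speiser Cfsg.Agent.AutPSL.Conj Cfsg.Agent.AutPSL.Diag
  Cfsg.Agent.AutPSL.SplitClass Cfsg.Agent.AutPSL.FieldCent

universe u

variable {F : Type u} [Field F] [Fintype F] {n : ℕ}

local notation "PSL" => Matrix.ProjectiveSpecialLinearGroup (Fin n) F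
local notation "M" => Matrix (Fin n) (Fin n) F

theorem splitClassCount_of_det (hn : 2 ≤ n) (x : MulAut PSL) (S : Subgroup (GL (Fin n) F))
    (hS : S.map (gAut (n := n) (F := F)) =
      (gAut (n := n) (F := F)).range ⊓ Subgroup.centralizer {x}) :
    splitClassCount (gAut (n := n) (F := F)).range (Inn PSL) x =
      ((powMonoidHom n : Fˣ →* Fˣ).range ⊔ S.map Matrix.GeneralLinearGroup.det).index := by
  classical
  have : (Inn PSL).Normal := inferInstance
  rw [splitClassCount_eq _ _ inn_le_range, ← hS, ← Subgroup.index_comap]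
  have hdetsur : Function.Surjective (Matrix.GeneralLinearGroup.det : GL (Fin n) F →* Fˣ) := by
    intro a
    refine ⟨Matrix.GeneralLinearGroup.mkOfDetNeZero
      (Matrix.diagonal fun i => if i = ⟨0, by omega⟩ then (a : F) else 1) (by simp [Matrix.det_diagonal]),
      Units.ext ?_⟩
    simp [Matrix.GeneralLinearGroup.mkOfDetNeZero, Matrix.det_diagonal]
  rw [← Subgroup.index_comap_of_surjective _ hdetsur]
  congr 1
  ext g
  rw [Subgroup.mem_comap, Subgroup.mem_comap, Subgroup.mem_sup_of_normal_left, Subgroup.mem_sup]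
  constructor
  · rintro ⟨i, hi, _, ⟨A, hA, rfl⟩, e⟩
    have h1 : (gAut (g * A⁻¹) : MulAut PSL) ∈ Inn PSL := by
      rw [map_mul, map_inv, ← e, mul_inv_cancel_right]
      exact hi
    obtain ⟨c, hc⟩ := (gAut_mem_inn_iff hn _).1 h1
    refine ⟨c ^ n, ⟨c, rfl⟩, _, ⟨A, hA, rfl⟩, ?_⟩
    rw [show c ^ n = Matrix.GeneralLinearGroup.det (g * A⁻¹) from Units.ext hc, ← map_mul,
      inv_mul_cancel_right]
  · rintro ⟨_, ⟨c, rfl⟩, _, ⟨A, hA, rfl⟩, e⟩
    refine ⟨gAut (g * A⁻¹), (gAut_mem_inn_iff hn _).2 ⟨c, ?_⟩, _, ⟨A, hA, rfl⟩, ?_⟩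
    · have h2 : Matrix.GeneralLinearGroup.det (g * A⁻¹) = c ^ n := by
        rw [map_mul, map_inv, ← e, powMonoidHom_apply, mul_inv_cancel_right]
      exact (congrArg Units.val h2).symm
    · rw [← map_mul, inv_mul_cancel_right]

theorem ringAut_comm {p f : ℕ} [Fact p.Prime] (hF : Fintype.card F = p ^ f) (a b : F ≃+* F) :
    a * b = b * a := by
  obtain ⟨e⟩ := exists_ringAut_equiv (F := F) hF
  exact e.injective (by rw [map_mul, map_mul, mul_comm])

theorem eq_of_orderOf_two {p f : ℕ} [Fact p.Prime] (hF : Fintype.card F = p ^ f) (hf : 1 ≤ f)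
    {a b : F ≃+* F} (ha : orderOf a = 2) (hb : orderOf b = 2) : a = b := by
  obtain ⟨e⟩ := exists_ringAut_equiv (F := F) hF
  have : NeZero f := ⟨by omega⟩
  refine e.injective (Multiplicative.toAdd.injective ?_)
  have key : ∀ c : F ≃+* F, orderOf c = 2 →
      2 ∣ f ∧ Multiplicative.toAdd (e c) = ((f / 2 : ℕ) : ZMod f) := by
    intro c hc
    have h2 : 2 ∣ f := hc ▸ dvd_degree hF c
    refine ⟨h2, ?_⟩
    set z := Multiplicative.toAdd (e c)
    have hz : z + z = 0 := by
      rw [← toAdd_one (α := ZMod f), ← map_one e, ← pow_orderOf_eq_one c, hc, pow_two, map_mul]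
      rfl
    have hz0 : z ≠ 0 := fun h => by
      have : e c = 1 := Multiplicative.toAdd.injective h
      rw [← map_one e] at this
      rw [e.injective this, orderOf_one] at hc
      exact absurd hc (by omega)
    have hv : z.val = f / 2 := by
      have h1 : ((z.val + z.val : ℕ) : ZMod f) = 0 := by rw [Nat.cast_add, ZMod.natCast_zmod_val, hz]
      rw [ZMod.natCast_eq_zero_iff] at h1
      obtain ⟨k, hk⟩ := h1
      have := ZMod.val_lt z
      have := ZMod.val_pos.2 hz0
      rcases Nat.lt_or_ge k 2 with hk2 | hk2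
      · interval_cases k <;> omega
      · nlinarith
    rw [← hv, ZMod.natCast_zmod_val]
  exact (key a ha).2.trans (key b hb).2.symm

theorem frobenius_eq {p f : ℕ} [Fact p.Prime] (hF : Fintype.card F = p ^ f) (hf : 1 ≤ f)
    {σ : F ≃+* F} (hσ : orderOf σ = 2) : ∀ x, σ x = x ^ p ^ (f / 2) := by
  have h2 : 2 ∣ f := hσ ▸ dvd_degree hF σ
  have : CharP F p := charP_of_card_eq_prime_pow hF
  have hbij : Function.Bijective (iterateFrobenius F p (f / 2)) :=
    Finite.injective_iff_bijective.1 (RingHom.injective _)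
  let τ : F ≃+* F := RingEquiv.ofBijective (iterateFrobenius F p (f / 2)) hbij
  have hτ : ∀ x, τ x = x ^ p ^ (f / 2) := fun x => iterateFrobenius_def p (f / 2) x
  have hord : orderOf τ = 2 := by
    refine orderOf_eq_prime (RingEquiv.ext fun x => ?_) fun h => ?_
    · rw [pow_two]
      change τ (τ x) = x
      rw [hτ, hτ, ← pow_mul, ← pow_add, show f / 2 + f / 2 = f by omega, ← hF, FiniteField.pow_card]
    · obtain ⟨g, hg⟩ := IsCyclic.exists_generator (α := Fˣ)
      have h1 : g ^ p ^ (f / 2) = g ^ 1 := Units.ext (by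
        rw [pow_one, Units.val_pow_eq_pow_val, ← hτ, h]; rfl)
      have hp := (Fact.out : p.Prime).two_le
      have hlt : p ^ (f / 2) < p ^ f := Nat.pow_lt_pow_right hp (by omega)
      have h1' : 1 < p ^ (f / 2) := Nat.one_lt_pow (by omega) hp
      have ho : orderOf g = p ^ f - 1 := by
        rw [orderOf_eq_card_of_forall_mem_zpowers hg, Nat.card_units, Nat.card_eq_fintype_card, hF]
      have h3 : g ^ (p ^ (f / 2) - 1) = 1 := by
        rw [pow_sub _ h1'.le, h1, mul_inv_cancel]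
      have := Nat.le_of_dvd (by omega) (orderOf_dvd_iff_pow_eq_one.2 h3)
      omega
  intro x
  rw [eq_of_orderOf_two hF hf hσ hord, hτ]

variable {σ : F ≃+* F}

theorem mem_GU_iff {q : ℕ} (hq : ∀ x, σ x = x ^ q) (A : GL (Fin n) F) :
    A ∈ GU n F q ↔ (A : M)ᵀ * (A : M).map σ = 1 := by
  have hform : ∀ u v : Fin n → F, hermForm n F q u v = u ⬝ᵥ fun i => σ (v i) := fun u v => by
    simp [hermForm, dotProduct, hq]
  have hmap : ∀ v : Fin n → F, (fun i => σ (((A : M) *ᵥ v) i)) = (A : M).map σ *ᵥ fun i => σ (v i) :=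
    fun v => funext fun i => RingHom.map_mulVec σ.toRingHom _ _ i
  have heval : ∀ u v : Fin n → F, hermForm n F q ((A : M) *ᵥ u) ((A : M) *ᵥ v) =
      u ⬝ᵥ (((A : M)ᵀ * (A : M).map σ) *ᵥ fun i => σ (v i)) := fun u v => by
    rw [hform, hmap, ← Matrix.mulVec_mulVec, Matrix.dotProduct_mulVec u, Matrix.vecMul_transpose]
  constructor
  · intro h
    ext i j
    have h1 := h (Pi.single i 1) (Pi.single j 1)
    change hermForm n F q ((A : M) *ᵥ _) ((A : M) *ᵥ _) = _ at h1
    rw [heval, hform] at h1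
    have hs : (fun l => σ ((Pi.single j 1 : Fin n → F) l)) = Pi.single j 1 := funext fun l => by
      by_cases hl : l = j <;> simp [hl]
    rw [hs] at h1
    simpa [Matrix.one_apply, Pi.single_apply, eq_comm] using h1
  · intro h u v
    change hermForm n F q ((A : M) *ᵥ u) ((A : M) *ᵥ v) = _
    rw [heval, hform, h, Matrix.one_mulVec]

theorem comm_iff (σ : F ≃+* F) (A : GL (Fin n) F) :
    gAut A ∈ Subgroup.centralizer {(fAut σ * iota : MulAut PSL)} ↔
      (gAut A : MulAut PSL) = gAut (fieldGL σ (dual A)) := by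
  rw [Subgroup.mem_centralizer_singleton_iff]
  have h : (fAut σ * iota : MulAut PSL) * gAut A = gAut (fieldGL σ (dual A)) * (fAut σ * iota) := by
    rw [mul_assoc, iota_mul_gAut, ← mul_assoc, fAut_mul_gAut, mul_assoc]
  rw [h]
  exact ⟨fun e => mul_right_cancel e, fun e => by rw [← e]⟩

theorem map_GU (hn : 2 ≤ n) (hσ : orderOf σ = 2) {q : ℕ} (hq : ∀ x, σ x = x ^ q) :
    (GU n F q).map (gAut (n := n) (F := F)) =
      (gAut (n := n) (F := F)).range ⊓ Subgroup.centralizer {(fAut σ * iota : MulAut PSL)} := by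
  have hσ2 : ∀ x, σ (σ x) = x := fun x =>
    DFunLike.congr_fun (show σ * σ = 1 by rw [← pow_two, ← hσ, pow_orderOf_eq_one]) x
  have hinvol : ∀ X : M, (X.map σ).map σ = X := fun X => Matrix.ext fun i j => hσ2 _
  refine le_antisymm ?_ ?_
  · rintro _ ⟨A, hA, rfl⟩
    refine ⟨⟨A, rfl⟩, (comm_iff σ A).2 (congrArg _ (Units.ext ?_))⟩
    have hA' := (mem_GU_iff hq A).1 hA
    have h1 : (A : M).map σ = ((A⁻¹ : GL (Fin n) F) : M)ᵀ := by
      have := congrArg (((A⁻¹ : GL (Fin n) F) : M)ᵀ * ·) hA'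
      simpa only [← mul_assoc, ← transpose_mul, Units.mul_inv, transpose_one, one_mul, mul_one] using this
    rw [fieldGL_coe]
    exact ((congrArg (fun X : M => X.map σ) h1.symm).trans (hinvol _)).symm
  · rintro _ ⟨⟨A, rfl⟩, hA⟩
    have h1 : (gAut ((fieldGL σ (dual A)) * A⁻¹) : MulAut PSL) = 1 := by
      rw [map_mul, ← (comm_iff σ A).1 hA, ← map_mul, mul_inv_cancel, map_one]
    obtain ⟨c, hc⟩ := exists_sc (by omega) ((gAut_eq_one_iff hn _).1 h1)
    have h2 : fieldGL σ (dual A) = sc c * A := by rw [hc, inv_mul_cancel_right]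
    have h2' : (((A⁻¹ : GL (Fin n) F) : M)ᵀ).map σ = (c : F) • (A : M) := by
      have := congrArg Units.val h2
      rw [fieldGL_coe, Units.val_mul, sc_coe, Matrix.scalar_apply, ← Matrix.smul_eq_diagonal_mul] at this
      exact this
    have h3 : ((A⁻¹ : GL (Fin n) F) : M)ᵀ = σ (c : F) • (A : M).map σ := by
      rw [← hinvol ((A⁻¹ : GL (Fin n) F) : M)ᵀ, h2']
      ext i j
      simp
    have h4 : σ (c : F) • ((A : M)ᵀ * (A : M).map σ) = 1 := by
      rw [← Matrix.mul_smul, ← h3, ← transpose_mul, Units.inv_mul, transpose_one]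
    have hfix : σ (c : F) = c := by
      have h5 := congrArg (fun X : M => (X.map σ)ᵀ) h4
      simp only [Matrix.map_smul' σ _ _ (map_mul σ), hσ2, Matrix.map_mul, Matrix.transpose_smul,
        transpose_mul, transpose_map, transpose_transpose, hinvol,
        Matrix.map_one _ (map_zero σ) (map_one σ), transpose_one] at h5
      have h6 : (σ (c : F) - c) • ((A : M)ᵀ * (A : M).map σ) = 0 := by
        rw [sub_smul, h4, h5, sub_self]
      by_contra hne
      have h7 := congrArg (σ (c : F) • ·) h6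
      simp only [smul_comm (σ (c : F)) (σ (c : F) - c), h4, smul_zero] at h7
      have h8 := congrFun (congrFun h7 ⟨0, by omega⟩) ⟨0, by omega⟩
      simp [sub_eq_zero, hne] at h8
    obtain ⟨l, hl⟩ := nrm_surjective σ c hfix
    rw [nrm, hσ, Finset.prod_range_succ, Finset.prod_range_one, pow_zero, pow_one] at hl
    change (l : F) * σ (l : F) = c at hl
    refine ⟨sc l * A, (mem_GU_iff hq _).2 ?_, by rw [map_mul, gAut_sc hn, one_mul]⟩
    rw [Units.val_mul, sc_coe, Matrix.scalar_apply, ← Matrix.smul_eq_diagonal_mul,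
      Matrix.transpose_smul, Matrix.map_smul' σ _ _ (map_mul σ), Matrix.smul_mul, Matrix.mul_smul,
      smul_smul, hl, ← hfix, h4]

theorem exists_equiv (hn : 2 ≤ n) (hσ : orderOf σ = 2) {q : ℕ} (hq : ∀ x, σ x = x ^ q) :
    Nonempty (↥((gAut (n := n) (F := F)).range ⊓ Subgroup.centralizer {(fAut σ * iota : MulAut PSL)})
      ≃* PGU n F q) := by
  let g : GU n F q →* MulAut PSL := (gAut (n := n) (F := F)).comp (GU n F q).subtype
  have hr : g.range = (GU n F q).map (gAut (n := n) (F := F)) := by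
    rw [MonoidHom.range_comp, Subgroup.range_subtype]
  have hk : g.ker = (Geo.scalars (Fin n) F).subgroupOf (GU n F q) := by
    ext A
    rw [MonoidHom.mem_ker, Subgroup.mem_subgroupOf]
    change gAut (A : GL (Fin n) F) = 1 ↔ _
    rw [gAut_eq_one_iff hn]
    exact ⟨fun h => exists_sc (by omega) h |>.imp fun c hc => hc, by
      rintro ⟨c, hc⟩
      exact hc ▸ sc_mem_center c⟩
  exact ⟨((MulEquiv.subgroupCongr ((map_GU hn hσ hq).symm.trans hr.symm)).trans
    (QuotientGroup.quotientKerEquivRange g).symm).trans (QuotientGroup.quotientMulEquivOfEq hk)⟩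

theorem map_det_GU (hn : 1 ≤ n) (hσ : orderOf σ = 2) {q : ℕ} (hq : ∀ x, σ x = x ^ q)
    (hq1 : 1 < q) (hcard : Fintype.card F = q * q) :
    (GU n F q).map Matrix.GeneralLinearGroup.det = (powMonoidHom (q - 1) : Fˣ →* Fˣ).range := by
  classical
  have hmem : ∀ a : Fˣ, a ∈ (powMonoidHom (q - 1) : Fˣ →* Fˣ).range ↔ a ^ (q + 1) = 1 := by
    have hN : Nat.card Fˣ = (q - 1) * (q + 1) := by
      rw [Nat.card_units, Nat.card_eq_fintype_card, hcard, mul_comm (q - 1), ← Nat.mul_self_sub_mul_self_eq, mul_one]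
    intro a
    suffices (powMonoidHom (q - 1) : Fˣ →* Fˣ).range = (powMonoidHom (q + 1) : Fˣ →* Fˣ).ker by
      rw [this, MonoidHom.mem_ker, powMonoidHom_apply]
    refine Subgroup.eq_of_le_of_card_ge ?_ ?_
    · rintro _ ⟨b, rfl⟩
      rw [MonoidHom.mem_ker, powMonoidHom_apply, powMonoidHom_apply, ← pow_mul, ← hN, pow_card_eq_one']
    · rw [IsCyclic.card_powMonoidHom_ker, IsCyclic.card_powMonoidHom_range, hN,
        Nat.gcd_mul_left_left, Nat.gcd_mul_right_left, Nat.mul_div_cancel_left _ (by omega)]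
  have hσpow : ∀ a : Fˣ, a ^ (q + 1) = 1 ↔ (a : F) * σ (a : F) = 1 := fun a => by
    rw [hq, Units.ext_iff, Units.val_pow_eq_pow_val, pow_succ', Units.val_one]
  ext a
  rw [hmem, hσpow]
  constructor
  · rintro ⟨A, hA, rfl⟩
    have h := congrArg Matrix.det ((mem_GU_iff hq A).1 hA)
    rw [Matrix.det_mul, Matrix.det_transpose, Matrix.det_one] at h
    have h2 : ((A : M).map σ).det = σ (A : M).det := (σ.toRingHom.map_det _).symm
    rw [h2] at h
    exact h
  · intro ha
    refine ⟨Matrix.GeneralLinearGroup.mkOfDetNeZero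
      (Matrix.diagonal fun i => if i = ⟨0, by omega⟩ then (a : F) else 1) (by simp [Matrix.det_diagonal]),
      (mem_GU_iff hq _).2 ?_, Units.ext ?_⟩
    · change (Matrix.diagonal _)ᵀ * (Matrix.diagonal _).map σ = 1
      rw [Matrix.diagonal_transpose, Matrix.diagonal_map (map_zero σ), Matrix.diagonal_mul_diagonal,
        ← Matrix.diagonal_one]
      congr 1
      funext i
      split_ifs with h
      · exact ha
      · rw [map_one, one_mul]
    · simp [Matrix.GeneralLinearGroup.mkOfDetNeZero, Matrix.det_diagonal]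

theorem main {p f : ℕ} [Fact p.Prime] (hF : Fintype.card F = p ^ f) (hf : 1 ≤ f) (hn : 3 ≤ n)
    (x : MulAut PSL) (hx : IsGraphFieldAutClassPSL x) (hx2 : orderOf x = 2) :
    Even f ∧ (∀ y : MulAut PSL, IsGraphFieldAutClassPSL y → orderOf y = 2 →
      IsConjUnder (inndiagPSL n F) x y) ∧
    Nonempty (↥(inndiagPSL n F ⊓ Subgroup.centralizer {x}) ≃* PGU n F (p ^ (f / 2))) ∧
    splitClassCount (inndiagPSL n F) (Inn PSL) x = Nat.gcd n (p ^ (f / 2) - 1) := by
  have norm : ∀ y : MulAut PSL, IsGraphFieldAutClassPSL y → orderOf y = 2 →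
      ∃ (α : MulAut PSL) (σ : F ≃+* F), orderOf σ = 2 ∧ α * y * α⁻¹ = fAut σ * iota := by
    rintro y ⟨-, α, φ, γ, σ, hσ1, hφ, hγ, he⟩ hy
    rw [(isStdFieldAutPSL_iff _ _).1 hφ, (isInverseTransposeAutPSL_iff _).1 hγ] at he
    rw [← orderOf_conj α, he] at hy
    exact ⟨α, σ, (graph_field_order hn hσ1 Nat.prime_two hy).2, he⟩
  obtain ⟨α, σ, hσ, hα⟩ := norm x hx hx2
  have h2 : 2 ∣ f := hσ ▸ dvd_degree hF σ
  have hfrob := frobenius_eq hF hf hσ
  have := range_normal (F := F) (n := n) (by omega)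
  have : (Inn PSL).Normal := inferInstance
  refine ⟨even_iff_two_dvd.2 h2, fun y hy hy2 => ?_, ?_, ?_⟩
  · obtain ⟨β, σ', hσ', hβ⟩ := norm y hy hy2
    obtain rfl := eq_of_orderOf_two hF hf hσ hσ'
    obtain ⟨ψ, -, hψ⟩ := exists_proj (F := F) hn
    have hδ : y * x⁻¹ ∈ inndiagPSL n F := by
      rw [inndiagPSL_eq, ← hψ, MonoidHom.mem_ker, map_mul, map_inv, mul_inv_eq_one]
      have hc : ∀ a b : (F ≃+* F) × Multiplicative (ZMod 2), a * b = b * a := fun a b =>
        Prod.ext (ringAut_comm hF _ _) (mul_comm _ _)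
      have hconj : ∀ a b : MulAut PSL, ψ (a * b * a⁻¹) = ψ b := fun a b => by
        rw [map_mul, map_mul, map_inv, hc (ψ a), mul_inv_cancel_right]
      rw [← hconj β y, ← hconj α x, hα, hβ]
    have h := (orderOf_iff_isConjUnder (by omega) x (y * x⁻¹) (Or.inr hx) Nat.prime_two hx2 hδ).1
      (by rw [inv_mul_cancel_right, hy2])
    rwa [inv_mul_cancel_right] at h
  · rw [inndiagPSL_eq]
    obtain ⟨e⟩ := nonempty_centralizer_conj (gAut (n := n) (F := F)).range α x
    rw [hα] at e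
    exact (exists_equiv (by omega) hσ hfrob).map e.trans
  · have hq1 : 1 < p ^ (f / 2) := Nat.one_lt_pow (by omega) (Fact.out : p.Prime).two_le
    have hcard : Fintype.card F = p ^ (f / 2) * p ^ (f / 2) := by
      rw [hF, ← pow_add, show f / 2 + f / 2 = f by omega]
    rw [inndiagPSL_eq, ← splitClassCount_conj _ _ inn_le_range α x, hα,
      splitClassCount_of_det (by omega) _ _ (map_GU (by omega) hσ hfrob),
      map_det_GU (by omega) hσ hfrob hq1 hcard, sup_range_pow, IsCyclic.index_powMonoidHom_range,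
      Nat.card_units, Nat.card_eq_fintype_card, hcard]
    refine Nat.gcd_eq_right ((Nat.gcd_dvd_right _ _).trans ⟨p ^ (f / 2) + 1, ?_⟩)
    rw [mul_comm (_ - 1), ← Nat.mul_self_sub_mul_self_eq]

end Cfsg.Agent.AutPSL.GraphFieldCent
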