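import Cfsg.Agent.Lib.AutPSL.Out
import Cfsg.Agent.Lib.AutPSL.Speiser

/-!
# Conjugacy of field and graph-field automorphisms of prime order
-/

set_option autoImplicit false

namespace Cfsg.Agent.AutPSL.Conj

open Matrix Cfsg.Agent.AutPSL.Basic Cfsg.Agent.AutPSL.Frame Cfsg.Agent.AutPSL.Main
  Cfsg.Agent.AutPSL.Out Cfsg.Agent.AutPSL.Speiser

universe u

variable {F : Type u} [Field F] {n : ℕ}

local notation "PSL" => Matrix.ProjectiveSpecialLinearGroup (Fin n) F
local notation "M" => Matrix (Fin n) (Fin n) F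

/-- The scalar matrices. -/
def sc : Fˣ →* GL (Fin n) F := Units.map (Matrix.scalar (Fin n)).toMonoidHom

theorem sc_coe (a : Fˣ) : ((sc a : GL (Fin n) F) : M) = Matrix.scalar (Fin n) (a : F) := rfl

theorem sc_mem_center (a : Fˣ) : (sc a : GL (Fin n) F) ∈ Subgroup.center (GL (Fin n) F) :=
  Matrix.GeneralLinearGroup.mem_center_iff_val_mem_range_scalar.2 ⟨a, rfl⟩

theorem sc_comm (a : Fˣ) (g : GL (Fin n) F) : sc a * g = g * sc a :=
  (Subgroup.mem_center_iff.1 (sc_mem_center a) g).symm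

theorem exists_sc (hn : 1 ≤ n) {g : GL (Fin n) F} (hg : g ∈ Subgroup.center (GL (Fin n) F)) :
    ∃ a : Fˣ, sc a = g := by
  obtain ⟨a, ha⟩ := Matrix.GeneralLinearGroup.mem_center_iff_val_mem_range_scalar.1 hg
  have ha0 : a ≠ 0 := fun h0 => by
    have h1 := Units.mul_inv g
    rw [← ha, h0, map_zero, zero_mul] at h1
    simpa using congrFun (congrFun h1 ⟨0, by omega⟩) ⟨0, by omega⟩
  exact ⟨Units.mk0 a ha0, Units.ext ha⟩

theorem sc_injective (hn : 1 ≤ n) : Function.Injective (sc : Fˣ → GL (Fin n) F) := fun a b h => by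
  refine Units.ext ?_
  have := congrArg (fun g : GL (Fin n) F => (g : M) ⟨0, by omega⟩ ⟨0, by omega⟩) h
  simpa [sc_coe, Matrix.scalar_apply] using this

theorem fieldGL_sc (σ : F ≃+* F) (a : Fˣ) :
    fieldGL σ (sc a : GL (Fin n) F) = sc (Units.map σ.toRingHom.toMonoidHom a) :=
  Units.ext (by
    rw [fieldGL_coe, sc_coe, sc_coe, Matrix.scalar_apply, Matrix.scalar_apply,
      Matrix.diagonal_map (map_zero σ)]
    rfl)

theorem gAut_sc (hn : 2 ≤ n) (a : Fˣ) : (gAut (sc a) : MulAut PSL) = 1 :=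
  (gAut_eq_one_iff hn _).2 (sc_mem_center a)

theorem pow_gAut_fAut (σ : F ≃+* F) (A : GL (Fin n) F) :
    ∀ i, (gAut A * fAut σ : MulAut PSL) ^ i = gAut (twist σ A i) * fAut (σ ^ i)
  | 0 => by simp [twist]
  | i + 1 => by
    rw [pow_succ', pow_gAut_fAut σ A i, twist, map_mul, pow_succ', map_mul, mul_assoc, mul_assoc,
      ← mul_assoc (fAut σ), fAut_mul_gAut, mul_assoc]

theorem fAut_injective (hn : 2 ≤ n) : Function.Injective (fAut (n := n) (F := F)) := by
  refine (injective_iff_map_eq_one _).2 fun σ h => ?_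
  exact (mul_field_eq_one hn (g := 1) (σ := σ) (by rw [map_one, one_mul, h])).1

theorem twist_sc_mul (σ : F ≃+* F) (a : Fˣ) (A : GL (Fin n) F) :
    ∀ i, ∃ b : Fˣ, twist σ (sc a * A) i = sc b * twist σ A i ∧
      (b : F) = ∏ j ∈ Finset.range i, (σ ^ j) (a : F)
  | 0 => ⟨1, by simp [twist]⟩
  | i + 1 => by
    obtain ⟨b, h1, h2⟩ := twist_sc_mul σ a A i
    refine ⟨a * Units.map σ.toRingHom.toMonoidHom b, ?_, ?_⟩
    · rw [twist, twist, h1, map_mul (fieldGL σ), fieldGL_sc, map_mul sc]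
      simp only [mul_assoc]
      rw [← mul_assoc A, ← sc_comm _ A, mul_assoc]
    · rw [Finset.prod_range_succ', Units.val_mul, mul_comm, pow_zero]
      change σ (b : F) * _ = _
      rw [h2, map_prod]
      congr 1
      exact Finset.prod_congr rfl fun j _ => by rw [pow_succ']; rfl

variable [Fintype F]

theorem range_normal (hn : 2 ≤ n) : (gAut (n := n) (F := F)).range.Normal := by
  by_cases h : n = 2
  · subst h
    obtain ⟨ψ, -, hψ⟩ := exists_proj_two (F := F)
    rw [← hψ]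
    exact MonoidHom.normal_ker ψ
  · obtain ⟨ψ, -, hψ⟩ := exists_proj (F := F) (n := n) (by omega)
    rw [← hψ]
    exact MonoidHom.normal_ker ψ

theorem exists_decomp_field (σ : F ≃+* F) {r : ℕ} (hσ : orderOf σ = r) (hn : 2 ≤ n)
    (A : GL (Fin n) F) (h : (gAut A * fAut σ : MulAut PSL) ^ r = 1) :
    ∃ B : GL (Fin n) F, (gAut A * fAut σ : MulAut PSL) = gAut B * fAut σ * (gAut B)⁻¹ := by
  rw [pow_gAut_fAut] at h
  obtain ⟨-, hc⟩ := mul_field_eq_one hn h
  obtain ⟨c, hc⟩ := exists_sc (by omega) hc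
  have hfix : σ (c : F) = c := by
    have h1 := twist_succ' σ A r
    rw [twist, ← hc, fieldGL_sc, ← hσ, pow_orderOf_eq_one, fieldGL_one, sc_comm c A] at h1
    exact congrArg Units.val (sc_injective (n := n) (by omega) (mul_left_cancel h1))
  obtain ⟨l, hl⟩ := nrm_surjective σ c hfix
  obtain ⟨b, hb1, hb2⟩ := twist_sc_mul σ l⁻¹ A r
  have hb : b = c⁻¹ := by
    refine Units.ext ?_
    rw [hb2, Units.val_inv_eq_inv_val c, ← hl, nrm, hσ, ← Finset.prod_inv_distrib]
    exact Finset.prod_congr rfl fun j _ => by simp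
  have htw : twist σ (sc l⁻¹ * A) (orderOf σ) = 1 := by
    rw [hσ, hb1, hb, ← hc, ← map_mul, inv_mul_cancel, map_one]
  obtain ⟨B, hB⟩ := speiser σ _ htw
  refine ⟨B, ?_⟩
  have h2 : (gAut A : MulAut PSL) = gAut B * gAut (fieldGL σ B⁻¹) := by
    rw [← map_mul, map_inv, ← hB, map_mul, gAut_sc hn, one_mul]
  rw [h2, ← map_inv, mul_assoc, ← fAut_mul_gAut, mul_assoc]

theorem dual_inv_coe (B : GL (Fin n) F) :
    ((dual B⁻¹ : GL (Fin n) F) : M) = (B : M)ᵀ := by
  change (((B⁻¹)⁻¹ : GL (Fin n) F) : M)ᵀ = _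
  rw [inv_inv]

theorem graph_pow_two (σ : F ≃+* F) (A : GL (Fin n) F) :
    (gAut A * fAut σ * iota : MulAut PSL) ^ 2 =
      gAut (A * fieldGL σ (dual A)) * fAut (σ ^ 2) := by
  have h1 : (fAut σ : MulAut PSL) * iota * (gAut A * fAut σ * iota) =
      gAut (fieldGL σ (dual A)) * fAut (σ ^ 2) := by
    calc (fAut σ : MulAut PSL) * iota * (gAut A * fAut σ * iota)
        = fAut σ * (iota * gAut A) * fAut σ * iota := by simp only [mul_assoc]
      _ = fAut σ * gAut (dual A) * (iota * fAut σ) * iota := by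
          rw [iota_mul_gAut]; simp only [mul_assoc]
      _ = gAut (fieldGL σ (dual A)) * fAut (σ ^ 2) := by
          rw [iota_mul_fAut, fAut_mul_gAut, pow_two, map_mul]
          simp only [mul_assoc, iota_mul_self, mul_one]
  rw [pow_two, map_mul, mul_assoc (gAut A) (gAut _), ← h1]
  simp only [mul_assoc]

theorem exists_decomp_graph_field (σ : F ≃+* F) (hσ : orderOf σ = 2) (hn : 2 ≤ n)
    (A : GL (Fin n) F) (h : (gAut A * fAut σ * iota : MulAut PSL) ^ 2 = 1) :
    ∃ B : GL (Fin n) F,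
      (gAut A * fAut σ * iota : MulAut PSL) = gAut B * (fAut σ * iota) * (gAut B)⁻¹ := by
  rw [graph_pow_two] at h
  obtain ⟨-, hc⟩ := mul_field_eq_one hn h
  obtain ⟨c, hc⟩ := exists_sc (by omega) hc
  have hA : A = sc c * (fieldGL σ (dual A))⁻¹ := eq_mul_inv_of_mul_eq hc.symm
  have hσσ : ∀ g : GL (Fin n) F, fieldGL σ (fieldGL σ g) = g := fun g => by
    rw [← fieldGL_mul, ← pow_two, ← hσ, pow_orderOf_eq_one, fieldGL_one]
  -- the transpose of `σ(A)`
  have hdd : ∀ g : GL (Fin n) F, ((fieldGL σ (dual g))⁻¹ : GL (Fin n) F) = fieldGL σ (dual g⁻¹) := by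
    intro g
    rw [← map_inv]
    exact congrArg _ (Units.ext rfl)
  have hA1 : (A : M) = (c : F) • ((A : M).map σ)ᵀ := by
    conv_lhs => rw [hA, hdd]
    rw [Units.val_mul, sc_coe, fieldGL_coe, dual_inv_coe, transpose_map, Matrix.scalar_apply,
      ← Matrix.smul_eq_diagonal_mul]
  have hσ2 : ∀ x, σ (σ x) = x := fun x => by
    have := DFunLike.congr_fun (show σ * σ = 1 by rw [← pow_two, ← hσ, pow_orderOf_eq_one]) x
    exact this
  have hcc : (c : F) * σ (c : F) = 1 := by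
    by_contra hne
    have : Nonempty (Fin n) := ⟨⟨0, by omega⟩⟩
    refine (Units.ne_zero A) ?_
    ext i j
    have h1 := congrFun (congrFun hA1 i) j
    have h2 := congrFun (congrFun hA1 j) i
    simp only [Matrix.smul_apply, Matrix.transpose_apply, Matrix.map_apply, smul_eq_mul] at h1 h2
    rw [h2, map_mul, hσ2, ← mul_assoc] at h1
    by_contra h0
    exact hne (mul_right_cancel₀ h0 (h1.symm.trans (one_mul _).symm))
  obtain ⟨b, hb⟩ : ∃ b : Fˣ, (c : F) = (b : F) / σ (b : F) := by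
    let C : GL (Fin 1) F := sc c
    have hC : twist σ C (orderOf σ) = 1 := by
      rw [hσ]
      change C * fieldGL σ (C * fieldGL σ 1) = 1
      rw [map_one, mul_one, fieldGL_sc, ← map_mul, ← map_one (sc (n := 1) (F := F))]
      exact congrArg _ (Units.ext hcc)
    obtain ⟨B, hB⟩ := speiser σ C hC
    have hB' := congrArg (fun g : GL (Fin 1) F => (g : Matrix (Fin 1) (Fin 1) F) 0 0)
      (eq_mul_inv_iff_mul_eq.1 hB)
    simp only [Units.val_mul, Matrix.mul_apply, Fin.sum_univ_one, fieldGL_coe, Matrix.map_apply] at hB'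
    have hB0 : (B : Matrix (Fin 1) (Fin 1) F) 0 0 ≠ 0 := fun h0 => by
      have := Units.mul_inv B
      have h1 := congrFun (congrFun this 0) 0
      simp [Matrix.mul_apply, h0] at h1
    refine ⟨Units.mk0 _ hB0, ?_⟩
    rw [Units.val_mk0, eq_div_iff ((map_ne_zero σ).2 hB0)]
    simpa [C, sc_coe, Matrix.scalar_apply] using hB'
  have hherm : ((((sc b⁻¹ * A : GL (Fin n) F)) : M).map σ)ᵀ = ((sc b⁻¹ * A : GL (Fin n) F) : M) := by
    ext i j
    have h1 := congrFun (congrFun hA1 i) j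
    simp only [Matrix.smul_apply, Matrix.transpose_apply, Matrix.map_apply, smul_eq_mul] at h1
    simp only [Units.val_mul, sc_coe, Matrix.scalar_apply, Matrix.transpose_apply, Matrix.map_apply,
      Matrix.diagonal_mul, map_mul, Units.val_inv_eq_inv_val, map_inv₀]
    rw [h1, hb]
    have := (map_ne_zero σ).2 b.ne_zero
    field_simp
  obtain ⟨B, hB⟩ := hermitian_eq σ hσ _ hherm
  refine ⟨B, ?_⟩
  have h2 : (gAut A : MulAut PSL) = gAut B * gAut (fieldGL σ (dual B⁻¹)) := by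
    have : sc b⁻¹ * A = B * fieldGL σ (dual B⁻¹) := Units.ext (by
      rw [hB, Units.val_mul B, fieldGL_coe σ (dual B⁻¹), dual_inv_coe, transpose_map])
    rw [← map_mul, ← this, map_mul, gAut_sc hn, one_mul]
  rw [h2, ← map_inv]
  calc (gAut B * gAut (fieldGL σ (dual B⁻¹)) * fAut σ * iota : MulAut PSL)
      = gAut B * (fAut σ * gAut (dual B⁻¹) * iota) := by rw [fAut_mul_gAut]; simp only [mul_assoc]
    _ = gAut B * (fAut σ * iota) * gAut B⁻¹ := by
        rw [mul_assoc (fAut σ), ← iota_mul_gAut]; simp only [mul_assoc]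

/-- Transport along conjugation by an arbitrary automorphism. -/
theorem iff_of_conj {X : Type*} [Group X] (H : Subgroup X) [H.Normal] (α x y : X) :
    IsConjUnder H (α * x * α⁻¹) (α * y * α⁻¹) ↔ IsConjUnder H x y := by
  constructor
  · rintro ⟨h, hh, e⟩
    refine ⟨α⁻¹ * h * α, by simpa using (inferInstance : H.Normal).conj_mem h hh α⁻¹, ?_⟩
    calc y = α⁻¹ * (α * y * α⁻¹) * α := by group
      _ = α⁻¹ * (h * (α * x * α⁻¹) * h⁻¹) * α := by rw [e]
      _ = _ := by group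
  · rintro ⟨h, hh, e⟩
    exact ⟨α * h * α⁻¹, (inferInstance : H.Normal).conj_mem h hh α, by rw [e]; group⟩

theorem orderOf_conj {X : Type*} [Group X] (a x : X) : orderOf (a * x * a⁻¹) = orderOf x :=
  (MulAut.conj a).orderOf_eq x

theorem graph_field_order (hn : 3 ≤ n) {σ : F ≃+* F} (hσ : σ ≠ 1) {r : ℕ} (hr : r.Prime)
    (h : orderOf (fAut σ * iota : MulAut PSL) = r) : r = 2 ∧ orderOf σ = 2 := by
  have hcomm : Commute (fAut σ : MulAut PSL) iota := (iota_mul_fAut σ).symm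
  have h1 : (fAut (σ ^ r) * iota ^ r : MulAut PSL) = 1 := by
    rw [map_pow, ← hcomm.mul_pow, ← h, pow_orderOf_eq_one]
  have hr2 : r = 2 := by
    rcases hr.eq_two_or_odd' with h2 | ⟨k, rfl⟩
    · exact h2
    · rw [pow_succ (iota : MulAut PSL), pow_mul (iota : MulAut PSL), pow_two (iota : MulAut PSL), iota_mul_self, one_pow, one_mul] at h1
      have h3 := eq_inv_of_mul_eq_one_left h1
      rw [iota_inv] at h3
      refine absurd ?_ (mul_field_ne_iota hn (1 : GL (Fin n) F) (σ ^ (2 * k + 1)))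
      rw [map_one, one_mul]
      exact h3
  subst hr2
  rw [pow_two iota, iota_mul_self, mul_one] at h1
  exact ⟨rfl, orderOf_eq_prime (fAut_injective (by omega) (h1.trans (map_one _).symm)) hσ⟩

theorem field_order (hn : 2 ≤ n) {σ : F ≃+* F} {r : ℕ}
    (h : orderOf (fAut σ : MulAut PSL) = r) : orderOf σ = r := by
  rw [← h, orderOf_injective _ (fAut_injective hn)]

theorem orderOf_iff_isConjUnder (hn : 2 ≤ n) (x δ : MulAut PSL)
    (hx : IsFieldAutClassPSL x ∨ IsGraphFieldAutClassPSL x) {r : ℕ} (hr : r.Prime)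
    (hxr : orderOf x = r) (hδ : δ ∈ inndiagPSL n F) :
    orderOf (δ * x) = r ↔ IsConjUnder (inndiagPSL n F) x (δ * x) := by
  constructor
  swap
  · rintro ⟨h, -, e⟩
    rw [e, orderOf_conj, hxr]
  intro hor
  have := range_normal (F := F) hn
  rw [inndiagPSL_eq] at hδ ⊢
  have key : ∀ α : MulAut PSL, ∃ A, α * (δ * x) * α⁻¹ = gAut A * (α * x * α⁻¹) := fun α => by
    obtain ⟨A, hA⟩ := this.conj_mem δ hδ α
    exact ⟨A, by rw [hA]; group⟩
  rcases hx with ⟨α, σ, -, hφ⟩ | ⟨hn3, α, φ, γ, σ, hσ1, hφ, hγ, he⟩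
  · have hφ' := (isStdFieldAutPSL_iff _ _).1 hφ
    obtain ⟨A, hA⟩ := key α
    rw [← iff_of_conj _ α, hA, hφ']
    rw [← orderOf_conj α, hφ'] at hxr
    rw [← orderOf_conj α, hA, hφ'] at hor
    obtain ⟨B, hB⟩ := exists_decomp_field σ (field_order hn hxr) hn A (by rw [← hor, pow_orderOf_eq_one])
    exact ⟨_, ⟨B, rfl⟩, hB⟩
  · have hφ' := (isStdFieldAutPSL_iff _ _).1 hφ
    have hγ' := (isInverseTransposeAutPSL_iff _).1 hγ
    rw [hφ', hγ'] at he
    obtain ⟨A, hA⟩ := key α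
    rw [← iff_of_conj _ α, hA, he]
    rw [← orderOf_conj α, he] at hxr
    rw [← orderOf_conj α, hA, he] at hor
    obtain ⟨rfl, hσ⟩ := graph_field_order hn3 hσ1 hr hxr
    obtain ⟨B, hB⟩ := exists_decomp_graph_field σ hσ hn A
      (by rw [mul_assoc, ← hor, pow_orderOf_eq_one])
    rw [mul_assoc] at hB
    exact ⟨_, ⟨B, rfl⟩, hB⟩

end Cfsg.Agent.AutPSL.Conj
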