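import Cfsg.Agent.Lib.AutPSL.ReflBlock
import Cfsg.Agent.Lib.AutPSL.Conj
import Cfsg.Agent.Lib.AutPSL.Diag
import Cfsg.Agent.Lib.PLocal.Cores

/-!
# The odd core of the centraliser of a graph or graph-field involution of `PSL_n(F)`

For `n ≥ 3` and `F` of odd order, the centraliser of an involution `gAut A * fAut σ * iota` in a
group of automorphisms containing all inner ones has trivial odd core.
-/

set_option autoImplicit false

namespace Cfsg.Agent.AutPSL.ReflForm

open Matrix Cfsg.Agent.AutPSL.Roots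
open scoped LinearAlgebra.Projectivization

universe u

variable {F : Type u} [Field F] [Fintype F] {n : ℕ}

local notation "V" => (Fin n → F)
local notation "M" => Matrix (Fin n) (Fin n) F

theorem exists_norm_eq (D : Data F n) (hn : 1 ≤ n) {N₀ N₁ N₂ : F} (h0 : N₀ ≠ 0) (h1 : N₁ ≠ 0)
    (h2 : N₂ ≠ 0) (f0 : D.c * D.σ N₀ = N₀) (f2 : D.c * D.σ N₂ = N₂) :
    ∃ p q : F, D.σ p * p * N₀ + D.σ q * q * N₁ + N₂ = 0 := by
  by_cases hσ : D.σ = 1
  · have hodd : Fintype.card F % 2 = 1 := by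
      have := two_ne_char D
      rwa [Nat.card_eq_fintype_card, Nat.odd_iff] at this
    obtain ⟨a, b, hab⟩ := FiniteField.exists_root_sum_quadratic
      (f := Polynomial.X ^ 2 + Polynomial.C (N₂ / N₀)) (g := Polynomial.C (N₁ / N₀) * Polynomial.X ^ 2)
      (by rw [← sub_neg_eq_add, ← map_neg]; exact Polynomial.degree_X_pow_sub_C (by norm_num) _)
      (Polynomial.degree_C_mul_X_pow 2 (div_ne_zero h1 h0)) hodd
    simp at hab
    refine ⟨a, b, ?_⟩
    rw [hσ]
    change a * a * N₀ + b * b * N₁ + N₂ = 0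
    field_simp at hab
    linear_combination hab
  · have ho : orderOf D.σ = 2 := orderOf_eq_prime (RingEquiv.ext fun x => by
      rw [pow_two]; exact D.hσ x) hσ
    have hne : -N₂ / N₀ ≠ 0 := div_ne_zero (neg_ne_zero.2 h2) h0
    have hfix : D.σ ((Units.mk0 _ hne : Fˣ) : F) = -N₂ / N₀ := by
      have hσ0 : D.σ N₀ ≠ 0 := (map_ne_zero D.σ).2 h0
      rw [Units.val_mk0, map_div₀, map_neg, div_eq_div_iff hσ0 h0]
      linear_combination (D.σ N₂) * f0 - (D.σ N₀) * f2
    obtain ⟨l, hl⟩ := Speiser.nrm_surjective D.σ _ hfix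
    refine ⟨(l : F), 0, ?_⟩
    rw [Speiser.nrm, ho, Finset.prod_range_succ, Finset.prod_range_one, pow_zero, pow_one,
      Units.val_mk0, RingAut.one_apply] at hl
    rw [mul_comm (D.σ (l : F)), hl, div_mul_cancel₀ _ h0]
    simp

/-- A semilinear map fixing every isotropic point is scalar. -/
theorem rigid (D : Data F n) (hn : 3 ≤ n) (g : GL (Fin n) F) (τ : F ≃+* F)
    (h : ∀ v : V, v ≠ 0 → Φ D v v = 0 → ∃ a : F, (g : M) *ᵥ (fun i => τ (v i)) = a • v) :
    τ = 1 ∧ ∃ a : F, ∀ v : V, (g : M) *ᵥ v = a • v := by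
  classical
  set T : V → V := fun v => (g : M) *ᵥ fun i => τ (v i) with hT
  have Tadd : ∀ v w : V, T (v + w) = T v + T w := fun v w => by
    simp only [hT, Pi.add_apply, map_add]
    exact mulVec_add _ _ _
  have Tsmul : ∀ (t : F) (v : V), T (t • v) = τ t • T v := fun t v => by
    simp only [hT, Pi.smul_apply, smul_eq_mul, map_mul]
    rw [← mulVec_smul]
    rfl
  have Tne : ∀ v : V, v ≠ 0 → T v ≠ 0 := fun v hv e => hv (funext fun i => (map_eq_zero τ).1 (by
    have e1 := congrArg (((g⁻¹ : GL (Fin n) F) : M) *ᵥ ·) e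
    simp only [hT, mulVec_mulVec, Units.inv_mul, one_mulVec, mulVec_zero] at e1
    exact congrFun e1 i))
  have hsingle : ∀ k, (fun i => τ ((Pi.single k 1 : V) i)) = Pi.single k 1 := fun k => funext fun i => by
    by_cases hi : i = k <;> simp [hi]
  have finish : τ = 1 → (∃ (a : F) (b : Fin n → V), LinearIndependent F b ∧ ∀ i, T (b i) = a • b i) →
      τ = 1 ∧ ∃ a : F, ∀ v : V, (g : M) *ᵥ v = a • v := by
    rintro rfl ⟨a, b, hb, hab⟩
    refine ⟨rfl, a, fun v => ?_⟩
    obtain ⟨co, rfl⟩ := Submodule.mem_span_range_iff_exists_fun F |>.1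
      ((hb.span_eq_top_of_card_eq_finrank' (by simp)) ▸ Submodule.mem_top : v ∈ _)
    rw [mulVec_sum, Finset.smul_sum]
    refine Finset.sum_congr rfl fun i _ => ?_
    rw [mulVec_smul, smul_comm a]
    exact congrArg (co i • ·) (hab i)
  by_cases hD : IsAlt D
  · have hall : ∀ v : V, v ≠ 0 → ∃ a : F, T v = a • v := fun v hv => h v hv (hD v)
    have hne : ∀ k, (Pi.single k 1 : V) ≠ 0 := fun k => by simp
    choose al hal using fun k => hall _ (hne k)
    have hpair : ∀ k l, k ≠ l → ∀ t : F, τ t * al l = al k * t := by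
      intro k l hkl t
      have hv : (Pi.single k 1 + t • Pi.single l 1 : V) ≠ 0 := fun e => by simpa [hkl] using congrFun e k
      obtain ⟨c, hc⟩ := hall _ hv
      rw [Tadd, Tsmul, hal, hal] at hc
      have e1 := congrFun hc k
      have e2 := congrFun hc l
      simp [hkl, Ne.symm hkl] at e1 e2
      rw [e1, e2]
    set i0 : Fin n := ⟨0, by omega⟩
    set i1 : Fin n := ⟨1, by omega⟩
    have h01 : i0 ≠ i1 := by simp [i0, i1, Fin.ext_iff]
    have heq : ∀ k, al k = al i0 := fun k => by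
      by_cases hk : k = i0
      · rw [hk]
      · simpa using hpair i0 k (Ne.symm hk) 1
    have hal0 : al i0 ≠ 0 := fun e => Tne _ (hne i0) (by rw [hal, e, zero_smul])
    refine finish (RingEquiv.ext fun t => ?_) ⟨al i0, fun k => Pi.single k 1, ?_, fun k => by rw [hal, heq]⟩
    · have := hpair i0 i1 h01 t
      rw [heq, mul_comm] at this
      exact mul_left_cancel₀ hal0 this
    · exact Pi.linearIndependent_single_one (Fin n) F
  -- an isotropic hyperbolic pair
  obtain ⟨b0, hb0, -⟩ := exists_ortho_basis D hD (k := 0) ![] ⟨fun i => i.elim0, fun i => i.elim0⟩ (Nat.zero_le n)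
  obtain ⟨p, q, hpq⟩ := exists_norm_eq D (by omega) (hb0.1 ⟨0, by omega⟩) (hb0.1 ⟨1, by omega⟩)
    (hb0.1 ⟨2, by omega⟩) (norm_symm D _) (norm_symm D _)
  set u : V := p • b0 ⟨0, by omega⟩ + q • b0 ⟨1, by omega⟩ + b0 ⟨2, by omega⟩ with hu'
  have huu : Φ D u u = 0 := by
    simp only [hu', add_left, add_right, smul_left, smul_right, hb0.2 ⟨0, by omega⟩ ⟨1, by omega⟩ (by simp),
      hb0.2 ⟨1, by omega⟩ ⟨0, by omega⟩ (by simp), hb0.2 ⟨0, by omega⟩ ⟨2, by omega⟩ (by simp),
      hb0.2 ⟨2, by omega⟩ ⟨0, by omega⟩ (by simp), hb0.2 ⟨1, by omega⟩ ⟨2, by omega⟩ (by simp),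
      hb0.2 ⟨2, by omega⟩ ⟨1, by omega⟩ (by simp)]
    linear_combination hpq
  have hu0 : u ≠ 0 := fun e => by
    have := congrArg (Φ D (b0 ⟨2, by omega⟩)) e
    simp only [hu', add_right, smul_right, zero_right, hb0.2 ⟨2, by omega⟩ ⟨0, by omega⟩ (by simp),
      hb0.2 ⟨2, by omega⟩ ⟨1, by omega⟩ (by simp), mul_zero, zero_add] at this
    exact hb0.1 _ this
  clear_value u
  obtain ⟨v, huv, hvv⟩ : ∃ v, Φ D u v ≠ 0 ∧ Φ D v v = 0 := by
    obtain ⟨z, hz⟩ := exists_pair D hu0
    have hzu : Φ D z u ≠ 0 := fun e => hz (perp_comm D e)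
    set μ := -(Φ D z z / 2) / Φ D z u with hμ
    refine ⟨z + μ • u, by rw [add_right, smul_right, huu, mul_zero, add_zero]; exact hz, ?_⟩
    rw [add_left, add_right, add_right, smul_left, smul_left, smul_right, smul_right, huu,
      symm D z u]
    have h1 : μ * Φ D z u = -(Φ D z z / 2) := by rw [hμ, div_mul_cancel₀ _ hzu]
    have h2 : D.σ μ * (D.c * D.σ (Φ D z u)) = -(Φ D z z / 2) := by
      rw [mul_left_comm, ← map_mul, h1, map_neg, map_div₀, map_ofNat, mul_neg, ← mul_div_assoc,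
        norm_symm]
    rw [h1, h2, mul_zero, mul_zero, add_zero]
    have := D.two
    field_simp
    ring
  obtain ⟨al, hal⟩ := h u hu0 huu
  have hv0 : v ≠ 0 := fun e => huv (by rw [e, zero_right])
  obtain ⟨be, hbe⟩ := h v hv0 hvv
  have hal0 : al ≠ 0 := fun e => Tne u hu0 (by rw [hT]; simp only; rw [hal, e, zero_smul])
  have hvu : Φ D v u ≠ 0 := fun e => huv (perp_comm D e)
  -- the anisotropic vectors orthogonal to the pair
  have key : ∀ e : V, Φ D e e ≠ 0 → Φ D u e = 0 → Φ D v e = 0 →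
      T e = al • e ∧ τ = 1 ∧ be = al := by
    intro e hee hue hve
    have heu := perp_comm D hue
    have hev := perp_comm D hve
    let μ : F → F := fun t => -(D.σ t * t * Φ D e e / 2) / Φ D u v
    have hiso : ∀ t, Φ D (u + μ t • v + t • e) (u + μ t • v + t • e) = 0 := fun t => by
      have h1 : μ t * Φ D u v = -(D.σ t * t * Φ D e e / 2) := div_mul_cancel₀ _ huv
      have h2 : D.σ (μ t) * Φ D v u = -(D.σ t * t * Φ D e e / 2) := by
        rw [symm D u v, mul_left_comm, ← map_mul, h1, map_neg, map_div₀, map_mul, map_mul, D.hσ,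
          map_ofNat]
        linear_combination (-(D.σ t * t / 2)) * norm_symm D e
      have hhalf : D.σ t * t * Φ D e e / 2 + D.σ t * t * Φ D e e / 2 = D.σ t * t * Φ D e e := by
        have := D.two
        field_simp
        ring
      simp only [add_left, add_right, smul_left, smul_right, huu, hvv, hue, hve, heu, hev]
      linear_combination h1 + h2 - hhalf
    have hex : ∀ t, ∃ γ, al • u + (τ (μ t) * be) • v + τ t • T e = γ • (u + μ t • v + t • e) := fun t => by
      have hne : u + μ t • v + t • e ≠ 0 := fun h0 => by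
        have := congrArg (Φ D v) h0
        simp only [add_right, smul_right, zero_right, hvv, hve, mul_zero, add_zero] at this
        exact hvu this
      obtain ⟨γ, hγ⟩ := h _ hne (hiso t)
      refine ⟨γ, ?_⟩
      change T _ = _ at hγ
      rwa [Tadd, Tadd, Tsmul, Tsmul, show T u = al • u from hal, show T v = be • v from hbe, smul_smul] at hγ
    obtain ⟨γ, hγ⟩ := hex 1
    obtain ⟨γ', hγ'⟩ := hex (-1)
    have hμ1 : μ (-1) = μ 1 := by simp [μ]
    rw [hμ1, map_neg, map_one] at hγ'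
    rw [map_one] at hγ
    have hu1 := congrArg (Φ D u) hγ
    have hv1 := congrArg (Φ D v) hγ
    have he1 := congrArg (Φ D e) hγ
    have hu2 := congrArg (Φ D u) hγ'
    have hv2 := congrArg (Φ D v) hγ'
    have he2 := congrArg (Φ D e) hγ'
    simp only [add_right, smul_right, huu, hvv, hue, hve, heu, hev, mul_zero, zero_add, add_zero,
      one_mul, neg_one_mul, mul_neg_one] at hu1 hv1 he1 hu2 hv2 he2
    have hg' : γ' = γ := mul_right_cancel₀ hee (by linear_combination he2 + he1)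
    rw [hg'] at hu2 hv2
    have hga : γ = al := mul_right_cancel₀ hvu
      (mul_left_cancel₀ D.two (by linear_combination -hv1 - hv2))
    have hmu : τ (μ 1) * be = al * μ 1 := mul_right_cancel₀ huv
      (mul_left_cancel₀ D.two (by linear_combination hu1 + hu2 + 2 * μ 1 * Φ D u v * hga))
    have hTe : T e = al • e := by
      have h3 := hγ
      rw [hga, hmu, one_smul, smul_add, smul_add, smul_smul, one_smul] at h3
      exact add_left_cancel h3
    have hτ : τ = 1 := RingEquiv.ext fun t => by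
      obtain ⟨δ, hδ⟩ := hex t
      rw [hTe, smul_smul] at hδ
      have hv3 := congrArg (Φ D v) hδ
      have he3 := congrArg (Φ D e) hδ
      simp only [add_right, smul_right, hvv, hve, heu, hev, mul_zero, zero_add, add_zero] at hv3 he3
      rw [mul_right_cancel₀ hvu hv3.symm] at he3
      change τ t = t
      exact mul_right_cancel₀ hal0 (mul_right_cancel₀ hee (by linear_combination he3))
    refine ⟨hTe, hτ, ?_⟩
    have hmu1 : μ 1 ≠ 0 := by simp [μ, hee, huv, D.two]
    rw [hτ, RingAut.one_apply, mul_comm al] at hmu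
    exact mul_left_cancel₀ hmu1 hmu
  obtain ⟨a, ha, he⟩ := exists_scale D hD huu hvv huv
  obtain ⟨b, hb, hbe'⟩ := exists_ortho_basis D hD _ he (show 2 ≤ n by omega)
  set i0 : Fin n := ⟨0, by omega⟩
  set i1 : Fin n := ⟨1, by omega⟩
  have hb0' : b i0 = u + a • v := hbe' 0
  have hb1' : b i1 = u - a • v := hbe' 1
  have hperp : ∀ i, i ≠ i0 → i ≠ i1 → Φ D u (b i) = 0 ∧ Φ D v (b i) = 0 := by
    intro i h0 h1
    have e0 := hb.2 i0 i (Ne.symm h0)
    have e1 := hb.2 i1 i (Ne.symm h1)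
    rw [hb0', add_left, smul_left] at e0
    rw [hb1', sub_left, smul_left] at e1
    refine ⟨(mul_eq_zero.1 (show (2 : F) * Φ D u (b i) = 0 by linear_combination e0 + e1)).resolve_left D.two, ?_⟩
    have : (2 : F) * D.σ a * Φ D v (b i) = 0 := by linear_combination e0 - e1
    exact (mul_eq_zero.1 this).resolve_left (mul_ne_zero D.two ((map_ne_zero D.σ).2 ha))
  obtain ⟨hu2, hv2⟩ := hperp ⟨2, by omega⟩ (by simp [i0, Fin.ext_iff]) (by simp [i1, Fin.ext_iff])
  obtain ⟨-, hτ, hbeal⟩ := key _ (hb.1 _) hu2 hv2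
  refine finish hτ ⟨al, b, ortho_li D hb, fun i => ?_⟩
  by_cases h0 : i = i0
  · rw [h0, hb0', Tadd, Tsmul, show T u = al • u from hal, show T v = be • v from hbe, hτ, hbeal,
      RingAut.one_apply, smul_add, smul_comm]
  by_cases h1 : i = i1
  · rw [h1, hb1', sub_eq_add_neg, ← neg_smul, Tadd, Tsmul, show T u = al • u from hal,
      show T v = be • v from hbe, hτ, hbeal, RingAut.one_apply, smul_add, smul_comm]
  exact (key _ (hb.1 i) (hperp i h0 h1).1 (hperp i h0 h1).2).1

end Cfsg.Agent.AutPSL.ReflForm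

namespace Cfsg.Agent.AutPSL.GraphBalance

open Matrix Cfsg.Agent.AutPSL.Basic Cfsg.Agent.AutPSL.Main Cfsg.Agent.AutPSL.Out
  Cfsg.Agent.AutPSL.Conj Cfsg.Agent.AutPSL.ReflForm
open scoped LinearAlgebra.Projectivization

universe u

variable {F : Type u} [Field F] [Fintype F] {n : ℕ}

local notation "V" => (Fin n → F)
local notation "M" => Matrix (Fin n) (Fin n) F
local notation "SL" => Matrix.SpecialLinearGroup (Fin n) F
local notation "PSL" => Matrix.ProjectiveSpecialLinearGroup (Fin n) F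

theorem semi_ne_zero (g : GL (Fin n) F) (τ : F ≃+* F) {v : V} (hv : v ≠ 0) :
    (g : M) *ᵥ (fun i => τ (v i)) ≠ 0 := fun e => hv (funext fun i => (map_eq_zero τ).1 (by
  have e1 := congrArg (((g⁻¹ : GL (Fin n) F) : M) *ᵥ ·) e
  simp only [mulVec_mulVec, Units.inv_mul, one_mulVec, mulVec_zero] at e1
  exact congrFun e1 i))

theorem fieldGL_mulVec (τ : F ≃+* F) (g : GL (Fin n) F) (v : V) :
    ((fieldGL τ g : GL (Fin n) F) : M) *ᵥ (fun i => τ (v i)) = fun i => τ (((g : M) *ᵥ v) i) := by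
  funext i
  rw [fieldGL_coe]
  exact (RingHom.map_mulVec τ.toRingHom (g : M) v i).symm

theorem toGL_mulVec (X : SL) (v : V) :
    ((Matrix.SpecialLinearGroup.toGL X : GL (Fin n) F) : M) *ᵥ v = (X : M) *ᵥ v := rfl

theorem graph_order (hn : 2 ≤ n) (A : GL (Fin n) F) (σ : F ≃+* F)
    (h : (gAut A * fAut σ * iota : MulAut PSL) ^ 2 = 1) (h2 : (2 : F) ≠ 0) :
    ∃ D : Data F n, D.σ = σ ∧ D.P = A⁻¹ := by
  rw [graph_pow_two] at h
  obtain ⟨hσ, hc⟩ := mul_field_eq_one hn h
  obtain ⟨c, hc⟩ := exists_sc (by omega) hc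
  have hσ2 : ∀ x, σ (σ x) = x := fun x => DFunLike.congr_fun (show σ * σ = 1 by rw [← pow_two, hσ]) x
  have hA : A = sc c * (fieldGL σ (dual A))⁻¹ := eq_mul_inv_of_mul_eq hc.symm
  have hA1 : (A : M) = (c : F) • ((A : M).map σ)ᵀ := by
    conv_lhs => rw [hA, ← map_inv, show (dual A)⁻¹ = dual A⁻¹ from Units.ext rfl]
    rw [Units.val_mul, sc_coe, fieldGL_coe, dual_inv_coe, transpose_map, Matrix.scalar_apply,
      ← Matrix.smul_eq_diagonal_mul]
  have hP : ((A⁻¹ : GL (Fin n) F) : M) = ((c⁻¹ : Fˣ) : F) • (((A⁻¹ : GL (Fin n) F) : M).map σ)ᵀ := by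
    refine (left_inv_eq_right_inv ?_ (Units.mul_inv A)).symm
    conv_lhs => arg 2; rw [hA1]
    rw [Matrix.smul_mul, Matrix.mul_smul, smul_smul, ← Matrix.transpose_mul, ← Matrix.map_mul,
      Units.mul_inv, Matrix.map_one _ (map_zero σ) (map_one σ), transpose_one, Units.inv_mul, one_smul]
  refine ⟨⟨σ, A⁻¹, ((c⁻¹ : Fˣ) : F), hσ2, fun u v => ?_, h2⟩, rfl, rfl⟩
  conv_lhs => rw [hP]
  rw [smul_mulVec, dotProduct_smul, smul_eq_mul]
  congr 1
  rw [mulVec_transpose, dotProduct_comm, ← dotProduct_mulVec]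
  change _ = σ.toRingHom (_ ⬝ᵥ _)
  rw [RingHom.map_dotProduct]
  congr 1
  · funext i; simp [hσ2]
  · funext i; exact (RingHom.map_mulVec σ.toRingHom _ v i).symm

theorem iso_comm (A : GL (Fin n) F) (σ : F ≃+* F) (D : Data F n) (hσ : D.σ = σ) (hP : D.P = A⁻¹)
    (X : SL) (hX : IsIso D (X : M)) :
    (gAut (Matrix.SpecialLinearGroup.toGL X) : MulAut PSL) ∈
      Subgroup.centralizer {(gAut A * fAut σ * iota : MulAut PSL)} := by
  set x := Matrix.SpecialLinearGroup.toGL X
  have hmat : ((x : M).map σ)ᵀ * ((A⁻¹ : GL (Fin n) F) : M) * (x : M) = ((A⁻¹ : GL (Fin n) F) : M) := by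
    refine Matrix.ext fun i j => ?_
    have hev : ∀ a b : V, Φ D a b = (fun i => σ (a i)) ⬝ᵥ (((A⁻¹ : GL (Fin n) F) : M) *ᵥ b) := fun a b => by
      rw [Φ, hσ, hP]
    have h1 := hX (Pi.single i 1) (Pi.single j 1)
    rw [hev, hev] at h1
    have hs : ∀ k, (fun l => σ ((Pi.single k 1 : V) l)) = Pi.single k 1 := fun k => funext fun l => by
      by_cases hl : l = k <;> simp [hl]
    rw [hs, single_one_dotProduct, mulVec_single_one, mulVec_single_one, mulVec_single_one,
      col_apply] at h1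
    rw [← h1, Matrix.mul_assoc]
    rfl
  have hXA : x * A = A * fieldGL σ (dual x) := by
    have h2 : fieldGL σ (dual x⁻¹) * A⁻¹ * x = A⁻¹ := Units.ext (by
      rw [Units.val_mul, Units.val_mul, fieldGL_coe, dual_inv_coe, transpose_map]
      exact hmat)
    have h3 : (dual x⁻¹ : GL (Fin n) F) = (dual x)⁻¹ := Units.ext rfl
    rw [h3, map_inv, mul_assoc, inv_mul_eq_iff_eq_mul] at h2
    calc x * A = A * (A⁻¹ * x) * A := by group
      _ = A * fieldGL σ (dual x) := by rw [h2]; group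
  rw [Subgroup.mem_centralizer_singleton_iff]
  calc (gAut x : MulAut PSL) * (gAut A * fAut σ * iota)
      = gAut (x * A) * fAut σ * iota := by rw [map_mul]; simp only [mul_assoc]
    _ = gAut A * (fAut σ * gAut (dual x)) * iota := by
        rw [hXA, map_mul, mul_assoc (gAut A), ← fAut_mul_gAut]
    _ = gAut A * fAut σ * (iota * gAut x) := by rw [iota_mul_gAut]; simp only [mul_assoc]
    _ = gAut A * fAut σ * iota * gAut x := by simp only [mul_assoc]

theorem semisim (hn : 3 ≤ n) (A : GL (Fin n) F) (σ : F ≃+* F) (D : Data F n) (hσ : D.σ = σ)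
    (hP : D.P = A⁻¹) (g : GL (Fin n) F) (τ : F ≃+* F)
    (h : (gAut g * fAut τ : MulAut PSL) * (gAut A * fAut σ * iota) =
      (gAut A * fAut σ * iota) * (gAut g * fAut τ)) (v : V) (hv : Φ D v v = 0) :
    Φ D ((g : M) *ᵥ fun i => τ (v i)) ((g : M) *ᵥ fun i => τ (v i)) = 0 := by
  have hl : (gAut g * fAut τ : MulAut PSL) * (gAut A * fAut σ * iota) =
      gAut (g * fieldGL τ A) * fAut (τ * σ) * epow (Multiplicative.ofAdd 1) := by
    rw [map_mul, map_mul, show (epow (Multiplicative.ofAdd 1) : MulAut PSL) = iota from by simp [epow]]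
    calc _ = gAut g * (fAut τ * gAut A) * fAut σ * iota := by simp only [mul_assoc]
      _ = _ := by rw [fAut_mul_gAut]; simp only [mul_assoc]
  have hr : (gAut A * fAut σ * iota : MulAut PSL) * (gAut g * fAut τ) =
      gAut (A * fieldGL σ (dual g)) * fAut (σ * τ) * epow (Multiplicative.ofAdd 1) := by
    rw [map_mul, map_mul, show (epow (Multiplicative.ofAdd 1) : MulAut PSL) = iota from by simp [epow]]
    calc _ = gAut A * fAut σ * (iota * gAut g) * fAut τ := by simp only [mul_assoc]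
      _ = gAut A * (fAut σ * gAut (dual g)) * (iota * fAut τ) := by
          rw [iota_mul_gAut]; simp only [mul_assoc]
      _ = _ := by rw [fAut_mul_gAut, iota_mul_fAut]; simp only [mul_assoc]
  rw [hl, hr] at h
  obtain ⟨hcomm, -⟩ := eq_of_decomp hn h
  rw [hcomm] at h
  have h1 := mul_right_cancel (mul_right_cancel h)
  obtain ⟨k, hk⟩ := exists_sc (by omega) ((gAut_eq_one_iff (by omega) _).1
    (show (gAut ((A * fieldGL σ (dual g))⁻¹ * (g * fieldGL τ A)) : MulAut PSL) = 1 by
      rw [map_mul, map_inv, h1, inv_mul_cancel]))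
  have h2 : fieldGL σ (dual g⁻¹) * A⁻¹ * g = sc k * fieldGL τ A⁻¹ := by
    rw [show (dual g⁻¹ : GL (Fin n) F) = (dual g)⁻¹ from Units.ext rfl, map_inv, map_inv, hk,
      _root_.mul_inv_rev]
    group
  have hmat : ((g : M).map σ)ᵀ * ((A⁻¹ : GL (Fin n) F) : M) * (g : M) =
      (k : F) • (((A⁻¹ : GL (Fin n) F) : M).map τ) := by
    have := congrArg (fun z : GL (Fin n) F => (z : M)) h2
    simp only [Units.val_mul] at this
    rw [fieldGL_coe, fieldGL_coe, dual_inv_coe, transpose_map, sc_coe, Matrix.scalar_apply,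
      ← Matrix.smul_eq_diagonal_mul] at this
    exact this
  have e1 : (fun i => σ (((g : M) *ᵥ fun i => τ (v i)) i)) =
      ((g : M).map σ) *ᵥ fun i => τ (σ (v i)) := by
    funext i
    rw [show (fun j => τ (σ (v j))) = σ.toRingHom ∘ fun j => τ (v j) from
      funext fun j => DFunLike.congr_fun hcomm (v j)]
    exact RingHom.map_mulVec σ.toRingHom (g : M) (fun i => τ (v i)) i
  rw [Φ, hσ, hP, e1, ← vecMul_transpose, ← dotProduct_mulVec, mulVec_mulVec, mulVec_mulVec,
    hmat, smul_mulVec, dotProduct_smul,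
    show (((A⁻¹ : GL (Fin n) F) : M).map τ) *ᵥ (fun i => τ (v i)) =
      fun i => τ ((((A⁻¹ : GL (Fin n) F) : M) *ᵥ v) i) from
      funext fun i => (RingHom.map_mulVec τ.toRingHom _ v i).symm]
  rw [Φ, hσ, hP] at hv
  rw [show ((fun i => τ (σ (v i))) ⬝ᵥ fun i => τ ((((A⁻¹ : GL (Fin n) F) : M) *ᵥ v) i)) =
      τ ((fun i => σ (v i)) ⬝ᵥ (((A⁻¹ : GL (Fin n) F) : M) *ᵥ v)) from
      (RingHom.map_dotProduct τ.toRingHom _ _).symm, hv, map_zero, smul_zero]

theorem decomp_pow (g : GL (Fin n) F) (τ : F ≃+* F) (x : Multiplicative (ZMod 2)) :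
    ∀ k, ∃ g', (gAut g * fAut τ * epow x : MulAut PSL) ^ k = gAut g' * fAut (τ ^ k) * epow (x ^ k)
  | 0 => ⟨1, by simp⟩
  | k + 1 => by
    obtain ⟨g', hg'⟩ := decomp_pow g τ x k
    obtain ⟨g'', hg''⟩ := mul_decomp g' g (τ ^ k) τ (x ^ k) x
    exact ⟨g'', by rw [pow_succ, hg', hg'', pow_succ, pow_succ]⟩

/-- The main theorem for graph and graph-field involutions. -/
theorem core_eq_bot (hn : 3 ≤ n) (h2 : (2 : F) ≠ 0) (𝒢 : Subgroup (MulAut PSL))
    (hinn : ∀ k : PSL, MulAut.conj k ∈ 𝒢) (A : GL (Fin n) F) (σ : F ≃+* F)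
    (hβ : (gAut A * fAut σ * iota : MulAut PSL) ^ 2 = 1) :
    Cfsg.pPrimeCore 2 ↥(𝒢 ⊓ Subgroup.centralizer {(gAut A * fAut σ * iota : MulAut PSL)}) = ⊥ := by
  classical
  set β : MulAut PSL := gAut A * fAut σ * iota
  obtain ⟨D, hDσ, hDP⟩ := graph_order (by omega) A σ hβ h2
  set R := Cfsg.pPrimeCore 2 ↥(𝒢 ⊓ Subgroup.centralizer {β})
  have hRodd : Odd (Nat.card R) :=
    Nat.coprime_two_right.1 PLocal.Cores.coprime_card_pPrimeCore
  have hR : R.Normal := inferInstance
  -- every element of `R` is semilinear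
  have hdec : ∀ r : R, ∃ (g : GL (Fin n) F) (τ : F ≃+* F),
      ((r : ↥(𝒢 ⊓ Subgroup.centralizer {β})) : MulAut PSL) = gAut g * fAut τ := by
    intro r
    obtain ⟨g, τ, x, hx⟩ := exists_decomp' (by omega) ((r : ↥(𝒢 ⊓ Subgroup.centralizer {β})) : MulAut PSL)
    obtain ⟨g', hg'⟩ := decomp_pow g τ x (Nat.card R)
    have h1 : ((r : ↥(𝒢 ⊓ Subgroup.centralizer {β})) : MulAut PSL) ^ Nat.card R = 1 := by
      rw [← SubmonoidClass.coe_pow, ← SubmonoidClass.coe_pow, pow_card_eq_one']
      rfl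
    rw [hx, hg'] at h1
    obtain ⟨-, hx1⟩ := eq_of_decomp hn (g' := 1) (σ' := 1) (x' := 1) (h1.trans (by simp))
    have hxx : x = 1 := by
      obtain ⟨k, hk⟩ := hRodd
      rw [hk, pow_succ, pow_mul, (show ∀ y : Multiplicative (ZMod 2), y ^ 2 = 1 by decide) x, one_pow, one_mul] at hx1
      exact hx1
    exact ⟨g, τ, by rw [hx, hxx, map_one, mul_one]⟩
  choose gf τf hf using hdec
  let pt : R → ℙ F V → ℙ F V := fun r p =>
    Projectivization.mk F _ (semi_ne_zero (gf r) (τf r) p.rep_nonzero)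
  have hpt : ∀ (r : R) (g : GL (Fin n) F) (τ : F ≃+* F),
      ((r : ↥(𝒢 ⊓ Subgroup.centralizer {β})) : MulAut PSL) = gAut g * fAut τ →
      ∀ (v : V) (hv : v ≠ 0), pt r (Projectivization.mk F v hv) =
        Projectivization.mk F _ (semi_ne_zero g τ hv) := by
    intro r g τ hr v hv
    have h1 : (gAut (gf r) * fAut (τf r) * epow 1 : MulAut PSL) = gAut g * fAut τ * epow 1 := by
      rw [map_one, mul_one, mul_one, ← hf r, hr]
    obtain ⟨hτ, -⟩ := eq_of_decomp hn h1
    rw [map_one, mul_one, mul_one, hτ] at h1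
    obtain ⟨a, ha⟩ := exists_sc (by omega) ((gAut_eq_one_iff (by omega) _).1
      (show (gAut (g⁻¹ * gf r) : MulAut PSL) = 1 by
        rw [map_mul, map_inv, mul_right_cancel h1, inv_mul_cancel]))
    obtain ⟨b, hb⟩ := Projectivization.exists_smul_eq_mk_rep F v hv
    refine (Projectivization.mk_eq_mk_iff' F _ _ _ _).2 ⟨(a : F) * τ (b : F), ?_⟩
    rw [← hb, show gf r = g * sc a by rw [ha, mul_inv_cancel_left], hτ, Units.val_mul, sc_coe,
      ← mulVec_mulVec, show (Matrix.scalar (Fin n) (a : F)) *ᵥ (fun i => τ ((b • v) i)) =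
        ((a : F) * τ (b : F)) • fun i => τ (v i) from funext fun i => by
          simp [Matrix.mulVec_diagonal, Units.smul_def, mul_assoc], mulVec_smul]
  let _ : MulAction R (ℙ F V) :=
    { smul := pt
      one_smul := fun p => by
        change pt 1 p = p
        induction p with
        | h v hv => rw [hpt 1 1 1 (by simp)]; simp
      mul_smul := fun r s p => by
        change pt (r * s) p = pt r (pt s p)
        induction p with
        | h v hv =>
          have hrs : (((r * s : R) : ↥(𝒢 ⊓ Subgroup.centralizer {β})) : MulAut PSL) =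
              gAut (gf r * fieldGL (τf r) (gf s)) * fAut (τf r * τf s) := by
            rw [Subgroup.coe_mul, Subgroup.coe_mul, hf r, hf s, map_mul, map_mul, mul_assoc,
              ← mul_assoc (fAut (τf r)), fAut_mul_gAut]
            simp only [mul_assoc]
          rw [hpt _ _ _ hrs, hpt s _ _ (hf s), hpt r _ _ (hf r)]
          simp only [Units.val_mul, ← mulVec_mulVec, ← fieldGL_mulVec]
          rfl }
  have hsmul : ∀ (r : R) (g : GL (Fin n) F) (τ : F ≃+* F),
      ((r : ↥(𝒢 ⊓ Subgroup.centralizer {β})) : MulAut PSL) = gAut g * fAut τ →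
      ∀ (v : V) (hv : v ≠ 0), r • (Projectivization.mk F v hv) =
        Projectivization.mk F _ (semi_ne_zero g τ hv) := hpt
  let B : Block D :=
    { rel := fun p q => q ∈ MulAction.orbit R p
      refl := fun p => MulAction.mem_orbit_self p
      symm := fun h => MulAction.mem_orbit_symm.1 h
      trans := fun {p q r} h h' => by rwa [MulAction.orbit_eq_iff.2 h] at h'
      odd := fun p => by
        have h1 : Nat.card (MulAction.orbit R p) ∣ Nat.card R := by
          rw [Nat.card_congr (MulAction.orbitEquivQuotientStabilizer R p)]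
          exact Subgroup.card_quotient_dvd_card _
        exact hRodd.of_dvd_nat h1
      inv := fun X hX v w hv hw hv' hw' ⟨r, hr⟩ => by
        set x := Matrix.SpecialLinearGroup.toGL X
        have hh : (gAut x : MulAut PSL) ∈ 𝒢 ⊓ Subgroup.centralizer {β} :=
          ⟨by rw [← Frame.conj_mk_eq_gAut]; exact hinn _, iso_comm A σ D hDσ hDP X hX⟩
        refine ⟨⟨_, hR.conj_mem _ r.2 ⟨_, hh⟩⟩, ?_⟩
        change (_ : R) • (Projectivization.mk F _ hv') = _
        change r • (Projectivization.mk F v hv) = _ at hr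
        rw [hsmul r _ _ (hf r)] at hr
        obtain ⟨a, ha⟩ := (Projectivization.mk_eq_mk_iff' F _ _ _ _).1 hr
        have hconj : ((⟨_, hh⟩ * (r : ↥(𝒢 ⊓ Subgroup.centralizer {β})) * ⟨_, hh⟩⁻¹ :
            ↥(𝒢 ⊓ Subgroup.centralizer {β})) : MulAut PSL) =
            gAut (x * gf r * fieldGL (τf r) x⁻¹) * fAut (τf r) := by
          change gAut x * _ * (gAut x)⁻¹ = _
          rw [hf r, map_mul, map_mul, ← map_inv, mul_assoc (gAut x * gAut (gf r)), ← fAut_mul_gAut]
          simp only [mul_assoc]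
        rw [hsmul _ _ _ hconj]
        refine (Projectivization.mk_eq_mk_iff' F _ _ _ _).2 ⟨a, ?_⟩
        have e1 : ((fieldGL (τf r) x⁻¹ : GL (Fin n) F) : M) *ᵥ (fun i => τf r (((X : M) *ᵥ v) i)) =
            fun i => τf r (v i) := by
          rw [fieldGL_mulVec, ← toGL_mulVec, mulVec_mulVec, Units.inv_mul, one_mulVec]
        rw [Units.val_mul, Units.val_mul, ← mulVec_mulVec, ← mulVec_mulVec, e1, ← ha, mulVec_smul]
        rfl
      iso := fun v hv w hw ⟨r, hr⟩ hvv => by
        change r • (Projectivization.mk F v hv) = _ at hr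
        rw [hsmul r _ _ (hf r)] at hr
        obtain ⟨a, ha⟩ := (Projectivization.mk_eq_mk_iff' F _ _ _ _).1 hr
        have hc := Subgroup.mem_centralizer_singleton_iff.1 (r : ↥(𝒢 ⊓ Subgroup.centralizer {β})).2.2
        rw [hf r] at hc
        have h1 := semisim hn A σ D hDσ hDP (gf r) (τf r) hc v hvv
        rw [← ha, ReflForm.smul_left, ReflForm.smul_right] at h1
        rcases mul_eq_zero.1 h1 with h | h
        · exact absurd ((map_eq_zero D.σ).1 h) fun ha0 => semi_ne_zero (gf r) (τf r) hv (by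
            rw [← ha, ha0, zero_smul])
        rcases mul_eq_zero.1 h with h | h
        · exact absurd h fun ha0 => semi_ne_zero (gf r) (τf r) hv (by rw [← ha, ha0, zero_smul])
        · exact h }
  refine (Subgroup.eq_bot_iff_forall R).2 fun r hr => ?_
  have hfix : ∀ v : V, v ≠ 0 → Φ D v v = 0 →
      ∃ a : F, (gf ⟨r, hr⟩ : M) *ᵥ (fun i => τf ⟨r, hr⟩ (v i)) = a • v := fun v hv hvv =>
    rel_isotropic B hn hvv ⟨hv, semi_ne_zero _ _ hv, ⟨r, hr⟩, hsmul ⟨r, hr⟩ _ _ (hf _) v hv⟩
  obtain ⟨hτ, a, ha⟩ := rigid D hn _ _ hfix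
  have hg : gf ⟨r, hr⟩ ∈ Subgroup.center (GL (Fin n) F) := Subgroup.mem_center_iff.2 fun y =>
    Units.ext (Matrix.ext_iff_mulVec.2 fun v => by
      rw [Units.val_mul, Units.val_mul, ← mulVec_mulVec, ← mulVec_mulVec, ha, ha, mulVec_smul])
  refine Subtype.ext ((hf ⟨r, hr⟩).trans ?_)
  rw [hτ, map_one, mul_one, (gAut_eq_one_iff (by omega) _).2 hg]
  rfl

end Cfsg.Agent.AutPSL.GraphBalance
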