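import Mathlib
import Cfsg.Prelude.Def_LieTypeDatum
import Cfsg.Agent.Lib.Classical.Linear

/-!
# Automorphisms of `PSL_n` induced by matrices, field automorphisms and inverse transpose

`gAut g` is conjugation by `g : GL n F`, `fAut σ` is the entrywise field automorphism and
`iota` is inverse transpose. All are automorphisms of `PSL_n(F)`.
-/

set_option autoImplicit false

namespace Cfsg.Agent.AutPSL.Basic

open Matrix

universe u

variable {F : Type u} [Field F] {n : ℕ}

local notation "SL" => Matrix.SpecialLinearGroup (Fin n) F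
local notation "PSL" => Matrix.ProjectiveSpecialLinearGroup (Fin n) F
local notation "M" => Matrix (Fin n) (Fin n) F

theorem mk_eq_one_iff (g : SL) :
    (QuotientGroup.mk g : PSL) = 1 ↔ ∃ c : F, (g : M) = c • 1 := by
  rw [QuotientGroup.eq_one_iff, Matrix.SpecialLinearGroup.mem_center_iff]
  constructor
  · rintro ⟨c, _, hc⟩
    exact ⟨c, by rw [← hc, Matrix.scalar_apply, smul_one_eq_diagonal]⟩
  · rintro ⟨c, hc⟩
    refine ⟨c, ?_, by rw [hc, Matrix.scalar_apply, smul_one_eq_diagonal]⟩
    have h := congrArg Matrix.det hc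
    rw [g.prop] at h
    simpa using h.symm

theorem mk_eq_mk_iff (g h : SL) :
    (QuotientGroup.mk g : PSL) = QuotientGroup.mk h ↔ ∃ c : F, (h : M) = c • (g : M) := by
  rw [← inv_mul_eq_one, ← QuotientGroup.mk_inv, ← QuotientGroup.mk_mul, mk_eq_one_iff]
  constructor
  · rintro ⟨c, hc⟩
    refine ⟨c, ?_⟩
    have := congrArg ((g : M) * ·) hc
    simpa [← mul_assoc, Matrix.mul_adjugate, g.prop, Matrix.SpecialLinearGroup.coe_inv] using this
  · rintro ⟨c, hc⟩
    exact ⟨c, by simp [Matrix.adjugate_mul, g.prop, Matrix.SpecialLinearGroup.coe_inv, hc]⟩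

/-- The automorphism of `PSL` induced by one of `SL`. -/
def descend : MulAut SL →* MulAut PSL where
  toFun e := QuotientGroup.congr _ _ e
    (Subgroup.characteristic_iff_map_eq.1 inferInstance e)
  map_one' := by
    ext x
    induction x using QuotientGroup.induction_on
    rfl
  map_mul' e f := by
    ext x
    induction x using QuotientGroup.induction_on
    rfl

@[simp] theorem descend_mk (e : MulAut SL) (s : SL) :
    descend e (QuotientGroup.mk s : PSL) = QuotientGroup.mk (e s) := rfl

/-- Conjugation of `SL` by an element of `GL`. -/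
def conjSL : GL (Fin n) F →* MulAut SL where
  toFun g :=
    { toFun := fun s => ⟨(g : M) * (s : M) * ((g⁻¹ : GL (Fin n) F) : M), by
        rw [det_mul, det_mul, s.prop, mul_one, ← det_mul, Units.mul_inv, det_one]⟩
      invFun := fun s => ⟨((g⁻¹ : GL (Fin n) F) : M) * (s : M) * (g : M), by
        rw [det_mul, det_mul, s.prop, mul_one, ← det_mul, Units.inv_mul, det_one]⟩
      left_inv := fun s => Subtype.ext (by simp [mul_assoc])
      right_inv := fun s => Subtype.ext (by simp [mul_assoc])
      map_mul' := fun s t => Subtype.ext (by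
        change (g : M) * ((s : M) * (t : M)) * _ = ((g : M) * (s : M) * _) * ((g : M) * (t : M) * _)
        simp [mul_assoc]) }
  map_one' := MulEquiv.ext fun s => Subtype.ext (by
    change ((1 : GL (Fin n) F) : M) * (s : M) * _ = (s : M)
    simp)
  map_mul' g h := MulEquiv.ext fun s => Subtype.ext (by
    change ((g * h : GL (Fin n) F) : M) * (s : M) * _ =
      (g : M) * ((h : M) * (s : M) * _) * _
    simp [mul_assoc])

/-- The entrywise action of a field automorphism on `SL`. -/
def fieldSL : (F ≃+* F) →* MulAut SL where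
  toFun σ :=
    { toFun := Matrix.SpecialLinearGroup.map σ.toRingHom
      invFun := Matrix.SpecialLinearGroup.map σ.symm.toRingHom
      left_inv := fun s => by ext i j; simp
      right_inv := fun s => by ext i j; simp
      map_mul' := map_mul _ }
  map_one' := by ext s i j; simp
  map_mul' σ τ := by
    ext s i j
    rfl

theorem transpose_inv_SL (s : SL) : s⁻¹.transpose = (s.transpose)⁻¹ := by
  refine eq_inv_of_mul_eq_one_left (Subtype.ext ?_)
  change ((s⁻¹ : SL) : M)ᵀ * (s : M)ᵀ = 1
  rw [← Matrix.transpose_mul, show (s : M) * ((s⁻¹ : SL) : M) = ((s * s⁻¹ : SL) : M) from rfl,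
    mul_inv_cancel]
  simp

theorem transpose_transpose_SL (s : SL) : s.transpose.transpose = s :=
  Subtype.ext (Matrix.transpose_transpose (s : M))

/-- Inverse transpose on `SL`. -/
def iotaSL : MulAut SL where
  toFun s := (s⁻¹).transpose
  invFun s := (s⁻¹).transpose
  left_inv s := by
    simp only [transpose_inv_SL, inv_inv]
    rw [transpose_transpose_SL]
  right_inv s := by
    simp only [transpose_inv_SL, inv_inv]
    rw [transpose_transpose_SL]
  map_mul' s t := by
    apply Subtype.ext
    simp [Matrix.SpecialLinearGroup.coe_inv, Matrix.transpose_mul]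

/-- Conjugation by `g : GL` as an automorphism of `PSL`. -/
def gAut : GL (Fin n) F →* MulAut PSL := descend.comp conjSL

/-- The standard field automorphism of `PSL`. -/
def fAut : (F ≃+* F) →* MulAut PSL := descend.comp fieldSL

/-- The inverse-transpose automorphism of `PSL`. -/
def iota : MulAut PSL := descend iotaSL

theorem conjSL_coe (g : GL (Fin n) F) (s : SL) :
    ((conjSL g s : SL) : M) = (g : M) * (s : M) * ((g⁻¹ : GL (Fin n) F) : M) := rfl

theorem fieldSL_coe (σ : F ≃+* F) (s : SL) : ((fieldSL σ s : SL) : M) = (s : M).map σ := rfl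

theorem iotaSL_coe (s : SL) : ((iotaSL s : SL) : M) = ((s⁻¹ : SL) : M)ᵀ := rfl

theorem isInnerDiagonalAutPSL_iff (β : MulAut PSL) :
    IsInnerDiagonalAutPSL β ↔ ∃ g : GL (Fin n) F, β = gAut g := by
  constructor
  · rintro ⟨g, hg⟩
    refine ⟨g, MulEquiv.ext fun x => ?_⟩
    induction x using QuotientGroup.induction_on with | H s => ?_
    exact hg s (conjSL g s) rfl
  · rintro ⟨g, rfl⟩
    refine ⟨g, fun s s' h => ?_⟩
    exact congrArg QuotientGroup.mk (Subtype.ext h.symm : conjSL g s = s')

theorem isStdFieldAutPSL_iff (σ : F ≃+* F) (β : MulAut PSL) :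
    IsStdFieldAutPSL σ β ↔ β = fAut σ := by
  constructor
  · intro h
    refine MulEquiv.ext fun x => ?_
    induction x using QuotientGroup.induction_on with | H s => ?_
    exact h s (fieldSL σ s) rfl
  · rintro rfl s s' h
    exact congrArg QuotientGroup.mk (Subtype.ext h.symm : fieldSL σ s = s')

theorem isInverseTransposeAutPSL_iff (β : MulAut PSL) :
    IsInverseTransposeAutPSL β ↔ β = iota := by
  constructor
  · intro h
    refine MulEquiv.ext fun x => ?_
    induction x using QuotientGroup.induction_on with | H s => ?_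
    exact h s (iotaSL s) rfl
  · rintro rfl s s' h
    exact congrArg QuotientGroup.mk (Subtype.ext h.symm : iotaSL s = s')

theorem isInducedBySemilinearPSL_iff (g : GL (Fin n) F) (σ : F ≃+* F) (β : MulAut PSL) :
    IsInducedBySemilinearPSL g σ β ↔ β = gAut g * fAut σ := by
  constructor
  · intro h
    refine MulEquiv.ext fun x => ?_
    induction x using QuotientGroup.induction_on with | H s => ?_
    exact h s (conjSL g (fieldSL σ s)) rfl
  · rintro rfl s s' h
    exact congrArg QuotientGroup.mk (Subtype.ext h.symm : conjSL g (fieldSL σ s) = s')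

theorem inndiagPSL_eq : inndiagPSL n F = (gAut (n := n) (F := F)).range := by
  refine le_antisymm ((Subgroup.closure_le _).2 fun β hβ => ?_) ?_
  · obtain ⟨g, rfl⟩ := (isInnerDiagonalAutPSL_iff β).1 hβ
    exact ⟨g, rfl⟩
  · rintro _ ⟨g, rfl⟩
    exact Subgroup.subset_closure ((isInnerDiagonalAutPSL_iff _).2 ⟨g, rfl⟩)

theorem fAut_refl : fAut (n := n) (RingEquiv.refl F) = 1 := map_one _

/-- Automorphisms of `PSL` agreeing on the images of the transvections are equal. -/
theorem ext_transvection {α β : MulAut PSL}
    (h : ∀ (i j : Fin n) (hij : i ≠ j) (c : F),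
      α (QuotientGroup.mk (Matrix.SpecialLinearGroup.transvection hij c)) =
        β (QuotientGroup.mk (Matrix.SpecialLinearGroup.transvection hij c))) : α = β := by
  have h1 : α.toMonoidHom.comp (QuotientGroup.mk' (Subgroup.center SL)) =
      β.toMonoidHom.comp (QuotientGroup.mk' (Subgroup.center SL)) := by
    refine MonoidHom.eq_of_eqOn_dense Classical.Linear.closure_transvectionSet ?_
    rintro _ ⟨i, j, hij, c, rfl⟩
    exact h i j hij c
  refine MulEquiv.ext fun x => ?_
  induction x using QuotientGroup.induction_on with | H s => ?_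
  exact DFunLike.congr_fun h1 s

end Cfsg.Agent.AutPSL.Basic
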