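import Cfsg.Agent.Lib.AutPSL.Roots

/-!
# Every automorphism of `PSL_n` permutes root subgroups and can be normalised to fix a frame
-/

set_option autoImplicit false

namespace Cfsg.Agent.AutPSL.Frame

open Matrix Cfsg.Agent.AutPSL.Basic Cfsg.Agent.AutPSL.Roots

universe u

variable {F : Type u} [Field F] {n : ℕ}

local notation "SL" => Matrix.SpecialLinearGroup (Fin n) F
local notation "PSL" => Matrix.ProjectiveSpecialLinearGroup (Fin n) F
local notation "M" => Matrix (Fin n) (Fin n) F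
local notation "V" => Fin n → F

theorem vmv_mulVec (a b z : V) : vecMulVec a b *ᵥ z = (b ⬝ᵥ z) • a := by
  rw [vecMulVec_mulVec, op_smul_eq_smul]

theorem map_mul_eq (X : Subgroup PSL) (α β : MulAut PSL) :
    X.map (α * β).toMonoidHom = (X.map β.toMonoidHom).map α.toMonoidHom := by
  rw [Subgroup.map_map]
  rfl

theorem map_aut_injective (β : MulAut PSL) :
    Function.Injective (fun X : Subgroup PSL => X.map β.toMonoidHom) :=
  Subgroup.map_injective β.injective

theorem map_map_inv (X : Subgroup PSL) (β : MulAut PSL) :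
    (X.map β.toMonoidHom).map (β⁻¹).toMonoidHom = X := by
  rw [← map_mul_eq, inv_mul_cancel]
  exact Subgroup.map_id X

theorem center_map_equiv {G : Type*} [Group G] (U : Subgroup G) (φ : G ≃* G) :
    ((Subgroup.center U).map U.subtype).map φ.toMonoidHom =
      (Subgroup.center (U.map φ.toMonoidHom : Subgroup G)).map (U.map φ.toMonoidHom).subtype := by
  ext x
  constructor
  · rintro ⟨y, ⟨⟨y, hy⟩, hz, rfl⟩, rfl⟩
    refine ⟨⟨φ y, Subgroup.mem_map_of_mem _ hy⟩, Subgroup.mem_center_iff.2 ?_, rfl⟩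
    rintro ⟨_, w, hw, rfl⟩
    have := congrArg (fun a : U => φ (a : G)) (Subgroup.mem_center_iff.1 hz ⟨w, hw⟩)
    exact Subtype.ext (by simpa only [Subgroup.coe_mul, map_mul, MulEquiv.coe_toMonoidHom, MonoidHom.coe_coe, Subgroup.coe_subtype] using this)
  · rintro ⟨⟨_, y, hy, rfl⟩, hz, rfl⟩
    refine ⟨y, ⟨⟨y, hy⟩, Subgroup.mem_center_iff.2 ?_, rfl⟩, rfl⟩
    rintro ⟨w, hw⟩
    have := congrArg Subtype.val (Subgroup.mem_center_iff.1 hz ⟨φ w, Subgroup.mem_map_of_mem _ hw⟩)
    exact Subtype.ext (φ.injective (by simpa only [Subgroup.coe_mul, map_mul, MulEquiv.coe_toMonoidHom, MonoidHom.coe_coe] using this))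

theorem conj_mk_eq_gAut (s : SL) :
    MulAut.conj (QuotientGroup.mk s : PSL) = gAut (Matrix.SpecialLinearGroup.toGL s) := by
  refine MulEquiv.ext fun x => ?_
  induction x using QuotientGroup.induction_on with | H t => ?_
  refine (congrArg QuotientGroup.mk (Subtype.ext ?_) : (QuotientGroup.mk (s * t * s⁻¹) : PSL) = _)
  rfl

/-- `GL` moves the standard pair `(e₀, e_{n-1})` to any pair. -/
theorem exists_gAut {v w : V} (h : Inc v w) (hn : 2 ≤ n) :
    ∃ g : GL (Fin n) F, Par ((g : M) *ᵥ Pi.single ⟨0, by omega⟩ 1) v ∧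
      Par (((g⁻¹ : GL (Fin n) F) : M)ᵀ *ᵥ Pi.single ⟨n - 1, by omega⟩ 1) w := by
  classical
  obtain ⟨k, hk⟩ := Function.ne_iff.1 h.2.1
  simp only [Pi.zero_apply] at hk
  obtain ⟨l, hlk, hl⟩ : ∃ l, l ≠ k ∧ v l ≠ 0 := by
    by_contra hc
    push Not at hc
    have h0 : w ⬝ᵥ v = w k * v k := by
      rw [dotProduct, Finset.sum_eq_single k]
      · intro b _ hb
        rw [hc b hb, mul_zero]
      · simp
    rw [h.2.2, eq_comm, mul_eq_zero, or_iff_right hk] at h0
    exact h.1 (funext fun b => by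
      rcases eq_or_ne b k with rfl | hb
      · exact h0
      · exact hc b hb)
  set a₀ : Fin n := ⟨0, by omega⟩
  set a₁ : Fin n := ⟨n - 1, by omega⟩
  have h01 : a₀ ≠ a₁ := by simp [a₀, a₁, Fin.ext_iff]; omega
  obtain ⟨σ, hσ0, hσ1⟩ : ∃ σ : Equiv.Perm (Fin n), σ a₀ = l ∧ σ a₁ = k := by
    refine ⟨Equiv.swap a₀ l * Equiv.swap a₁ ((Equiv.swap a₀ l) k), ?_, ?_⟩
    · have hne : (Equiv.swap a₀ l) k ≠ a₀ := fun hc => by
        have := congrArg (Equiv.swap a₀ l) hc
        rw [Equiv.swap_apply_self, Equiv.swap_apply_left] at this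
        exact hlk this.symm
      rw [Equiv.Perm.mul_apply, Equiv.swap_apply_of_ne_of_ne h01 hne.symm, Equiv.swap_apply_left]
    · rw [Equiv.Perm.mul_apply, Equiv.swap_apply_left, Equiv.swap_apply_self]
  let A : M := Matrix.of fun i j =>
    if j = l then v i else if j = k then (if i = k then 1 else 0)
      else (if i = j then 1 else if i = k then -(w j / w k) else 0)
  have hA : A.det ≠ 0 := by
    intro hdet
    obtain ⟨x, hx, hx0⟩ := Matrix.exists_mulVec_eq_zero_iff.2 hdet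
    have hrow : ∀ i, i ≠ k → v i * x l + (if i = l then 0 else x i) = 0 := fun i hik => by
      have h1 := congrFun hx0 i
      rw [Matrix.mulVec, dotProduct, Pi.zero_apply] at h1
      refine Eq.trans ?_ h1
      rw [← Finset.add_sum_erase _ _ (Finset.mem_univ l)]
      congr 1
      · simp [A]
      · by_cases hil : i = l
        · subst hil
          rw [if_pos rfl]
          refine (Finset.sum_eq_zero fun b hb => ?_).symm
          simp [A, (Finset.mem_erase.1 hb).1, Ne.symm (Finset.mem_erase.1 hb).1, hik]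
        · rw [if_neg hil, Finset.sum_eq_single i]
          · simp [A, hil, hik]
          · intro b hb hbi
            simp [A, (Finset.mem_erase.1 hb).1, Ne.symm hbi, hik]
          · simp [hil]
    have hxl : x l = 0 := by
      simpa [hl] using hrow l hlk
    have hxi : ∀ i, i ≠ k → x i = 0 := fun i hik => by
      by_cases hil : i = l
      · exact hil ▸ hxl
      · simpa [hil, hxl] using hrow i hik
    apply hx
    funext i
    by_cases hik : i = k
    · subst hik
      have h1 := congrFun hx0 i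
      rw [Matrix.mulVec, dotProduct, Finset.sum_eq_single i] at h1
      · simpa [A, hlk.symm] using h1
      · intro b _ hb
        rw [hxi b hb, mul_zero]
      · simp
    · exact hxi i hik
  have hwA : ∀ j, (Aᵀ *ᵥ w) j = if j = k then w k else 0 := fun j => by
    rw [Matrix.mulVec, dotProduct]
    by_cases hjl : j = l
    · subst hjl
      rw [if_neg hlk, ← h.2.2, dotProduct]
      exact Finset.sum_congr rfl fun i _ => by simp [A, mul_comm]
    by_cases hjk : j = k
    · subst hjk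
      rw [if_pos rfl, Finset.sum_eq_single j]
      · simp [A, hjl]
      · intro b _ hb; simp [A, hjl, hb]
      · simp
    · rw [if_neg hjk, Finset.sum_eq_add_of_mem j k (Finset.mem_univ _) (Finset.mem_univ _) hjk]
      · simp [A, hjl, hjk, Ne.symm hjk]
        field_simp
        ring
      · intro b _ hb; simp [A, hjl, hjk, hb.1, hb.2]
  let B : M := A.submatrix id σ
  have hB : B.det ≠ 0 := by
    rw [Matrix.det_permute']
    exact mul_ne_zero (by rcases Int.units_eq_one_or (Equiv.Perm.sign σ) with h | h <;> simp [h]) hA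
  refine ⟨Matrix.GeneralLinearGroup.mkOfDetNeZero B hB, ?_, ?_⟩
  · refine ⟨1, one_ne_zero, ?_⟩
    rw [one_smul]
    funext i
    change v i = (B *ᵥ Pi.single a₀ 1) i
    rw [Matrix.mulVec_single_one]
    simp [B, A, hσ0]
  · refine ⟨w k, hk, ?_⟩
    set g := Matrix.GeneralLinearGroup.mkOfDetNeZero B hB
    have h1 : (g : M)ᵀ *ᵥ w = w k • Pi.single a₁ 1 := by
      funext j
      have := hwA (σ j)
      simp only [Matrix.mulVec, dotProduct] at this
      change (∑ i, B i j * w i) = _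
      rw [show (∑ i, B i j * w i) = _ from this]
      by_cases hj : j = a₁
      · simp [hj, hσ1]
      · have : σ j ≠ k := fun h2 => hj (σ.injective (h2.trans hσ1.symm))
        simp [hj, this]
    rw [← Matrix.mulVec_smul, ← h1, Matrix.mulVec_mulVec, ← Matrix.transpose_mul, Units.mul_inv,
      Matrix.transpose_one, Matrix.one_mulVec]

variable [Fintype F]

/-- Every automorphism maps root subgroups to root subgroups. -/
theorem map_isRoot (hn : 2 ≤ n) (β : MulAut PSL) {X : Subgroup PSL} {v w : V}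
    (hX : IsRootOf X v w) : IsRoot (X.map β.toMonoidHom) := by
  classical
  have : Fact (ringChar F).Prime :=
    ⟨(CharP.char_is_prime_or_zero F (ringChar F)).resolve_right (CharP.ringChar_ne_zero_of_finite F)⟩
  obtain ⟨g, hg₁, hg₂⟩ := exists_gAut hX.1 hn
  set U := unitri (n := n) (F := F)
  have hZ := isRoot_center_unitri (F := F) hn
  have hXeq : X = ((Subgroup.center U).map U.subtype).map (gAut g).toMonoidHom :=
    ((hZ.map_gAut g).eq_iff hX |>.2 ⟨hg₁, hg₂⟩).symm
  obtain ⟨P, hP⟩ := exists_sylow_eq (F := F) (n := n) (ringChar F) (by omega)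
  set φ := β * gAut g with hφ
  let Q : Sylow (ringChar F) PSL := P.mapSurjective (f := φ.toMonoidHom) φ.surjective
  obtain ⟨y, hy⟩ := MulAction.exists_smul_eq PSL P Q
  obtain ⟨s, rfl⟩ := QuotientGroup.mk_surjective y
  have hQ : U.map (MulAut.conj (QuotientGroup.mk s : PSL)).toMonoidHom = U.map φ.toMonoidHom := by
    have := congrArg (fun S : Sylow (ringChar F) PSL => (S : Subgroup PSL)) hy
    simp [Q, hP, Subgroup.pointwise_smul_def, Sylow.coe_subgroup_smul] at this
    exact this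
  rw [hXeq, ← map_mul_eq, ← hφ, center_map_equiv U φ]
  rw [show (U.map φ.toMonoidHom) = U.map (gAut (Matrix.SpecialLinearGroup.toGL s)).toMonoidHom by
    rw [← conj_mk_eq_gAut, hQ]]
  rw [← center_map_equiv]
  exact ⟨_, _, hZ.map_gAut _⟩

theorem par_of_two (hn : n = 2) {v w w' : V} (h : Inc v w) (h' : Inc v w') : Par w w' := by
  subst hn
  have h1 : w 0 * v 0 + w 1 * v 1 = 0 := by simpa [dotProduct, Fin.sum_univ_two] using h.2.2
  have h2 : w' 0 * v 0 + w' 1 * v 1 = 0 := by simpa [dotProduct, Fin.sum_univ_two] using h'.2.2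
  have hd : w 0 * w' 1 = w 1 * w' 0 := by
    rcases eq_or_ne (v 0) 0 with hv | hv
    · have hv1 : v 1 ≠ 0 := fun hv1 => h.1 (funext fun i => by fin_cases i <;> assumption)
      rw [hv] at h1 h2
      simp [hv1] at h1 h2
      simp [h1, h2]
    · have : (w 0 * w' 1 - w 1 * w' 0) * v 0 = 0 := by linear_combination w' 1 * h1 - w 1 * h2
      exact sub_eq_zero.1 ((mul_eq_zero.1 this).resolve_right hv)
  rcases eq_or_ne (w 0) 0 with hw | hw
  · have hw1 : w 1 ≠ 0 := fun hw1 => h.2.1 (funext fun i => by fin_cases i <;> assumption)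
    have hw' : w' 0 = 0 := by
      rw [hw, zero_mul] at hd
      exact (mul_eq_zero.1 hd.symm).resolve_left hw1
    have hw'1 : w' 1 ≠ 0 := fun hw1 => h'.2.1 (funext fun i => by fin_cases i <;> assumption)
    refine ⟨w' 1 / w 1, div_ne_zero hw'1 hw1, funext fun i => ?_⟩
    fin_cases i <;> simp [hw, hw', hw1]
  · have hw'0 : w' 0 ≠ 0 := fun hc => h'.2.1 (funext fun i => by
      rw [hc, mul_zero, mul_eq_zero, or_iff_right hw] at hd
      fin_cases i <;> assumption)
    refine ⟨w' 0 / w 0, div_ne_zero hw'0 hw, funext fun i => ?_⟩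
    fin_cases i
    · simp [hw]
    · simp only [Pi.smul_apply, smul_eq_mul, Fin.mk_one]
      rw [div_mul_eq_mul_div, eq_div_iff hw, mul_comm, hd]
      ring

/-- There is a vector orthogonal to two given ones. -/
theorem exists_orth (hn : 3 ≤ n) (v v' : V) : ∃ w : V, w ≠ 0 ∧ w ⬝ᵥ v = 0 ∧ w ⬝ᵥ v' = 0 := by
  let f : V →ₗ[F] F × F :=
    { toFun := fun w => (w ⬝ᵥ v, w ⬝ᵥ v')
      map_add' := fun a b => by simp [add_dotProduct]
      map_smul' := fun c a => by simp [smul_dotProduct] }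
  have hker : LinearMap.ker f ≠ ⊥ := by
    refine LinearMap.ker_ne_bot_of_finrank_lt (f := f) ?_
    rw [Module.finrank_prod, Module.finrank_self, Module.finrank_fin_fun]
    omega
  obtain ⟨w, hw, hw0⟩ := Submodule.exists_mem_ne_zero_of_ne_bot hker
  exact ⟨w, hw0, congrArg Prod.fst hw, congrArg Prod.snd hw⟩

theorem exists_two (hn : 3 ≤ n) {v : V} (hv : v ≠ 0) :
    ∃ w w', Inc v w ∧ Inc v w' ∧ ¬ Par w w' := by
  obtain ⟨w, hw, hwv, -⟩ := exists_orth hn v v
  obtain ⟨k, hk⟩ := Function.ne_iff.1 hw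
  obtain ⟨w', hw', hwv', hwk⟩ := exists_orth hn v (Pi.single k 1)
  rw [dotProduct_single, mul_one] at hwk
  refine ⟨w, w', ⟨hv, hw, hwv⟩, ⟨hv, hw', hwv'⟩, ?_⟩
  rintro ⟨c, hc, rfl⟩
  rw [Pi.smul_apply, smul_eq_mul, mul_eq_zero] at hwk
  exact hk (hwk.resolve_left hc)

/-- Every product of an element of `X` and an element of `Y` lies in a root subgroup. -/
def Adj (X Y : Subgroup PSL) : Prop :=
  ∀ x ∈ X, ∀ y ∈ Y, ∃ Z : Subgroup PSL, IsRoot Z ∧ x * y ∈ Z

theorem adj_map (hn : 2 ≤ n) (β : MulAut PSL) {X Y : Subgroup PSL} (h : Adj X Y) :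
    Adj (X.map β.toMonoidHom) (Y.map β.toMonoidHom) := by
  rintro _ ⟨x, hx, rfl⟩ _ ⟨y, hy, rfl⟩
  obtain ⟨Z, ⟨v, w, hZ⟩, hxy⟩ := h x hx y hy
  exact ⟨_, map_isRoot hn β hZ, x * y, hxy, map_mul _ _ _⟩

theorem exists_dot {a b : V} (hb : b ≠ 0) (hp : a ≠ 0 → ¬ Par b a) (ha : a ≠ 0) :
    ∃ z : V, b ⬝ᵥ z = 0 ∧ a ⬝ᵥ z = 1 := by
  obtain ⟨j, hj⟩ := Function.ne_iff.1 hb
  simp only [Pi.zero_apply] at hj
  obtain ⟨i, hi⟩ : ∃ i, a i * b j - a j * b i ≠ 0 := by
    by_contra hc
    push Not at hc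
    have heq : a = (a j / b j) • b := funext fun i => by
      rw [Pi.smul_apply, smul_eq_mul, div_mul_eq_mul_div, eq_div_iff hj]
      exact sub_eq_zero.1 (hc i)
    exact hp ha ⟨a j / b j, fun h0 => ha (by rw [heq, h0, zero_smul]), heq⟩
  refine ⟨(a i * b j - a j * b i)⁻¹ • (b j • Pi.single i 1 - b i • Pi.single j 1), ?_, ?_⟩
  · simp [dotProduct_sub, mul_comm]
  · simp only [dotProduct_smul, dotProduct_sub, dotProduct_single, smul_eq_mul, mul_one]
    rw [mul_comm (b j), mul_comm (b i), inv_mul_cancel₀ hi]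

theorem adj_iff (hn : 3 ≤ n) {X Y : Subgroup PSL} {v w v' w' : V} (hX : IsRootOf X v w)
    (hY : IsRootOf Y v' w') : Adj X Y ↔ Par v v' ∨ Par w w' := by
  constructor
  · intro h
    by_contra hc
    rw [not_or] at hc
    obtain ⟨Z, ⟨a, b, hZ⟩, hz⟩ := h _ (hX.mem 1) _ (hY.mem 1)
    obtain ⟨s, ⟨c, hs⟩, heq⟩ := (hZ.2 _).1 hz
    rw [← QuotientGroup.mk_mul, eq_comm, mk_eq_mk_iff] at heq
    obtain ⟨d, hd⟩ := heq
    change (1 + vecMulVec ((1 : F) • v) w) * (1 + vecMulVec ((1 : F) • v') w') = d • (s : M) at hd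
    have hA : vecMulVec v (w + (w ⬝ᵥ v') • w') + vecMulVec v' w' = c • vecMulVec a b := by
      obtain ⟨z, hz0, hzw, hzw'⟩ := exists_orth hn w w'
      refine eq_of_smul ?_ hz0 ?_ (c := d) ?_
      · rw [smul_mul_smul_comm, sq_zero hZ.1.2.2, smul_zero]
      · rw [add_mulVec, vecMulVec_mulVec, vecMulVec_mulVec, add_dotProduct, smul_dotProduct,
          dotProduct_comm w, hzw, dotProduct_comm w' z, hzw']
        simp
      · rw [← hs, ← hd, one_smul, one_smul, mul_add, add_mul, add_mul, vecMulVec_mul_vecMulVec,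
          vecMulVec_add, vmv_smul]
        simp
        abel
    have happ : ∀ z : V, ((w + (w ⬝ᵥ v') • w') ⬝ᵥ z) • v + (w' ⬝ᵥ z) • v' = (c * (b ⬝ᵥ z)) • a := by
      intro z
      have := congrArg (· *ᵥ z) hA
      simpa [add_mulVec, smul_mulVec, vmv_mulVec, smul_smul] using this
    have hu : w + (w ⬝ᵥ v') • w' ≠ 0 := fun h0 => by
      refine hc.2 (Par.symm ⟨-(w ⬝ᵥ v'), fun hz0 => hX.1.2.1 ?_, ?_⟩)
      · rw [neg_eq_zero] at hz0; simpa [hz0] using h0
      · rw [neg_smul]; exact eq_neg_of_add_eq_zero_left h0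
    have hnp : ¬ Par w' (w + (w ⬝ᵥ v') • w') := by
      rintro ⟨e, he, he'⟩
      have h1 : w = (e - w ⬝ᵥ v') • w' := by rw [sub_smul, ← he', add_sub_cancel_right]
      exact hc.2 (Par.symm ⟨_, fun h0 => hX.1.2.1 (by rw [h1, h0, zero_smul]), h1⟩)
    obtain ⟨z₁, hz₁, hz₁'⟩ := exists_dot hY.1.2.1 (fun _ => hnp) hu
    obtain ⟨z₂, hz₂, hz₂'⟩ := exists_dot hu (fun _ hp => hnp hp.symm) hY.1.2.1
    have h1 := happ z₁
    have h2 := happ z₂
    rw [hz₁, hz₁', one_smul, zero_smul, add_zero] at h1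
    rw [hz₂, hz₂', one_smul, zero_smul, zero_add] at h2
    have e1 : c * (b ⬝ᵥ z₁) ≠ 0 := fun h0 => hX.1.1 (by rw [h1, h0, zero_smul])
    have e2 : c * (b ⬝ᵥ z₂) ≠ 0 := fun h0 => hY.1.1 (by rw [h2, h0, zero_smul])
    exact hc.1 ((Par.symm ⟨_, e1, h1⟩).trans ⟨_, e2, h2⟩)
  · rintro h x hx y hy
    obtain ⟨s, ⟨c, hs⟩, rfl⟩ := (hX.2 x).1 hx
    obtain ⟨t, ⟨d, ht⟩, rfl⟩ := (hY.2 y).1 hy
    have hst : ((s * t : SL) : M) =
        1 + c • vecMulVec v w + d • vecMulVec v' w' + (c * d) • (vecMulVec v w * vecMulVec v' w') := by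
      rw [Matrix.SpecialLinearGroup.coe_mul, hs, ht, mul_add, add_mul, add_mul,
        smul_mul_smul_comm]
      simp
      abel
    rcases h with ⟨e, he, rfl⟩ | ⟨e, he, rfl⟩
    · by_cases h0 : c • w + (d * e) • w' = 0
      · refine ⟨X, ⟨v, w, hX⟩, ?_⟩
        have : s * t = 1 := Subtype.ext (by
          rw [hst, vecMulVec_mul_vecMulVec, dotProduct_smul, hX.1.2.2, smul_vecMulVec, smul_smul,
            ]
          simp only [zero_smul, vecMulVec_zero, smul_zero, add_zero, add_assoc]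
          rw [← vmv_smul, ← vmv_smul, ← vecMulVec_add, h0, vecMulVec_zero, add_zero]
          rfl)
        rw [← QuotientGroup.mk_mul, this]
        exact one_mem X
      · obtain ⟨Z, hZ⟩ := exists_rootOf (v := v) (w := c • w + (d * e) • w')
          ⟨hX.1.1, h0, by
            have := hY.1.2.2
            rw [dotProduct_smul, smul_eq_mul, mul_eq_zero, or_iff_right he] at this
            simp [add_dotProduct, hX.1.2.2, this]⟩
        refine ⟨Z, ⟨_, _, hZ⟩, (hZ.2 _).2 ⟨s * t, ⟨1, ?_⟩, (QuotientGroup.mk_mul _ _ _).symm⟩⟩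
        rw [hst, vecMulVec_mul_vecMulVec, dotProduct_smul, hX.1.2.2, smul_vecMulVec, smul_smul,
          one_smul, vecMulVec_add, vmv_smul, vmv_smul]
        simp [add_assoc]
    · have hwv' : w ⬝ᵥ v' = 0 := by
        have := hY.1.2.2
        rwa [smul_dotProduct, smul_eq_mul, mul_eq_zero, or_iff_right he] at this
      by_cases h0 : c • v + (d * e) • v' = 0
      · refine ⟨X, ⟨v, w, hX⟩, ?_⟩
        have : s * t = 1 := Subtype.ext (by
          rw [hst, vecMulVec_mul_vecMulVec, hwv', vmv_smul, smul_smul, ← smul_vecMulVec,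
            ← smul_vecMulVec]
          simp only [zero_smul, vecMulVec_zero, zero_vecMulVec, smul_zero, add_zero, add_assoc]
          rw [← add_vecMulVec, h0, zero_vecMulVec, add_zero]
          rfl)
        rw [← QuotientGroup.mk_mul, this]
        exact one_mem X
      · obtain ⟨Z, hZ⟩ := exists_rootOf (v := c • v + (d * e) • v') (w := w)
          ⟨h0, hX.1.2.1, by simp [dotProduct_add, hX.1.2.2, hwv']⟩
        refine ⟨Z, ⟨_, _, hZ⟩, (hZ.2 _).2 ⟨s * t, ⟨1, ?_⟩, (QuotientGroup.mk_mul _ _ _).symm⟩⟩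
        rw [hst, vecMulVec_mul_vecMulVec, hwv', vmv_smul, smul_smul, one_smul, add_vecMulVec,
          smul_vecMulVec, smul_vecMulVec]
        simp [add_assoc]

/-- After composing with inverse transpose if necessary, an automorphism acts on root subgroups
through a map of points and a map of hyperplanes. -/
theorem exists_point_map (hn : 2 ≤ n) (β : MulAut PSL) :
    ∃ γ : MulAut PSL, (γ = 1 ∨ γ = iota) ∧ ∃ (Vi Wi : V → V → V),
      (∀ v w (X : Subgroup PSL), IsRootOf X v w →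
        IsRootOf (X.map (γ * β).toMonoidHom) (Vi v w) (Wi v w)) ∧
      (∀ v w v' w', Inc v w → Inc v' w' → Par v v' → Par (Vi v w) (Vi v' w')) ∧
      (∀ v w v' w', Inc v w → Inc v' w' → Par w w' → Par (Wi v w) (Wi v' w')) ∧
      (∀ v w v' w', Inc v w → Inc v' w' → Par (Vi v w) (Vi v' w') → Par v v') := by
  classical
  have hch : ∀ v w, Inc v w → ∃ a b : V, ∀ X, IsRootOf X v w → IsRootOf (X.map β.toMonoidHom) a b := by
    intro v w h
    obtain ⟨X, hX⟩ := exists_rootOf h
    obtain ⟨a, b, hab⟩ := map_isRoot hn β hX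
    exact ⟨a, b, fun Y hY => by rw [hY.unique hX]; exact hab⟩
  choose! Vi Wi hVW using hch
  have hR2 : ∀ v w v' w', Inc v w → Inc v' w' →
      (Par v v' ∧ Par w w' ↔ Par (Vi v w) (Vi v' w') ∧ Par (Wi v w) (Wi v' w')) := by
    intro v w v' w' h h'
    obtain ⟨X, hX⟩ := exists_rootOf h
    obtain ⟨Y, hY⟩ := exists_rootOf h'
    rw [← hX.eq_iff hY, ← (hVW v w h X hX).eq_iff (hVW v' w' h' Y hY)]
    exact ⟨fun e => e ▸ rfl, fun e => map_aut_injective β e⟩
  rcases Nat.lt_or_ge n 3 with h2 | h3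
  · refine ⟨1, Or.inl rfl, Vi, Wi, fun v w X hX => by rw [one_mul]; exact hVW v w hX.1 X hX, ?_, ?_, ?_⟩
    · intro v w v' w' h h' hp
      refine ((hR2 v w v' w' h h').1 ⟨hp, ?_⟩).1
      obtain ⟨c, hc, rfl⟩ := hp
      refine par_of_two (by omega) h ⟨h.1, h'.2.1, ?_⟩
      have := h'.2.2
      rwa [dotProduct_smul, smul_eq_mul, mul_eq_zero, or_iff_right hc] at this
    · intro v w v' w' h h' hp
      refine ((hR2 v w v' w' h h').1 ⟨?_, hp⟩).2
      obtain ⟨c, hc, rfl⟩ := hp
      have := h'.2.2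
      rw [smul_dotProduct, smul_eq_mul, mul_eq_zero, or_iff_right hc, dotProduct_comm] at this
      exact par_of_two (by omega) ⟨h.2.1, h.1, by rw [dotProduct_comm]; exact h.2.2⟩ ⟨h.2.1, h'.1, this⟩
    · intro v w v' w' h h' hp
      obtain ⟨X, hX⟩ := exists_rootOf h
      obtain ⟨Y, hY⟩ := exists_rootOf h'
      have hA := (hVW v w h X hX).1
      have hB := (hVW v' w' h' Y hY).1
      refine ((hR2 v w v' w' h h').2 ⟨hp, ?_⟩).1
      obtain ⟨c, hc, he⟩ := hp
      refine par_of_two (by omega) hA ⟨hA.1, hB.2.1, ?_⟩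
      have := hB.2.2
      rwa [he, dotProduct_smul, smul_eq_mul, mul_eq_zero, or_iff_right hc] at this
  have hR1 : ∀ v w v' w', Inc v w → Inc v' w' →
      (Par v v' ∨ Par w w' ↔ Par (Vi v w) (Vi v' w') ∨ Par (Wi v w) (Wi v' w')) := by
    intro v w v' w' h h'
    obtain ⟨X, hX⟩ := exists_rootOf h
    obtain ⟨Y, hY⟩ := exists_rootOf h'
    rw [← adj_iff h3 hX hY, ← adj_iff h3 (hVW v w h X hX) (hVW v' w' h' Y hY)]
    refine ⟨adj_map hn β, fun e => ?_⟩
    have e' := adj_map hn β⁻¹ e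
    rwa [map_map_inv, map_map_inv] at e'
  -- a point star is constant on points or on hyperplanes
  have hdich : ∀ v, (∀ v₁ w v₂ w', Inc v₁ w → Inc v₂ w' → Par v v₁ → Par v v₂ → Par (Vi v₁ w) (Vi v₂ w')) ∨
      (∀ v₁ w v₂ w', Inc v₁ w → Inc v₂ w' → Par v v₁ → Par v v₂ → Par (Wi v₁ w) (Wi v₂ w')) := by
    intro v
    by_cases hc : ∀ v₁ w v₂ w', Inc v₁ w → Inc v₂ w' → Par v v₁ → Par v v₂ →
        Par (Vi v₁ w) (Vi v₂ w')
    · exact Or.inl hc
    · push Not at hc
      obtain ⟨a₁, b₁, a₂, b₂, h1, h2, p1, p2, hnV⟩ := hc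
      have hW12 := ((hR1 a₁ b₁ a₂ b₂ h1 h2).1 (Or.inl (p1.symm.trans p2))).resolve_left hnV
      have hall : ∀ a b, Inc a b → Par v a → Par (Wi a b) (Wi a₁ b₁) := by
        intro a b h p
        rcases (hR1 a b a₁ b₁ h h1).1 (Or.inl (p.symm.trans p1)) with hV | hW
        · rcases (hR1 a b a₂ b₂ h h2).1 (Or.inl (p.symm.trans p2)) with hV' | hW'
          · exact absurd (hV.symm.trans hV') hnV
          · exact hW'.trans hW12.symm
        · exact hW
      exact Or.inr fun v₁ w v₂ w' h h' p p' => (hall v₁ w h p).trans (hall v₂ w' h' p').symm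
  -- incident stars are of opposite types
  have hopp : ∀ v w v' w', Inc v w → Inc v w' → Inc v' w → ¬ Par w w' → ¬ Par v v' →
      ¬ (Par (Vi v w) (Vi v w') ∧ Par (Vi v w) (Vi v' w)) ∧
      ¬ (Par (Wi v w) (Wi v w') ∧ Par (Wi v w) (Wi v' w)) := by
    intro v w v' w' h h₁ h₂ hw hv
    constructor <;> intro hc
    · rcases (hR1 v w' v' w h₁ h₂).2 (Or.inl (hc.1.symm.trans hc.2)) with e | e
      · exact hv e
      · exact hw e.symm
    · rcases (hR1 v w' v' w h₁ h₂).2 (Or.inr (hc.1.symm.trans hc.2)) with e | e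
      · exact hv e
      · exact hw e.symm
  have htwo : ∀ w : V, w ≠ 0 → ∀ v, Inc v w → ∃ v', Inc v' w ∧ ¬ Par v v' := by
    intro w hw v h
    obtain ⟨a, b, ha, hb, hab⟩ := exists_two h3 hw
    have ha' : Inc a w := ⟨ha.2.1, hw, by rw [dotProduct_comm]; exact ha.2.2⟩
    have hb' : Inc b w := ⟨hb.2.1, hw, by rw [dotProduct_comm]; exact hb.2.2⟩
    by_cases hp : Par v a
    · exact ⟨b, hb', fun hp' => hab (hp.symm.trans hp')⟩
    · exact ⟨a, ha', hp⟩
  have htwo' : ∀ v w : V, Inc v w → ∃ w', Inc v w' ∧ ¬ Par w w' := by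
    intro v w h
    obtain ⟨a, b, ha, hb, hab⟩ := exists_two h3 h.1
    by_cases hp : Par w a
    · exact ⟨b, hb, fun hp' => hab (hp.symm.trans hp')⟩
    · exact ⟨a, ha, hp⟩
  -- hence all point stars have the same type
  have hsame : ∀ v w v' , Inc v w → Inc v' w →
      (∀ a, Inc v a → Par (Vi v w) (Vi v a)) → ∀ a, Inc v' a → Par (Vi v' w) (Vi v' a) := by
    intro v w v' h h' hP
    rcases hdich v' with hV | hW
    · exact fun a ha => hV v' w v' a h' ha (Par.refl _) (Par.refl _)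
    · exfalso
      obtain ⟨w₁, hw₁, hw₁'⟩ := htwo' v w h
      obtain ⟨w₂, hw₂, hw₂'⟩ := htwo' v' w h'
      by_cases hvv : Par v v'
      · obtain ⟨c, hc, rfl⟩ := hvv
        have hinc : Inc v w₂ := ⟨h.1, hw₂.2.1, by
          have := hw₂.2.2
          rwa [dotProduct_smul, smul_eq_mul, mul_eq_zero, or_iff_right hc] at this⟩
        have hp : Par v (c • v) := ⟨c, hc, rfl⟩
        have e1 := hP w₂ hinc
        have e2 := hW v w v w₂ h hinc hp.symm hp.symm
        exact hw₂' ((hR2 v w v w₂ h hinc).2 ⟨e1, e2⟩).2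
      · have e1 := hP w₁ hw₁
        have e2 : Par (Wi v' w) (Wi v' w₂) := hW v' w v' w₂ h' hw₂ (Par.refl _) (Par.refl _)
        rcases (hR1 v w v' w h h').1 (Or.inr (Par.refl _)) with e | e
        · exact (hopp v w v' w₁ h hw₁ h' hw₁' hvv).1 ⟨e1, e⟩
        · exact (hopp v' w v w₂ h' hw₂ h hw₂' fun p => hvv p.symm).2 ⟨e2, e.symm⟩
  have hreflect : ∀ (A B : V → V → V),
      (∀ v w v' w', Inc v w → Inc v' w' → Par v v' → Par (A v w) (A v' w')) →
      (∀ v w v' w', Inc v w → Inc v' w' → Par w w' → Par (B v w) (B v' w')) →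
      (∀ v w v' w', Inc v w → Inc v' w' → Par (A v w) (A v' w') → Par (B v w) (B v' w') → Par v v') →
      ∀ v w v' w', Inc v w → Inc v' w' → Par (A v w) (A v' w') → Par v v' := by
    intro A B hA hB hAB v w v' w' h h' hp
    obtain ⟨u, hu, huv, huv'⟩ := exists_orth h3 v v'
    have hi : Inc v u := ⟨h.1, hu, huv⟩
    have hi' : Inc v' u := ⟨h'.1, hu, huv'⟩
    exact hAB v u v' u hi hi'
      (((hA v u v w hi h (Par.refl _)).trans hp).trans (hA v' w' v' u h' hi' (Par.refl _)))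
      (hB v u v' u hi hi' (Par.refl _))
  by_cases hall : ∀ v w w', Inc v w → Inc v w' → Par (Vi v w) (Vi v w')
  · have hA : ∀ v w v' w', Inc v w → Inc v' w' → Par v v' → Par (Vi v w) (Vi v' w') := by
      intro v w v' w' h h' hp
      rcases hdich v with hV | hW
      · exact hV v w v' w' h h' (Par.refl _) hp
      · exfalso
        obtain ⟨w₁, hw₁, hw₁'⟩ := htwo' v w h
        exact hw₁' ((hR2 v w v w₁ h hw₁).2
          ⟨hall v w w₁ h hw₁, hW v w v w₁ h hw₁ (Par.refl _) (Par.refl _)⟩).2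
    have hB : ∀ v w v' w', Inc v w → Inc v' w' → Par w w' → Par (Wi v w) (Wi v' w') := by
      intro v w v' w' h h' hp
      by_cases hvv : Par v v'
      · exact ((hR2 v w v' w' h h').1 ⟨hvv, hp⟩).2
      · rcases (hR1 v w v' w' h h').1 (Or.inr hp) with e | e
        · exfalso
          obtain ⟨c, hc, rfl⟩ := hp
          obtain ⟨w₁, hw₁, hw₁'⟩ := htwo' v w h
          have hv'w : Inc v' w := ⟨h'.1, h.2.1, by
            have := h'.2.2
            rwa [smul_dotProduct, smul_eq_mul, mul_eq_zero, or_iff_right hc] at this⟩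
          exact (hopp v w v' w₁ h hw₁ hv'w hw₁' hvv).1
            ⟨hall v w w₁ h hw₁, e.trans (hall v' (c • w) w h' hv'w)⟩
        · exact e
    exact ⟨1, Or.inl rfl, Vi, Wi, fun v w X hX => by rw [one_mul]; exact hVW v w hX.1 X hX, hA, hB,
      hreflect Vi Wi hA hB fun v w v' w' h h' a b => ((hR2 v w v' w' h h').2 ⟨a, b⟩).1⟩
  · -- all point stars are constant on hyperplanes
    push Not at hall
    obtain ⟨v₀, a₀, b₀, ha₀, hb₀, hn₀⟩ := hall
    have hA : ∀ v w v' w', Inc v w → Inc v' w' → Par v v' → Par (Wi v w) (Wi v' w') := by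
      intro v w v' w' h h' hp
      rcases hdich v with hV | hW
      · exfalso
        obtain ⟨u, hu, huv, huv₀⟩ := exists_orth h3 v v₀
        have hi : Inc v u := ⟨h.1, hu, huv⟩
        have hi₀ : Inc v₀ u := ⟨ha₀.1, hu, huv₀⟩
        have hs := hsame v u v₀ hi hi₀ fun a ha => hV v u v a hi ha (Par.refl _) (Par.refl _)
        exact hn₀ ((hs a₀ ha₀).symm.trans (hs b₀ hb₀))
      · exact hW v w v' w' h h' (Par.refl _) hp
    have hB : ∀ v w v' w', Inc v w → Inc v' w' → Par w w' → Par (Vi v w) (Vi v' w') := by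
      intro v w v' w' h h' hp
      by_cases hvv : Par v v'
      · exact ((hR2 v w v' w' h h').1 ⟨hvv, hp⟩).1
      · rcases (hR1 v w v' w' h h').1 (Or.inr hp) with e | e
        · exact e
        · exfalso
          obtain ⟨c, hc, rfl⟩ := hp
          obtain ⟨w₁, hw₁, hw₁'⟩ := htwo' v w h
          have hv'w : Inc v' w := ⟨h'.1, h.2.1, by
            have := h'.2.2
            rwa [smul_dotProduct, smul_eq_mul, mul_eq_zero, or_iff_right hc] at this⟩
          exact (hopp v w v' w₁ h hw₁ hv'w hw₁' hvv).2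
            ⟨hA v w v w₁ h hw₁ (Par.refl _), e.trans (hA v' (c • w) v' w h' hv'w (Par.refl _))⟩
    refine ⟨iota, Or.inr rfl, Wi, Vi, fun v w X hX => ?_, hA, hB,
      hreflect Wi Vi hA hB fun v w v' w' h h' a b => ((hR2 v w v' w' h h').2 ⟨b, a⟩).1⟩
    rw [map_mul_eq]
    exact (hVW v w hX.1 X hX).map_iota

/-- Up to inner-diagonal automorphisms and inverse transpose every automorphism fixes the
elementary root subgroups. -/
theorem exists_frame (hn : 2 ≤ n) (β : MulAut PSL) :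
    ∃ (g : GL (Fin n) F) (γ : MulAut PSL), (γ = 1 ∨ γ = iota) ∧
      ∀ (i j : Fin n) (hij : i ≠ j) (c : F), ∃ c' : F,
        (gAut g * γ * β) (QuotientGroup.mk (Matrix.SpecialLinearGroup.transvection hij c)) =
          QuotientGroup.mk (Matrix.SpecialLinearGroup.transvection hij c') := by
  classical
  obtain ⟨γ, hγ, Vi, Wi, hroot, hA, hB, hC⟩ := exists_point_map hn β
  have hother : ∀ i : Fin n, ∃ k, k ≠ i := fun i => by
    have : Nontrivial (Fin n) := Fin.nontrivial_iff_two_le.2 hn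
    exact exists_ne i
  choose o ho using hother
  let e : Fin n → V := fun i => Pi.single i 1
  have he : ∀ i j, i ≠ j → Inc (e i) (e j) := fun i j h => ⟨by simp [e], by simp [e], by simp [e, h]⟩
  let P : Fin n → V := fun i => Vi (e i) (e (o i))
  let Q : Fin n → V := fun j => Wi (e (o j)) (e j)
  have himg : ∀ i j (hij : i ≠ j) (X : Subgroup PSL), IsRootOf X (e i) (e j) →
      ∃ Y, Y = X.map (γ * β).toMonoidHom ∧ IsRootOf Y (Vi (e i) (e j)) (Wi (e i) (e j)) ∧
        Par (P i) (Vi (e i) (e j)) ∧ Par (Q j) (Wi (e i) (e j)) := fun i j hij X hX =>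
    ⟨_, rfl, hroot _ _ X hX, hA _ _ _ _ (he _ _ (ho i).symm) (he _ _ hij) (Par.refl _),
      hB _ _ _ _ (he _ _ (ho j)) (he _ _ hij) (Par.refl _)⟩
  have hQP : ∀ i j, i ≠ j → Q j ⬝ᵥ P i = 0 := fun i j hij => by
    obtain ⟨X, hX⟩ := exists_rootOf (he i j hij)
    obtain ⟨Y, -, hY, ⟨a, ha, hP⟩, ⟨b, hb, hQ⟩⟩ := himg i j hij X hX
    have := hY.1.2.2
    rw [hP, hQ, smul_dotProduct, dotProduct_smul] at this
    simpa [ha, hb] using this
  have hP0 : ∀ i, P i ≠ 0 := fun i => by
    obtain ⟨X, hX⟩ := exists_rootOf (he i (o i) (ho i).symm)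
    exact (hroot _ _ X hX).1.1
  have hQ0 : ∀ j, Q j ≠ 0 := fun j => by
    obtain ⟨X, hX⟩ := exists_rootOf (he (o j) j (ho j))
    exact (hroot _ _ X hX).1.2.1
  have hdiag : ∀ i, Q i ⬝ᵥ P i ≠ 0 := by
    intro i h0
    obtain ⟨Z, hZ⟩ := exists_rootOf (v := P i) (w := Q i) ⟨hP0 i, hQ0 i, h0⟩
    obtain ⟨v, w, hvw⟩ := map_isRoot hn (γ * β)⁻¹ hZ
    have h1 := hroot v w _ hvw
    rw [← map_mul_eq, mul_inv_cancel, show Z.map (1 : MulAut PSL).toMonoidHom = Z from Subgroup.map_id Z] at h1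
    obtain ⟨p1, p2⟩ := (h1.eq_iff hZ).1 rfl
    have hv : Par v (e i) := hC v w (e i) (e (o i)) hvw.1 (he _ _ (ho i).symm) p1
    obtain ⟨a, ha, hva⟩ := hv
    -- `w` is orthogonal to `e i`; so it is not parallel to it
    have hwi : w i = 0 := by
      have := hvw.1.2.2
      have h2 : w ⬝ᵥ e i = 0 := by rw [hva, dotProduct_smul, this, smul_zero]
      simpa [e] using h2
    have hw : Par w (e i) := by
      rcases Nat.lt_or_ge n 3 with h2 | h3
      · exfalso
        -- in dimension two the point determines the hyperplane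
        have hperp : Par (Wi v w) (Wi (e i) (e (o i))) := by
          obtain ⟨X, hX⟩ := exists_rootOf (he i (o i) (ho i).symm)
          have hA' := (hroot _ _ X hX).1
          obtain ⟨c, hc, hcV⟩ := p1
          refine par_of_two (by omega) h1.1 ⟨h1.1.1, hA'.2.1, ?_⟩
          have := hA'.2.2
          change Wi (e i) (e (o i)) ⬝ᵥ P i = 0 at this
          rwa [hcV, dotProduct_smul, smul_eq_mul, mul_eq_zero, or_iff_right hc] at this
        obtain ⟨X, hX⟩ := exists_rootOf (he i (o i) (ho i).symm)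
        obtain ⟨Y, hY⟩ := exists_rootOf (he (o i) i (ho i))
        have hA' := (hroot _ _ X hX).1
        have hB' := (hroot _ _ Y hY).1
        -- then `P i` and `P (o i)` span the same point
        have hq : Par (Vi (e i) (e (o i))) (Vi (e (o i)) (e i)) := by
          refine par_of_two (by omega) ⟨hB'.2.1, hA'.1, ?_⟩ ⟨hB'.2.1, hB'.1, ?_⟩
          · rw [dotProduct_comm]; exact h0
          · rw [dotProduct_comm]; exact hB'.2.2
        obtain ⟨c, hc, hc'⟩ := hC _ _ _ _ (he i (o i) (ho i).symm) (he (o i) i (ho i)) hq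
        have := congrFun hc' i
        simp [e, (ho i).symm] at this
        exact hc this.symm
      · by_contra hne
        -- dual statement: hyperplanes are reflected
        obtain ⟨u, hu, hu1, hu2⟩ := exists_orth h3 w (e i)
        have hi1 : Inc u w := ⟨hu, hvw.1.2.1, by rw [dotProduct_comm]; exact hu1⟩
        have hi2 : Inc u (e i) := ⟨hu, by simp [e], by rw [dotProduct_comm]; exact hu2⟩
        have hW : Par (Wi u w) (Wi u (e i)) :=
          ((hB _ _ _ _ hi1 hvw.1 (Par.refl _)).trans p2).trans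
            (hB _ _ _ _ (he _ _ (ho i)) hi2 (Par.refl _))
        have hV : Par (Vi u w) (Vi u (e i)) := hA _ _ _ _ hi1 hi2 (Par.refl _)
        obtain ⟨X, hX⟩ := exists_rootOf hi1
        obtain ⟨Y, hY⟩ := exists_rootOf hi2
        have := map_aut_injective (γ * β) (((hroot _ _ X hX).eq_iff (hroot _ _ Y hY)).2 ⟨hV, hW⟩)
        exact hne ((hX.eq_iff hY).1 this).2
    obtain ⟨b, hb, hwb⟩ := hw
    have := congrFun hwb i
    simp [e, hwi] at this
  let A : M := Matrix.of fun a i => P i a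
  have hQA : Matrix.of (fun j a => Q j a) * A = Matrix.diagonal fun i => Q i ⬝ᵥ P i := by
    ext j i
    rw [Matrix.mul_apply, Matrix.diagonal_apply]
    split_ifs with h
    · subst h; rfl
    · exact hQP i j (Ne.symm h)
  have hdetA : A.det ≠ 0 := by
    intro h
    have h1 := congrArg Matrix.det hQA
    rw [Matrix.det_mul, h, mul_zero, Matrix.det_diagonal, eq_comm, Finset.prod_eq_zero_iff] at h1
    obtain ⟨i, -, hi⟩ := h1
    exact hdiag i hi
  set g₀ := Matrix.GeneralLinearGroup.mkOfDetNeZero A hdetA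
  refine ⟨g₀⁻¹, γ, hγ, fun i j hij c => ?_⟩
  obtain ⟨X, hX⟩ := exists_rootOf (he i j hij)
  obtain ⟨Y, rfl, hY, hPi, hQj⟩ := himg i j hij X hX
  have hY' := hY.map_gAut g₀⁻¹
  have hcol : (g₀ : M) *ᵥ e i = P i := by
    funext a
    change (A *ᵥ Pi.single i 1) a = _
    rw [Matrix.mulVec_single_one]
    rfl
  have hp1 : Par (e i) (((g₀⁻¹ : GL (Fin n) F) : M) *ᵥ Vi (e i) (e j)) := by
    obtain ⟨a, ha, hP⟩ := hPi
    refine ⟨a, ha, ?_⟩
    rw [hP, Matrix.mulVec_smul, ← hcol, Matrix.mulVec_mulVec, Units.inv_mul, Matrix.one_mulVec]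
  have hp2 : Par (e j) ((((g₀⁻¹)⁻¹ : GL (Fin n) F) : M)ᵀ *ᵥ Wi (e i) (e j)) := by
    obtain ⟨b, hb, hQ⟩ := hQj
    refine ⟨b * (Q j ⬝ᵥ P j), mul_ne_zero hb (hdiag j), ?_⟩
    rw [inv_inv, hQ, Matrix.mulVec_smul, ← smul_smul]
    congr 1
    funext a
    change ∑ k, A k a * Q j k = _
    by_cases haj : a = j
    · subst haj
      simp [e, dotProduct, A, mul_comm]
    · have := hQP a j haj
      rw [dotProduct] at this
      simp only [Pi.smul_apply, e, Pi.single_eq_of_ne haj, smul_zero]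
      rw [← this]
      exact Finset.sum_congr rfl fun k _ => by simp [A, mul_comm]
  have hXY := (hX.eq_iff hY').2 ⟨hp1, hp2⟩
  rw [← map_mul_eq, ← mul_assoc] at hXY
  have hmem : (QuotientGroup.mk (Matrix.SpecialLinearGroup.transvection hij c) : PSL) ∈ X :=
    (hX.2 _).2 ⟨_, ⟨c, by
      rw [Matrix.SpecialLinearGroup.transvection_coe]
      congr 1
      ext a b
      simp [e, vecMulVec_apply, Matrix.single_apply, Pi.single_apply]
      grind⟩, rfl⟩
  have himg' : (gAut g₀⁻¹ * γ * β) (QuotientGroup.mk (Matrix.SpecialLinearGroup.transvection hij c)) ∈ X := by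
    rw [hXY]
    exact Subgroup.mem_map_of_mem (gAut g₀⁻¹ * γ * β).toMonoidHom hmem
  obtain ⟨s, ⟨c', hs⟩, hs'⟩ := (hX.2 _).1 himg'
  refine ⟨c', hs'.trans (congrArg QuotientGroup.mk (Subtype.ext ?_))⟩
  rw [hs, Matrix.SpecialLinearGroup.transvection_coe]
  congr 1
  ext a b
  simp [e, vecMulVec_apply, Matrix.single_apply, Pi.single_apply]
  grind

end Cfsg.Agent.AutPSL.Frame
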