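import Cfsg.Agent.Lib.AutPSL.GraphFieldCent
import Cfsg.Agent.Lib.Forms.SimDet

/-!
# Centralisers of involutory graph automorphisms of `PSL_n(F)`
-/

set_option autoImplicit false

namespace Cfsg.Agent.AutPSL.GraphCent

open Matrix Cfsg.Agent.AutPSL.Basic Cfsg.Agent.AutPSL.Main Cfsg.Agent.AutPSL.Out Cfsg.Agent.AutPSL.Speiser
  Cfsg.Agent.AutPSL.Conj Cfsg.Agent.AutPSL.Diag Cfsg.Agent.AutPSL.SplitClass
  Cfsg.Agent.Forms.SimForms

universe u

variable {F : Type u} [Field F] [Fintype F] {n : ℕ}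

local notation "PSL" => Matrix.ProjectiveSpecialLinearGroup (Fin n) F
local notation "M" => Matrix (Fin n) (Fin n) F

theorem dual_inv (g : GL (Fin n) F) : (dual g)⁻¹ = dual g⁻¹ := Units.ext rfl

theorem sc_mul_coe (a : Fˣ) (g : GL (Fin n) F) : ((sc a * g : GL (Fin n) F) : M) = (a : F) • (g : M) := by
  rw [Units.val_mul, sc_coe, Matrix.scalar_apply, ← Matrix.smul_eq_diagonal_mul]

theorem gAut_eq_iff (hn : 2 ≤ n) (a b : GL (Fin n) F) :
    (gAut a : MulAut PSL) = gAut b ↔ ∃ k : Fˣ, a = sc k * b := by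
  constructor
  · intro h
    obtain ⟨k, hk⟩ := exists_sc (by omega) ((gAut_eq_one_iff hn (a * b⁻¹)).1 (by
      rw [map_mul, map_inv, h, mul_inv_cancel]))
    exact ⟨k, by rw [hk, inv_mul_cancel_right]⟩
  · rintro ⟨k, rfl⟩
    rw [map_mul, gAut_sc hn, one_mul]

theorem congr_coe (P P' E : GL (Fin n) F) (l : Fˣ) :
    dual E⁻¹ * P' * E = sc l * P ↔ (E : M)ᵀ * (P' : M) * (E : M) = (l : F) • (P : M) := by
  rw [Units.ext_iff, sc_mul_coe, Units.val_mul, Units.val_mul, dual_inv_coe]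

theorem exists_form (hn : 3 ≤ n) {γ : MulAut PSL} (hγ : IsGraphAutClassPSL γ) (h2 : orderOf γ = 2) :
    ∃ (P : GL (Fin n) F) (c : F), (c = 1 ∨ c = -1) ∧ (P : M)ᵀ = c • (P : M) ∧
      γ = gAut P⁻¹ * iota := by
  obtain ⟨-, δ, ι, hδ, hι, rfl⟩ := hγ
  obtain ⟨A, rfl⟩ := (isInnerDiagonalAutPSL_iff δ).1 hδ
  rw [(isInverseTransposeAutPSL_iff ι).1 hι] at h2 ⊢
  have h : (gAut A * fAut (1 : F ≃+* F) * iota : MulAut PSL) ^ 2 = 1 := by
    rw [map_one, mul_one, ← h2, pow_orderOf_eq_one]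
  rw [graph_pow_two] at h
  obtain ⟨-, hc⟩ := mul_field_eq_one (by omega) h
  obtain ⟨c, hc⟩ := exists_sc (by omega) hc
  rw [fieldGL_one] at hc
  refine ⟨A⁻¹, c, ?_, ?_, by rw [inv_inv]⟩
  rotate_left
  · have h1 : dual A = A⁻¹ * sc c := eq_inv_mul_of_mul_eq hc.symm
    rw [← sc_comm c A⁻¹] at h1
    exact (congrArg Units.val h1).trans (sc_mul_coe c A⁻¹)
  · have h1 : dual A = A⁻¹ * sc c := eq_inv_mul_of_mul_eq hc.symm
    rw [← sc_comm c A⁻¹] at h1
    have hP : ((A⁻¹ : GL (Fin n) F) : M)ᵀ = (c : F) • ((A⁻¹ : GL (Fin n) F) : M) :=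
      (congrArg Units.val h1).trans (sc_mul_coe c A⁻¹)
    have h3 := congrArg Matrix.transpose hP
    rw [transpose_transpose, transpose_smul, hP, smul_smul] at h3
    have h4 := congrArg (· * (A : M)) h3
    simp only [smul_mul, Units.inv_mul] at h4
    have h5 := congrFun (congrFun h4 ⟨0, by omega⟩) ⟨0, by omega⟩
    simp at h5
    exact mul_self_eq_one_iff.1 h5.symm

theorem mem_centralizer_iff (hn : 2 ≤ n) (P g : GL (Fin n) F) :
    (gAut g : MulAut PSL) ∈ Subgroup.centralizer {(gAut P⁻¹ * iota : MulAut PSL)} ↔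
      g ∈ Sim (P : M) := by
  rw [Subgroup.mem_centralizer_singleton_iff]
  have h : (gAut P⁻¹ * iota : MulAut PSL) * gAut g = gAut (P⁻¹ * dual g) * iota := by
    rw [mul_assoc, iota_mul_gAut, ← mul_assoc, ← map_mul]
  rw [h, ← mul_assoc, ← map_mul, mul_left_inj, mem_Sim]
  simp only [gAut_eq_iff hn, ← congr_coe]
  refine exists_congr fun k => ?_
  rw [← dual_inv]
  constructor
  · intro h
    calc (dual g)⁻¹ * P * g = (dual g)⁻¹ * P * (g * P⁻¹) * P := by group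
      _ = (dual g)⁻¹ * P * ((P⁻¹ * dual g) * sc k) * P := by rw [h, sc_comm]
      _ = sc k * P := by group
  · intro h
    calc g * P⁻¹ = P⁻¹ * dual g * ((dual g)⁻¹ * P * g) * P⁻¹ := by group
      _ = P⁻¹ * dual g * (sc k * P) * P⁻¹ := by rw [h]
      _ = (P⁻¹ * dual g) * sc k := by group
      _ = _ := (sc_comm k _).symm

theorem map_Sim (hn : 2 ≤ n) (P : GL (Fin n) F) :
    (Sim (P : M)).map (gAut (n := n) (F := F)) =
      (gAut (n := n) (F := F)).range ⊓ Subgroup.centralizer {(gAut P⁻¹ * iota : MulAut PSL)} := by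
  refine le_antisymm ?_ ?_
  · rintro _ ⟨g, hg, rfl⟩
    exact ⟨⟨g, rfl⟩, (mem_centralizer_iff hn P g).2 hg⟩
  · rintro _ ⟨⟨g, rfl⟩, hg⟩
    exact ⟨g, (mem_centralizer_iff hn P g).1 hg, rfl⟩

theorem exists_equiv (hn : 2 ≤ n) (P : GL (Fin n) F) :
    Nonempty (↥(inndiagPSL n F ⊓ Subgroup.centralizer {(gAut P⁻¹ * iota : MulAut PSL)})
      ≃* projQuot (Sim (P : M))) := by
  rw [inndiagPSL_eq]
  let g : Sim (P : M) →* MulAut PSL := (gAut (n := n) (F := F)).comp (Sim (P : M)).subtype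
  have hr : g.range = (Sim (P : M)).map (gAut (n := n) (F := F)) := by
    rw [MonoidHom.range_comp, Subgroup.range_subtype]
  have hk : g.ker = (Geo.scalars (Fin n) F).subgroupOf (Sim (P : M)) := by
    ext A
    rw [MonoidHom.mem_ker, Subgroup.mem_subgroupOf]
    change gAut (A : GL (Fin n) F) = 1 ↔ _
    rw [gAut_eq_one_iff hn]
    exact ⟨fun h => exists_sc (by omega) h |>.imp fun c hc => hc, by
      rintro ⟨c, hc⟩
      exact hc ▸ sc_mem_center c⟩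
  exact ⟨((MulEquiv.subgroupCongr ((map_Sim hn P).symm.trans hr.symm)).trans
    (QuotientGroup.quotientKerEquivRange g).symm).trans (QuotientGroup.quotientMulEquivOfEq hk)⟩

theorem isConjUnder_iff (hn : 2 ≤ n) (P P' : GL (Fin n) F) :
    IsConjUnder (inndiagPSL n F) (gAut P⁻¹ * iota : MulAut PSL) (gAut P'⁻¹ * iota) ↔
      ∃ (E : GL (Fin n) F) (l : F), l ≠ 0 ∧ (E : M)ᵀ * (P' : M) * (E : M) = l • (P : M) := by
  rw [inndiagPSL_eq]
  have key : ∀ E : GL (Fin n) F, (gAut E * (gAut P⁻¹ * iota) * (gAut E)⁻¹ : MulAut PSL) =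
      gAut (E * P⁻¹ * dual E⁻¹) * iota := fun E => by
    rw [mul_assoc, mul_assoc, ← map_inv, iota_mul_gAut, map_mul, map_mul]
    simp only [mul_assoc]
  constructor
  · rintro ⟨_, ⟨E, rfl⟩, h⟩
    rw [key, mul_left_inj, gAut_eq_iff hn] at h
    obtain ⟨k, hk⟩ := h
    refine ⟨E, ((k⁻¹ : Fˣ) : F), k⁻¹.ne_zero, (congr_coe P P' E k⁻¹).1 ?_⟩
    have hk' : P' = (dual E⁻¹)⁻¹ * P * E⁻¹ * sc k⁻¹ := by
      rw [← inv_inv P', hk, map_inv, _root_.mul_inv_rev]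
      group
    calc dual E⁻¹ * P' * E = P * E⁻¹ * (sc k⁻¹ * E) := by rw [hk']; group
      _ = P * sc k⁻¹ := by rw [sc_comm]; group
      _ = sc k⁻¹ * P := (sc_comm _ P).symm
  · rintro ⟨E, l, hl, h⟩
    refine ⟨_, ⟨E, rfl⟩, ?_⟩
    have h' := (congr_coe P P' E (Units.mk0 l hl)).2 h
    rw [key, mul_left_inj, gAut_eq_iff hn]
    refine ⟨(Units.mk0 l hl)⁻¹, ?_⟩
    have hd : dual E⁻¹ = sc (Units.mk0 l hl) * P * E⁻¹ * P'⁻¹ := by rw [← h']; group
    rw [hd, map_inv, eq_inv_mul_iff_mul_eq]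
    symm
    simp only [← mul_assoc]
    rw [← sc_comm]
    group

theorem isConjUnder_trans {X : Type*} [Group X] {H : Subgroup X} {x y z : X}
    (h1 : IsConjUnder H x y) (h2 : IsConjUnder H y z) : IsConjUnder H x z := by
  obtain ⟨a, ha, rfl⟩ := h1
  obtain ⟨b, hb, rfl⟩ := h2
  exact ⟨b * a, H.mul_mem hb ha, by group⟩

theorem graph_of_form (hn : 3 ≤ n) (P : GL (Fin n) F) {c : F} (hP : (P : M)ᵀ = c • (P : M)) (hc : c ≠ 0) :
    IsGraphAutClassPSL (gAut P⁻¹ * iota : MulAut PSL) ∧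
      orderOf (gAut P⁻¹ * iota : MulAut PSL) = 2 := by
  refine ⟨⟨hn, gAut P⁻¹, iota, (isInnerDiagonalAutPSL_iff _).2 ⟨_, rfl⟩,
    (isInverseTransposeAutPSL_iff _).2 rfl, rfl⟩, orderOf_eq_prime ?_ fun h => ?_⟩
  · have h := graph_pow_two (1 : F ≃+* F) P⁻¹
    rw [map_one, mul_one] at h
    rw [h, one_pow, map_one, mul_one, fieldGL_one]
    refine (gAut_eq_one_iff (by omega) _).2 ?_
    have hd : dual P⁻¹ = sc (Units.mk0 c hc) * P :=
      Units.ext (by rw [dual_inv_coe, hP, sc_mul_coe, Units.val_mk0])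
    rw [hd, sc_comm, inv_mul_cancel_left]
    exact sc_mem_center _
  · refine mul_field_ne_iota hn P⁻¹⁻¹ 1 ?_
    rw [map_one, mul_one, map_inv]
    exact (eq_inv_of_mul_eq_one_right h).symm

theorem splitClassCount_eq_index (hn : 2 ≤ n) (P : GL (Fin n) F) :
    splitClassCount (inndiagPSL n F) (Inn PSL) (gAut P⁻¹ * iota : MulAut PSL) =
      ((powMonoidHom n : Fˣ →* Fˣ).range ⊔ (Sim (P : M)).map Matrix.GeneralLinearGroup.det).index := by
  rw [inndiagPSL_eq]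
  exact GraphFieldCent.splitClassCount_of_det hn _ _ (map_Sim hn P)

end Cfsg.Agent.AutPSL.GraphCent
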