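import Cfsg.Agent.Lib.AutPSL.Frame

/-!
# The automorphism group of `PSL_n(F)` for a finite field `F` and `n ≥ 2`

Every automorphism is `gAut g * fAut σ * γ` with `γ ∈ {1, iota}`.
-/

set_option autoImplicit false

namespace Cfsg.Agent.AutPSL.Main

open Matrix Cfsg.Agent.AutPSL.Basic Cfsg.Agent.AutPSL.Roots Cfsg.Agent.AutPSL.Frame
open scoped commutatorElement

universe u

variable {F : Type u} [Field F] {n : ℕ}

local notation "SL" => Matrix.SpecialLinearGroup (Fin n) F
local notation "PSL" => Matrix.ProjectiveSpecialLinearGroup (Fin n) F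
local notation "M" => Matrix (Fin n) (Fin n) F

/-- The contragredient matrix. -/
def dual (g : GL (Fin n) F) : GL (Fin n) F :=
  ⟨((g⁻¹ : GL (Fin n) F) : M)ᵀ, (g : M)ᵀ,
    by rw [← transpose_mul, Units.mul_inv, transpose_one],
    by rw [← transpose_mul, Units.inv_mul, transpose_one]⟩

/-- A matrix with a field automorphism applied entrywise. -/
def fieldGL (σ : F ≃+* F) : GL (Fin n) F →* GL (Fin n) F :=
  Units.map (RingHom.mapMatrix (m := Fin n) σ.toRingHom).toMonoidHom

theorem fieldGL_coe (σ : F ≃+* F) (g : GL (Fin n) F) :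
    ((fieldGL σ g : GL (Fin n) F) : M) = (g : M).map σ := rfl

theorem iota_mul_gAut (g : GL (Fin n) F) :
    (iota : MulAut PSL) * gAut g = gAut (dual g) * iota := by
  rw [iota, gAut, MonoidHom.comp_apply, MonoidHom.comp_apply, ← map_mul, ← map_mul]
  congr 1
  refine MulEquiv.ext fun s => Subtype.ext ?_
  change (((conjSL g s)⁻¹ : SL) : M)ᵀ = ((g⁻¹ : GL (Fin n) F) : M)ᵀ * ((s⁻¹ : SL) : M)ᵀ * (g : M)ᵀ
  rw [← map_inv, conjSL_coe, transpose_mul, transpose_mul, mul_assoc]

theorem iota_mul_fAut (σ : F ≃+* F) :
    (iota : MulAut PSL) * fAut σ = fAut σ * iota := by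
  rw [iota, fAut, MonoidHom.comp_apply, ← map_mul, ← map_mul]
  congr 1
  refine MulEquiv.ext fun s => Subtype.ext ?_
  change (((fieldSL σ s)⁻¹ : SL) : M)ᵀ = (((s⁻¹ : SL) : M)ᵀ).map σ
  rw [← map_inv, fieldSL_coe, transpose_map]

theorem fAut_mul_gAut (σ : F ≃+* F) (g : GL (Fin n) F) :
    (fAut σ : MulAut PSL) * gAut g = gAut (fieldGL σ g) * fAut σ := by
  rw [fAut, gAut, MonoidHom.comp_apply, MonoidHom.comp_apply, MonoidHom.comp_apply, ← map_mul,
    ← map_mul]
  congr 1
  refine MulEquiv.ext fun s => Subtype.ext ?_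
  change ((g : M) * (s : M) * ((g⁻¹ : GL (Fin n) F) : M)).map σ =
    ((fieldGL σ g : GL (Fin n) F) : M) * (s : M).map σ * (((fieldGL σ g)⁻¹ : GL (Fin n) F) : M)
  rw [← map_inv, fieldGL_coe, fieldGL_coe, Matrix.map_mul, Matrix.map_mul]

theorem iota_mul_self : (iota : MulAut PSL) * iota = 1 := by
  rw [iota, ← map_mul, ← map_one (descend (n := n) (F := F))]
  congr 1
  refine MulEquiv.ext fun s => ?_
  change ((s⁻¹.transpose)⁻¹).transpose = s
  rw [← transpose_inv_SL, transpose_transpose_SL, inv_inv]

theorem iota_inv : (iota : MulAut PSL)⁻¹ = iota := inv_eq_of_mul_eq_one_right iota_mul_self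

theorem transvection_mk_inj {i j : Fin n} (h : i ≠ j) {c d : F}
    (e : (QuotientGroup.mk (Matrix.SpecialLinearGroup.transvection h c) : PSL) =
      QuotientGroup.mk (Matrix.SpecialLinearGroup.transvection h d)) : c = d := by
  obtain ⟨x, hx⟩ := (mk_eq_mk_iff _ _).1 e
  rw [Matrix.SpecialLinearGroup.transvection_coe, Matrix.SpecialLinearGroup.transvection_coe] at hx
  have h1 := congrFun (congrFun hx i) i
  have h2 := congrFun (congrFun hx i) j
  simp [h, h.symm] at h1 h2
  rw [← h1, one_mul] at h2
  exact h2.symm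

variable [Fintype F]

/-- An automorphism fixing the elementary root subgroups is diagonal times field. -/
theorem exists_diag_field (hn : 2 ≤ n) (β : MulAut PSL)
    (hβ : ∀ (i j : Fin n) (hij : i ≠ j) (c : F), ∃ c' : F,
        β (QuotientGroup.mk (Matrix.SpecialLinearGroup.transvection hij c)) =
          QuotientGroup.mk (Matrix.SpecialLinearGroup.transvection hij c')) :
    ∃ (g : GL (Fin n) F) (σ : F ≃+* F), β = gAut g * fAut σ := by
  classical
  choose a ha using hβ
  have hadd : ∀ i j h x y, a i j h (x + y) = a i j h x + a i j h y := fun i j h x y => by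
    apply transvection_mk_inj h
    rw [← ha, Matrix.SpecialLinearGroup.transvection_add, Matrix.SpecialLinearGroup.transvection_add,
      QuotientGroup.mk_mul, QuotientGroup.mk_mul, map_mul, ha, ha]
  have hinj : ∀ i j h, Function.Injective (a i j h) := fun i j h x y e => by
    apply transvection_mk_inj h
    apply β.injective
    rw [ha, ha, e]
  have ha0 : ∀ i j h, a i j h 0 = 0 := fun i j h => by
    simpa using hadd i j h 0 0
  have hc0 : ∀ i j h, a i j h 1 ≠ 0 := fun i j h e =>
    one_ne_zero (hinj i j h (e.trans (ha0 i j h).symm))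
  suffices hsuff : ∃ (σ : F → F) (d : Fin n → F), (∀ i, d i ≠ 0) ∧
      (∀ x y, σ (x * y) = σ x * σ y) ∧ ∀ i j h x, a i j h x = d i / d j * σ x by
    obtain ⟨σ, d, hd, hmul, hσ⟩ := hsuff
    obtain ⟨i, j, hij⟩ : ∃ i j : Fin n, i ≠ j :=
      ⟨⟨0, by omega⟩, ⟨1, by omega⟩, by simp⟩
    have hs : ∀ x, σ x = d j / d i * a i j hij x := fun x => by
      rw [hσ]; field_simp [hd i, hd j]
    have hbij : Function.Bijective σ := Finite.injective_iff_bijective.1 fun x y e =>
      hinj i j hij (by rw [hσ, hσ, e])
    let σh : F →+* F :=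
      { toFun := σ
        map_one' := by
          have h1 := hmul 1 1
          rw [one_mul] at h1
          refine (mul_eq_left₀ fun h0 => ?_).1 h1.symm
          exact hc0 i j hij (by rw [hσ, h0, mul_zero])
        map_mul' := hmul
        map_zero' := by rw [hs, ha0, mul_zero]
        map_add' := fun x y => by rw [hs, hs x, hs y, hadd, mul_add] }
    let σ' : F ≃+* F := RingEquiv.ofBijective σh hbij
    refine ⟨Matrix.GeneralLinearGroup.mkOfDetNeZero (Matrix.diagonal d) (by
      rw [Matrix.det_diagonal]; exact Finset.prod_ne_zero_iff.2 fun k _ => hd k), σ', ?_⟩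
    refine ext_transvection fun k l hkl c => ?_
    rw [ha]
    refine congrArg QuotientGroup.mk (Subtype.ext ?_)
    set g := Matrix.GeneralLinearGroup.mkOfDetNeZero (Matrix.diagonal d) _
    change ((Matrix.SpecialLinearGroup.transvection hkl _ : SL) : M) =
      (g : M) * ((Matrix.SpecialLinearGroup.transvection hkl c : SL) : M).map σ' *
        ((g⁻¹ : GL (Fin n) F) : M)
    rw [Units.eq_mul_inv_iff_mul_eq, Matrix.SpecialLinearGroup.transvection_coe,
      Matrix.SpecialLinearGroup.transvection_coe, Matrix.map_add _ (map_add σ'),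
      Matrix.map_one _ (map_zero σ') (map_one σ'),
      show (Matrix.single k l c).map σ' = Matrix.single k l (σ c) by
        ext r s
        rw [Matrix.map_apply, Matrix.single_apply, Matrix.single_apply]
        split_ifs
        · rfl
        · exact map_zero σ']
    change (1 + Matrix.single k l _) * Matrix.diagonal d = Matrix.diagonal d * (1 + Matrix.single k l (σ c))
    rw [add_mul, mul_add, one_mul, mul_one]
    congr 1
    ext r s
    rw [Matrix.mul_diagonal, Matrix.diagonal_mul, Matrix.single_apply, Matrix.single_apply]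
    split_ifs with h
    · obtain ⟨rfl, rfl⟩ := h
      rw [hσ]
      field_simp [hd l]
    · simp
  rcases Nat.lt_or_ge n 3 with h2 | h3
  · -- dimension two
    obtain rfl : n = 2 := by omega
    have h01 : (0 : Fin 2) ≠ 1 := by simp
    have h10 : (1 : Fin 2) ≠ 0 := by simp
    let T01 := fun x : F => (Matrix.SpecialLinearGroup.transvection h01 x : Matrix.SpecialLinearGroup (Fin 2) F)
    let T10 := fun x : F => (Matrix.SpecialLinearGroup.transvection h10 x : Matrix.SpecialLinearGroup (Fin 2) F)
    set A := a 0 1 h01 with hA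
    set B := a 1 0 h10 with hB
    have hT01 : ∀ x : F, (Matrix.SpecialLinearGroup.transvection h01 x).1 = !![1, x; 0, (1 : F)] :=
      fun x => by ext i j; fin_cases i <;> fin_cases j <;> simp [Matrix.SpecialLinearGroup.transvection_coe]
    have hT10 : ∀ x : F, (Matrix.SpecialLinearGroup.transvection h10 x).1 = !![1, 0; x, (1 : F)] :=
      fun x => by ext i j; fin_cases i <;> fin_cases j <;> simp [Matrix.SpecialLinearGroup.transvection_coe]
    have hkey : ∀ t u : F, t ≠ 0 → u ≠ 0 → A (-(t ^ 2) * u) = -(A t) ^ 2 * B u := by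
      intro t u ht hu
      have hrel : T01 (-(t ^ 2) * u) * (T01 t * T10 (-t⁻¹) * T01 t) =
          T01 t * T10 (-t⁻¹) * T01 t * T10 u := by
        apply Subtype.ext
        change (T01 (-(t ^ 2) * u)).1 * ((T01 t).1 * (T10 (-t⁻¹)).1 * (T01 t).1) =
          (T01 t).1 * (T10 (-t⁻¹)).1 * (T01 t).1 * (T10 u).1
        simp only [T01, T10, hT01, hT10]
        ext i j
        fin_cases i <;> fin_cases j <;> simp [Matrix.mul_apply, Fin.sum_univ_two, Matrix.of_apply] <;> field_simp <;> ring_nf <;> simp
      have h1 := congrArg (fun s => β (QuotientGroup.mk s)) hrel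
      simp only [QuotientGroup.mk_mul, map_mul, T01, T10, ha, ← hA, ← hB] at h1
      simp only [← QuotientGroup.mk_mul] at h1
      obtain ⟨e, he⟩ := (mk_eq_mk_iff _ _).1 h1
      simp only [Matrix.SpecialLinearGroup.coe_mul] at he
      simp only [hT01, hT10] at he
      have e00 := congrFun (congrFun he 0) 0
      have e01 := congrFun (congrFun he 1) 1
      have e10 := congrFun (congrFun he 1) 0
      simp [Matrix.mul_apply, Fin.sum_univ_two] at e00 e01 e10
      have hb : B u ≠ 0 := fun h0 => hu (hinj 1 0 h10 (h0.trans (ha0 1 0 h10).symm))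
      set P := A t
      set Q := B (-t⁻¹)
      set R := A (-(t ^ 2 * u))
      have hz : Q * P + 1 = 0 := by
        by_contra hne
        have he1 : e = 1 := mul_right_cancel₀ hne (by linear_combination -e01)
        rw [he1, one_mul] at e10
        exact hne ((mul_eq_zero.1 (show B u * (Q * P + 1) = 0 by linear_combination e10)).resolve_left hb)
      have hQ : Q ≠ 0 := fun h0 => by simp [h0] at hz
      have he1 : e = 1 := mul_right_cancel₀ hQ (by linear_combination -e10 + B u * hz)
      rw [he1, one_mul] at e00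
      rw [neg_mul]
      refine mul_right_cancel₀ hQ ?_
      linear_combination -e00 + (2 * (P * B u)) * hz
    set c := A 1 with hc
    have hc1 : c ≠ 0 := hc0 0 1 h01
    have hBA : ∀ u, B u = A u / c ^ 2 := fun u => by
      rcases eq_or_ne u 0 with rfl | hu
      · rw [hA, hB, ha0, ha0, zero_div]
      · have h1 := hkey 1 u one_ne_zero hu
        rw [one_pow, neg_one_mul, ← hc] at h1
        have h2 := hadd 0 1 h01 u (-u)
        rw [add_neg_cancel, ha0, ← hA, h1] at h2
        field_simp
        linear_combination h2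
    have hsq : ∀ t u : F, A (t ^ 2 * u) / c = (A t / c) ^ 2 * (A u / c) := fun t u => by
      rcases eq_or_ne t 0 with rfl | ht
      · simp [hA, ha0]
      rcases eq_or_ne u 0 with rfl | hu
      · simp [hA, ha0]
      have h1 := hkey t u ht hu
      rw [hBA] at h1
      have h2 := hadd 0 1 h01 (t ^ 2 * u) (-(t ^ 2) * u)
      rw [show t ^ 2 * u + -(t ^ 2) * u = 0 by ring, ha0, ← hA, h1] at h2
      field_simp at h2 ⊢
      linear_combination -h2
    refine ⟨fun x => A x / c, fun i => if i = 1 then 1 else c, ?_, ?_, ?_⟩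
    · intro i; dsimp only; split_ifs
      · exact one_ne_zero
      · exact hc1
    · intro x y
      change A (x * y) / c = A x / c * (A y / c)
      by_cases h20 : (2 : F) = 0
      · have : CharP F 2 := CharTwo.of_one_ne_zero_of_two_eq_zero one_ne_zero h20
        obtain ⟨t, rfl⟩ := FiniteField.isSquare_of_char_two (F := F) (ringChar.eq F 2) x
        have h1 := hsq t 1
        rw [mul_one, ← hc, div_self hc1, mul_one] at h1
        rw [← sq, hsq t y, h1]
      · have h1 := hsq (x + 1) y
        have h2 := hsq x y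
        rw [show (x + 1) ^ 2 * y = x ^ 2 * y + (x * y + x * y) + y by ring, hA, hadd, hadd, hadd, hadd,
          ← hA, ← hc] at h1
        refine mul_left_cancel₀ h20 ?_
        field_simp at h1 h2 ⊢
        apply mul_left_cancel₀ (mul_ne_zero h20 hc1)
        linear_combination h1 - h2
    · intro i j h x
      fin_cases i <;> fin_cases j <;> simp at h ⊢
      · field_simp; rfl
      · rw [show a 1 0 _ x = B x from rfl, hBA]
        field_simp
  · -- dimension at least three
    have hcard : 3 ≤ Fintype.card (Fin n) := by rwa [Fintype.card_fin]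
    have hcomm : ∀ i j k (hij : i ≠ j) (hik : i ≠ k) (hkj : k ≠ j) x y,
        a i j hij (x * y) = a i k hik x * a k j hkj y := by
      intro i j k hij hik hkj x y
      apply transvection_mk_inj hij
      rw [← ha, ← Classical.Linear.commutator_transvection hij hik hkj,
        ← Classical.Linear.commutator_transvection hij hik hkj]
      simp only [commutatorElement_def, QuotientGroup.mk_mul, QuotientGroup.mk_inv, map_mul,
        map_inv, ha]
    let b : ∀ i j : Fin n, i ≠ j → F → F := fun i j h x => a i j h x / a i j h 1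
    have hrow : ∀ i j k (hij : i ≠ j) (hik : i ≠ k), k ≠ j → b i j hij = b i k hik := by
      intro i j k hij hik hkj
      funext x
      have h1 := hcomm i j k hij hik hkj x 1
      have h2 := hcomm i j k hij hik hkj 1 1
      rw [mul_one] at h1 h2
      simp only [b, h1, h2]
      rw [mul_div_mul_right _ _ (hc0 k j hkj)]
    have hcol : ∀ i j k (hij : i ≠ j) (hkj : k ≠ j), i ≠ k → b i j hij = b k j hkj := by
      intro i j k hij hkj hik
      funext x
      have h1 := hcomm i j k hij hik hkj 1 x
      have h2 := hcomm i j k hij hik hkj 1 1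
      rw [one_mul] at h1 h2
      simp only [b, h1, h2]
      rw [mul_div_mul_left _ _ (hc0 i k hik)]
    have hall : ∀ i j k l (hij : i ≠ j) (hkl : k ≠ l), b i j hij = b k l hkl := by
      intro i j k l hij hkl
      rcases eq_or_ne i k with rfl | hik
      · rcases eq_or_ne j l with rfl | hjl
        · rfl
        · exact hrow i j l hij hkl (Ne.symm hjl)
      have hrow' : ∀ m (hkm : k ≠ m), b k m hkm = b k l hkl := fun m hkm => by
        rcases eq_or_ne m l with rfl | hml
        · rfl
        · exact hrow k m l hkm hkl (Ne.symm hml)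
      rcases eq_or_ne k j with rfl | hkj
      · obtain ⟨m, hmi, hmk⟩ := Classical.Linear.exists_third hcard i k
        rw [hrow i k m hij hmi.symm hmk, hcol i m k hmi.symm hmk.symm hik]
        exact hrow' m hmk.symm
      · rw [hcol i j k hij hkj hik]
        exact hrow' j hkj
    let i₀ : Fin n := ⟨0, by omega⟩
    let j₀ : Fin n := ⟨1, by omega⟩
    have h₀ : i₀ ≠ j₀ := by simp [i₀, j₀]
    have hc : ∀ i j k (hij : i ≠ j) (hik : i ≠ k) (hkj : k ≠ j),
        a i j hij 1 = a i k hik 1 * a k j hkj 1 := fun i j k hij hik hkj => by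
      simpa using hcomm i j k hij hik hkj 1 1
    have hinv : ∀ i j (hij : i ≠ j), a i j hij 1 * a j i hij.symm 1 = 1 := fun i j hij => by
      obtain ⟨k, hki, hkj⟩ := Classical.Linear.exists_third hcard i j
      have h1 := hc i k j hki.symm hij hkj.symm
      have h2 := hc j k i hkj.symm hij.symm hki.symm
      rw [h2, ← mul_assoc] at h1
      exact (mul_eq_right₀ (hc0 i k hki.symm)).1 h1.symm
    let d : Fin n → F := fun i => if h : i = j₀ then 1 else a i j₀ h 1
    have hd : ∀ i, d i ≠ 0 := fun i => by
      simp only [d]; split_ifs with h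
      · exact one_ne_zero
      · exact hc0 _ _ h
    refine ⟨b i₀ j₀ h₀, d, hd, fun x y => ?_, fun i j h x => ?_⟩
    · obtain ⟨k, hki, hkj⟩ := Classical.Linear.exists_third hcard i₀ j₀
      calc b i₀ j₀ h₀ (x * y) = b i₀ k hki.symm x * b k j₀ hkj y := by
            simp only [b, hcomm i₀ j₀ k h₀ hki.symm hkj x y, hc i₀ j₀ k h₀ hki.symm hkj]
            rw [div_mul_div_comm]
        _ = _ := by rw [hall i₀ k i₀ j₀ hki.symm h₀, hall k j₀ i₀ j₀ hkj h₀]
    · rw [← hall i j i₀ j₀ h h₀]
      have hdij : a i j h 1 = d i / d j := by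
        by_cases hi : i = j₀
        · subst hi
          have hj : j ≠ j₀ := h.symm
          simp only [d, dif_pos, dif_neg hj]
          rw [eq_div_iff (hc0 _ _ hj)]
          exact hinv _ _ h
        · by_cases hj : j = j₀
          · subst hj
            simp [d, hi]
          · simp only [d, dif_neg hi, dif_neg hj]
            rw [eq_div_iff (hc0 _ _ hj)]
            exact (hc i j₀ j hi h hj).symm
      rw [← hdij]
      simp only [b]
      field_simp [hc0 i j h]

/-- Every automorphism of `PSL_n(F)` is inner-diagonal times field times a power of inverse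
transpose. -/
theorem exists_decomp (hn : 2 ≤ n) (β : MulAut PSL) :
    ∃ (g : GL (Fin n) F) (σ : F ≃+* F) (γ : MulAut PSL),
      (γ = 1 ∨ γ = iota) ∧ β = gAut g * fAut σ * γ := by
  obtain ⟨g, γ, hγ, h⟩ := exists_frame hn β
  obtain ⟨h', σ, he⟩ := exists_diag_field hn _ h
  have hβ : β = γ⁻¹ * (gAut (g⁻¹ * h') * fAut σ) := by
    rw [map_mul, map_inv, mul_assoc (gAut g)⁻¹, ← he]
    group
  rcases hγ with rfl | rfl
  · exact ⟨g⁻¹ * h', σ, 1, Or.inl rfl, by simpa using hβ⟩
  · refine ⟨dual (g⁻¹ * h'), σ, iota, Or.inr rfl, ?_⟩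
    rw [hβ, iota_inv, ← mul_assoc, iota_mul_gAut, mul_assoc, iota_mul_fAut, ← mul_assoc]

end Cfsg.Agent.AutPSL.Main
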