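import Cfsg.Agent.Lib.AutPSL.ReflForm

/-!
# Odd blocks of isotropic points

An equivalence relation on the isotropic points that is invariant under the special isometries and
has classes of odd size is trivial.
-/

set_option autoImplicit false

namespace Cfsg.Agent.AutPSL.ReflForm

open Matrix Cfsg.Agent.AutPSL.Roots
open scoped LinearAlgebra.Projectivization

universe u

variable {F : Type u} [Field F] {n : ℕ}

local notation "V" => (Fin n → F)
local notation "M" => Matrix (Fin n) (Fin n) F
local notation "SL" => Matrix.SpecialLinearGroup (Fin n) F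

/-- Commuting involutions on a set of odd size have a common fixed point. -/
theorem exists_common_fixed {α : Type*} [DecidableEq α] (fs : List (α → α))
    (hinv : ∀ f ∈ fs, ∀ x, f (f x) = x) (hcomm : ∀ f ∈ fs, ∀ g ∈ fs, ∀ x, f (g x) = g (f x))
    (s : Finset α) (hs : Odd s.card) (hmem : ∀ f ∈ fs, ∀ x ∈ s, f x ∈ s) :
    ∃ x ∈ s, ∀ f ∈ fs, f x = x := by
  induction fs generalizing s with
  | nil =>
    obtain ⟨x, hx⟩ := Finset.card_pos.1 hs.pos
    exact ⟨x, hx, by simp⟩
  | cons f fs ih =>
    have hodd : Odd (s.filter fun x => f x = x).card := by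
      have h0 : ∑ x ∈ s.filter (fun x => ¬ f x = x), (1 : ZMod 2) = 0 := by
        refine Finset.sum_involution (fun x _ => f x) (fun _ _ => by decide)
          (fun x hx _ => (Finset.mem_filter.1 hx).2) (fun x hx => ?_)
          (fun x _ => hinv f (by simp) x)
        obtain ⟨hxs, hx⟩ := Finset.mem_filter.1 hx
        refine Finset.mem_filter.2 ⟨hmem f (by simp) x hxs, fun h => hx ?_⟩
        rw [hinv f (by simp) x] at h
        exact h.symm
      rw [Finset.sum_const, nsmul_one, ZMod.natCast_eq_zero_iff_even] at h0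
      have h1 := Finset.card_filter_add_card_filter_not (s := s) (fun x => f x = x)
      rw [← h1] at hs
      exact (Nat.odd_add.1 hs).2 h0
    obtain ⟨x, hx, hfix⟩ := ih (fun g hg => hinv g (List.mem_cons_of_mem _ hg))
      (fun g hg h hh => hcomm g (List.mem_cons_of_mem _ hg) h (List.mem_cons_of_mem _ hh))
      _ hodd (fun g hg x hx => by
        obtain ⟨hxs, hfx⟩ := Finset.mem_filter.1 hx
        refine Finset.mem_filter.2 ⟨hmem g (List.mem_cons_of_mem _ hg) x hxs, ?_⟩
        rw [hcomm f (by simp) g (List.mem_cons_of_mem _ hg), hfx])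
    obtain ⟨hxs, hfx⟩ := Finset.mem_filter.1 hx
    exact ⟨x, hxs, List.forall_mem_cons.2 ⟨hfx, hfix⟩⟩

variable (D : Data F n)

/-- An invariant relation with odd classes on the points. -/
structure Block where
  rel : ℙ F V → ℙ F V → Prop
  refl : ∀ p, rel p p
  symm : ∀ {p q}, rel p q → rel q p
  trans : ∀ {p q r}, rel p q → rel q r → rel p r
  odd : ∀ p, Odd (Nat.card {q // rel p q})
  inv : ∀ (X : SL), IsIso D (X : M) → ∀ (v w : V) (hv : v ≠ 0) (hw : w ≠ 0)
    (hv' : (X : M) *ᵥ v ≠ 0) (hw' : (X : M) *ᵥ w ≠ 0),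
    rel (Projectivization.mk F v hv) (Projectivization.mk F w hw) →
      rel (Projectivization.mk F _ hv') (Projectivization.mk F _ hw')
  iso : ∀ (v : V) (hv : v ≠ 0) (w : V) (hw : w ≠ 0),
    rel (Projectivization.mk F v hv) (Projectivization.mk F w hw) → Φ D v v = 0 → Φ D w w = 0

variable {D} (B : Block D)

/-- Vector version of the relation. -/
def Rel (v w : V) : Prop :=
  ∃ (hv : v ≠ 0) (hw : w ≠ 0), B.rel (Projectivization.mk F v hv) (Projectivization.mk F w hw)

theorem Rel.symm {v w : V} (h : Rel B v w) : Rel B w v := ⟨h.2.1, h.1, B.symm h.2.2⟩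

theorem Rel.trans {u v w : V} (h : Rel B u v) (h' : Rel B v w) : Rel B u w :=
  ⟨h.1, h'.2.1, B.trans h.2.2 h'.2.2⟩

theorem Rel.of_smul {v : V} (hv : v ≠ 0) {a : F} (ha : a ≠ 0) : Rel B v (a • v) :=
  ⟨hv, smul_ne_zero ha hv, by
    rw [(Projectivization.mk_eq_mk_iff' F _ _ (smul_ne_zero ha hv) hv).2 ⟨a, rfl⟩]
    exact B.refl _⟩

theorem sl_mulVec_ne_zero (X : SL) {v : V} (hv : v ≠ 0) : (X : M) *ᵥ v ≠ 0 := fun h => hv (by
  have := congrArg (((X⁻¹ : SL) : M) *ᵥ ·) h
  simp only [mulVec_mulVec, ← Matrix.SpecialLinearGroup.coe_mul, inv_mul_cancel, mulVec_zero,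
    Matrix.SpecialLinearGroup.coe_one, one_mulVec] at this
  exact this)

theorem Rel.map {v w : V} (h : Rel B v w) (X : SL) (hX : IsIso D (X : M)) :
    Rel B ((X : M) *ᵥ v) ((X : M) *ᵥ w) :=
  ⟨sl_mulVec_ne_zero X h.1, sl_mulVec_ne_zero X h.2.1, B.inv X hX v w h.1 h.2.1 _ _ h.2.2⟩

theorem Rel.iso {v w : V} (h : Rel B v w) (hv : Φ D v v = 0) : Φ D w w = 0 :=
  B.iso v h.1 w h.2.1 h.2.2 hv

/-- A special isometry as a map of points. -/
noncomputable def mv (X : SL) (p : ℙ F V) : ℙ F V :=
  Projectivization.mk F ((X : M) *ᵥ p.rep) (sl_mulVec_ne_zero X p.rep_nonzero)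

theorem mv_mk (X : SL) {v : V} (hv : v ≠ 0) :
    mv X (Projectivization.mk F v hv) = Projectivization.mk F _ (sl_mulVec_ne_zero X hv) := by
  obtain ⟨a, ha⟩ := Projectivization.exists_smul_eq_mk_rep F v hv
  refine (Projectivization.mk_eq_mk_iff' F _ _ _ _).2 ⟨(a : F), ?_⟩
  rw [← ha, Units.smul_def, mulVec_smul]

theorem mv_mul (X Y : SL) (p : ℙ F V) : mv (X * Y) p = mv X (mv Y p) := by
  induction p with
  | h v hv =>
    rw [mv_mk, mv_mk, mv_mk]
    simp only [Matrix.SpecialLinearGroup.coe_mul, mulVec_mulVec]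

theorem mv_one (p : ℙ F V) : mv (1 : SL) p = p := by
  induction p with
  | h v hv => rw [mv_mk]; simp

variable [Fintype F]

/-- Non-orthogonal isotropic points are never related (non-alternating forms). -/
theorem not_rel_nonperp (hn : 3 ≤ n) (hD : ¬ IsAlt D) {u v : V} (hu : Φ D u u = 0)
    (hv : Φ D v v = 0) (huv : Φ D u v ≠ 0) : ¬ Rel B u v := by
  classical
  intro hrel
  obtain ⟨a, ha, he⟩ := exists_scale D hD hu hv huv
  obtain ⟨b, hb, hbe⟩ := exists_ortho_basis D hD _ he (show 2 ≤ n by omega)
  have hrel' : Rel B u (a • v) := hrel.trans B (Rel.of_smul B hrel.2.1 ha)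
  set v' := a • v
  have hb0 : b ⟨0, by omega⟩ = u + v' := hbe 0
  have hb1 : b ⟨1, by omega⟩ = u - v' := hbe 1
  set i0 : Fin n := ⟨0, by omega⟩
  set i1 : Fin n := ⟨1, by omega⟩
  -- the action of one reflection on `u` and `v'`
  have href : ∀ i, (tr D (b i) (refK D (b i)) *ᵥ u = u ∧ tr D (b i) (refK D (b i)) *ᵥ v' = v') ∨
      (tr D (b i) (refK D (b i)) *ᵥ u = v' ∧ tr D (b i) (refK D (b i)) *ᵥ v' = u) ∨
      (tr D (b i) (refK D (b i)) *ᵥ u = -v' ∧ tr D (b i) (refK D (b i)) *ᵥ v' = -u) := by
    intro i
    set R := tr D (b i) (refK D (b i))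
    have h2u : (2 : F) • u = b i0 + b i1 := by rw [hb0, hb1]; module
    have h2v : (2 : F) • v' = b i0 - b i1 := by rw [hb0, hb1]; module
    have hfix : ∀ j, i ≠ j → R *ᵥ b j = b j := fun j h => ref_perp D (hb.2 i j h) _
    have hinj : ∀ x y : V, (2 : F) • x = (2 : F) • y → x = y := fun x y h => smul_right_injective V D.two h
    by_cases h0 : i = i0
    · subst h0
      have hR0 : R *ᵥ b i0 = -b i0 := ref_self D (hb.1 _)
      have hR1 : R *ᵥ b i1 = b i1 := hfix _ (by simp [i0, i1, Fin.ext_iff])
      refine Or.inr (Or.inr ⟨hinj _ _ ?_, hinj _ _ ?_⟩)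
      · rw [← mulVec_smul, h2u, mulVec_add, hR0, hR1, smul_neg, h2v]; module
      · rw [← mulVec_smul, h2v, mulVec_sub, hR0, hR1, smul_neg, h2u]; module
    by_cases h1 : i = i1
    · subst h1
      have hR0 : R *ᵥ b i0 = b i0 := hfix _ h0
      have hR1 : R *ᵥ b i1 = -b i1 := ref_self D (hb.1 _)
      refine Or.inr (Or.inl ⟨hinj _ _ ?_, hinj _ _ ?_⟩)
      · rw [← mulVec_smul, h2u, mulVec_add, hR0, hR1, h2v]; module
      · rw [← mulVec_smul, h2v, mulVec_sub, hR0, hR1, h2u]; module
    refine Or.inl ⟨hinj _ _ ?_, hinj _ _ ?_⟩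
    · rw [← mulVec_smul, h2u, mulVec_add, hfix _ h0, hfix _ h1]
    · rw [← mulVec_smul, h2v, mulVec_sub, hfix _ h0, hfix _ h1]
  let X : Fin n → Fin n → SL := fun i j => refPair D (b i) (b j) (hb.1 i) (hb.1 j)
  have hX : ∀ i j, IsIso D ((X i j : SL) : M) := fun i j =>
    iso_mul D (iso_ref D (hb.1 i)) (iso_ref D (hb.1 j))
  have hstep : ∀ i (x : V), Rel B u x → (x = u ∨ x = -u ∨ x = v' ∨ x = -v') →
      Rel B u (tr D (b i) (refK D (b i)) *ᵥ x) ∧ (tr D (b i) (refK D (b i)) *ᵥ x = u ∨
        tr D (b i) (refK D (b i)) *ᵥ x = -u ∨ tr D (b i) (refK D (b i)) *ᵥ x = v' ∨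
        tr D (b i) (refK D (b i)) *ᵥ x = -v') := by
    have hneg : ∀ w : V, Rel B u w → Rel B u (-w) := fun w hw => hw.trans B (by
      simpa using Rel.of_smul B hw.2.1 (neg_ne_zero.2 (one_ne_zero : (1 : F) ≠ 0)))
    have huu : Rel B u u := hrel'.trans B (hrel'.symm B)
    intro i x _ hx
    rcases href i with ⟨e1, e2⟩ | ⟨e1, e2⟩ | ⟨e1, e2⟩ <;> rcases hx with rfl | rfl | rfl | rfl <;>
      simp only [mulVec_neg, e1, e2, neg_neg] <;>
      refine ⟨?_, by simp⟩ <;>
      first
      | exact huu
      | exact hrel'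
      | exact hneg _ huu
      | exact hneg _ hrel'
  let p := Projectivization.mk F u hrel.1
  have : Fintype (ℙ F V) := Fintype.ofFinite _
  let s : Finset (ℙ F V) := Finset.univ.filter fun q => B.rel p q
  have hsmem : ∀ q, q ∈ s ↔ B.rel p q := fun q => by simp [s]
  have hs : Odd s.card := by
    have e : Nat.card {q // B.rel p q} = s.card := by
      rw [← Nat.card_eq_finsetCard]
      exact Nat.card_congr (Equiv.subtypeEquivRight fun q => (hsmem q).symm)
    exact e ▸ B.odd p
  have hinvol : ∀ i j, X i j * X i j = 1 := fun i j => Subtype.ext (by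
    change tr D (b i) _ * tr D (b j) _ * (tr D (b i) _ * tr D (b j) _) = (1 : M)
    by_cases hij : i = j
    · subst hij
      rw [ref_sq D (hb.1 i), one_mul]
    · set A := tr D (b i) (refK D (b i))
      set C := tr D (b j) (refK D (b j))
      calc A * C * (A * C) = A * (C * A) * C := by simp only [mul_assoc]
        _ = A * A * (C * C) := by rw [show C * A = A * C from (ref_comm D (hb.2 i j hij) _ _).symm]; simp only [mul_assoc]
        _ = 1 := by rw [ref_sq D (hb.1 i), ref_sq D (hb.1 j), one_mul])
  have hc1 : ∀ i k, tr D (b i) (refK D (b i)) * tr D (b k) (refK D (b k)) =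
      tr D (b k) (refK D (b k)) * tr D (b i) (refK D (b i)) := fun i k => by
    by_cases hik : i = k
    · rw [hik]
    · exact ref_comm D (hb.2 i k hik) _ _
  have hcomm : ∀ i j k l, X i j * X k l = X k l * X i j := fun i j k l => Subtype.ext (by
    exact ((Commute.mul_right (hc1 i k) (hc1 i l)).mul_left (Commute.mul_right (hc1 j k) (hc1 j l))))
  obtain ⟨q, hq, hfix⟩ := exists_common_fixed
    ((Finset.univ : Finset (Fin n × Fin n)).toList.map fun ij => mv (X ij.1 ij.2))
    (fun f hf x => by
      obtain ⟨ij, -, rfl⟩ := List.mem_map.1 hf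
      rw [← mv_mul, hinvol, mv_one])
    (fun f hf g hg x => by
      obtain ⟨ij, -, rfl⟩ := List.mem_map.1 hf
      obtain ⟨kl, -, rfl⟩ := List.mem_map.1 hg
      rw [← mv_mul, ← mv_mul, hcomm])
    s hs (fun f hf q hq => by
      obtain ⟨⟨i, j⟩, -, rfl⟩ := List.mem_map.1 hf
      rw [hsmem] at hq ⊢
      induction q with
      | h w hw =>
        rw [mv_mk]
        obtain ⟨h1, h1'⟩ := hstep j u (hrel'.trans B (hrel'.symm B)) (Or.inl rfl)
        obtain ⟨h2, -⟩ := hstep i _ h1 h1'
        rw [mulVec_mulVec] at h2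
        have h3 := Rel.map B ⟨hrel.1, hw, hq⟩ (X i j) (hX i j)
        exact (h2.trans B h3).2.2)
  induction q with
  | h y hy =>
    have hy0 : Φ D y y = 0 := Rel.iso B ⟨hrel.1, hy, (hsmem _).1 hq⟩ hu
    -- `y` has a single non-zero coordinate
    have hsingle : ∀ i k, i ≠ k → Φ D (b i) y ≠ 0 → Φ D (b k) y = 0 := by
      intro i k hik hi
      obtain ⟨l, hli, hlk⟩ : ∃ l : Fin n, l ≠ i ∧ l ≠ k := by
        by_contra hall
        push Not at hall
        have hsub : (Finset.univ : Finset (Fin n)) ⊆ {i, k} := fun l _ => by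
          by_cases hl : l = i
          · simp [hl]
          · simp [hall l hl]
        have := (Finset.card_le_card hsub).trans (Finset.card_le_two)
        rw [Finset.card_univ, Fintype.card_fin] at this
        omega
      have h1 := hfix (mv (X i l)) (List.mem_map.2 ⟨(i, l), by simp, rfl⟩)
      rw [mv_mk] at h1
      obtain ⟨a, ha⟩ := (Projectivization.mk_eq_mk_iff' F _ _ _ _).1 h1
      have e : ((X i l : SL) : M) *ᵥ y = tr D (b i) (refK D (b i)) *ᵥ (tr D (b l) (refK D (b l)) *ᵥ y) :=
        (mulVec_mulVec _ _ _).symm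
      rw [e] at ha
      have hi' := congrArg (Φ D (b i)) ha
      rw [smul_right, pairing_ref_self D _ (hb.1 i), pairing_ref D _ (hb.1 l) (hb.2 i l (Ne.symm hli))] at hi'
      have hk' := congrArg (Φ D (b k)) ha
      rw [smul_right, pairing_ref D _ (hb.1 i) (hb.2 k i (Ne.symm hik)),
        pairing_ref D _ (hb.1 l) (hb.2 k l (Ne.symm hlk))] at hk'
      have ha1 : a = -1 := mul_right_cancel₀ hi (by rw [hi']; ring)
      rw [ha1] at hk'
      exact (mul_eq_zero.1 (show (2 : F) * Φ D (b k) y = 0 by linear_combination -hk')).resolve_left D.two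
    obtain ⟨i, hi⟩ : ∃ i, Φ D (b i) y ≠ 0 := by
      by_contra hall
      push Not at hall
      exact hy (eq_zero_of_perp_basis D hb hall)
    set t := Φ D (b i) y / Φ D (b i) (b i)
    have hy1 : y - t • b i = 0 := eq_zero_of_perp_basis D hb fun k => by
      rw [sub_right, smul_right]
      by_cases hk : k = i
      · rw [hk, div_mul_cancel₀ _ (hb.1 i), sub_self]
      · rw [hsingle i k (Ne.symm hk) hi, hb.2 k i hk, mul_zero, sub_zero]
    rw [sub_eq_zero.1 hy1, smul_left, smul_right] at hy0
    have ht : t ≠ 0 := div_ne_zero hi (hb.1 i)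
    rcases mul_eq_zero.1 hy0 with h | h
    · exact (map_ne_zero D.σ).2 ht h
    · exact (mul_ne_zero ht (hb.1 i)) h

theorem rel_all_of_alt (hn : 3 ≤ n) (hD : IsAlt D) {u v : V} (huv : Φ D u v ≠ 0) (h : Rel B u v)
    {w : V} (hw : Φ D u w ≠ 0) : Rel B u w := by
  obtain ⟨hσ, hc⟩ := alt_facts D (by omega) hD
  have hiso : ∀ a k, IsIso D ((trSL D a k (by rw [hD a, mul_zero]) : SL) : M) := fun a k =>
    iso_tr D (by rw [hD a, hc, hσ]; change k + k * -1 + k * k * 0 = 0; ring)
  set a0 := Φ D u v / Φ D u w with ha0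
  have hane : a0 ≠ 0 := div_ne_zero huv hw
  set w' := a0 • w with hw'
  have hu' : Φ D u w' = Φ D u v := by rw [hw', smul_right, ha0, div_mul_cancel₀ _ hw]
  suffices Rel B u w' by
    refine this.trans B (Rel.symm B ?_)
    exact Rel.of_smul B (fun e => hw (by rw [e, zero_right])) hane
  -- moving `v` along a vector orthogonal to `u`
  have move : ∀ (a z : V), Φ D u a = 0 → Φ D a z ≠ 0 → Rel B u z → Rel B u (z + a) := by
    intro a z hua haz huz
    have h1 := Rel.map B huz _ (hiso a (1 / Φ D a z))
    change Rel B (tr D a _ *ᵥ u) (tr D a _ *ᵥ z) at h1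
    rw [tr_mulVec, tr_mulVec, perp_comm D hua, mul_zero, zero_smul, add_zero,
      div_mul_cancel₀ _ haz, one_smul] at h1
    exact h1
  have hua : Φ D u (w' - v) = 0 := by rw [sub_right, hu', sub_self]
  by_cases hav : Φ D (w' - v) v = 0
  · have h1 := move (w' - v + u) v (by rw [add_right, hua, hD u, add_zero])
      (by rw [add_left, hav, zero_add]; exact huv) h
    have h2 := move (-u) (v + (w' - v + u)) (by rw [neg_right, hD u, neg_zero])
      (by rw [neg_left, add_right, add_right, hua, hD u, add_zero, add_zero, neg_ne_zero]; exact huv) h1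
    have e : v + (w' - v + u) + -u = w' := by abel
    rwa [e] at h2
  · have h1 := move _ v hua hav h
    rwa [add_sub_cancel] at h1

theorem two_ne_char (D : Data F n) : Odd (Nat.card F) := by
  by_contra he
  rw [Nat.not_odd_iff_even] at he
  obtain ⟨p, hp⟩ := CharP.exists F
  have : Fact p.Prime := ⟨CharP.char_is_prime F p⟩
  obtain ⟨e, -, he'⟩ := FiniteField.card F p
  rw [Nat.card_eq_fintype_card, he', Nat.even_pow] at he
  obtain rfl : p = 2 := (Nat.Prime.even_iff Fact.out).1 he.1
  exact D.two (CharP.cast_eq_zero F 2)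

theorem not_rel_nonperp_alt (hn : 3 ≤ n) (hD : IsAlt D) {u v : V} (huv : Φ D u v ≠ 0) :
    ¬ Rel B u v := by
  classical
  intro h
  obtain ⟨hσ, hc⟩ := alt_facts D (by omega) hD
  -- every point is related to `u`
  have hall : ∀ x : V, x ≠ 0 → Rel B u x := by
    intro x hx
    by_cases hux : Φ D u x = 0
    swap
    · exact rel_all_of_alt B hn hD huv h hux
    obtain ⟨z, hz⟩ := exists_pair D hx
    obtain ⟨y, hy1, hy2⟩ : ∃ y, Φ D u y ≠ 0 ∧ Φ D x y ≠ 0 := by
      by_cases hzu : Φ D u z = 0
      · by_cases hxv : Φ D x v = 0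
        · exact ⟨z + v, by rw [add_right, hzu, zero_add]; exact huv,
            by rw [add_right, hxv, add_zero]; exact hz⟩
        · exact ⟨v, huv, hxv⟩
      · exact ⟨z, hzu, hz⟩
    have huy := rel_all_of_alt B hn hD huv h hy1
    exact huy.trans B (rel_all_of_alt B hn hD (fun e => hy1 (perp_comm D e)) (huy.symm B)
      (fun e => hy2 (perp_comm D e)))
  have hcard : Nat.card {q // B.rel (Projectivization.mk F u h.1) q} = Nat.card (ℙ F V) := by
    refine Nat.card_congr (Equiv.subtypeUnivEquiv fun q => ?_)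
    induction q with
    | h x hx => exact (hall x hx).2.2
  have hodd := B.odd (Projectivization.mk F u h.1)
  rw [hcard] at hodd
  -- an alternating form lives in even dimension
  have heven : Even n := by
    by_contra ho
    rw [Nat.not_even_iff_odd] at ho
    have hP : (D.P : M)ᵀ = -(D.P : M) := by
      ext i j
      have h1 := symm D (Pi.single i 1 : V) (Pi.single j 1)
      have hev : ∀ i j, Φ D (Pi.single i 1) (Pi.single j 1) = (D.P : M) i j := fun i j => by
        rw [Φ, mulVec_single_one, show (fun l => D.σ ((Pi.single i 1 : V) l)) = Pi.single i 1 from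
          funext fun l => by by_cases hl : l = i <;> simp [hl], single_one_dotProduct]
        rfl
      rw [hev, hev, hc, hσ] at h1
      simpa using h1
    have h2 := congrArg Matrix.det hP
    rw [det_transpose, det_neg, Fintype.card_fin, ho.neg_one_pow, neg_one_mul] at h2
    have h3 : (2 : F) * (D.P : M).det = 0 := by linear_combination h2
    exact (Matrix.GeneralLinearGroup.det D.P).ne_zero (by simpa using (mul_eq_zero.1 h3).resolve_left D.two)
  obtain ⟨k, rfl⟩ := heven
  have h1 := Projectivization.card F (Fin (k + k) → F)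
  rw [Nat.card_fun, Nat.card_fin] at h1
  set q := Nat.card F
  have hq : 2 ≤ q := Finite.one_lt_card
  obtain ⟨t, ht⟩ : q ^ 2 - 1 ∣ q ^ (k + k) - 1 := by
    rw [← two_mul, pow_mul]
    exact Nat.sub_one_dvd_pow_sub_one _ _
  have hfac : q ^ 2 - 1 = (q + 1) * (q - 1) := by simpa using Nat.sq_sub_sq q 1
  rw [ht, hfac] at h1
  have h2 : Nat.card (ℙ F (Fin (k + k) → F)) = (q + 1) * t :=
    Nat.eq_of_mul_eq_mul_right (show 0 < q - 1 by omega) (by rw [← h1]; ring)
  rw [h2] at hodd
  exact Nat.not_odd_iff_even.2 ((two_ne_char D).add_one.mul_right t) hodd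

theorem not_rel_of_ne_zero (hn : 3 ≤ n) {u v : V} (hu : Φ D u u = 0) (hv : Φ D v v = 0)
    (huv : Φ D u v ≠ 0) : ¬ Rel B u v := by
  by_cases hD : IsAlt D
  · exact not_rel_nonperp_alt B hn hD huv
  · exact not_rel_nonperp B hn hD hu hv huv

omit [Fintype F] in
theorem exists_sep {x y : V} (hx : x ≠ 0) (hy : ∀ a : F, y ≠ a • x) :
    ∃ z, Φ D x z = 0 ∧ Φ D y z ≠ 0 := by
  obtain ⟨z1, hz1⟩ := exists_pair D hx
  by_contra hall
  push Not at hall
  set t := Φ D y z1 / Φ D x z1 with ht
  refine hy (D.σ t) (sub_eq_zero.1 (eq_zero_of_perp D fun w => ?_))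
  have h1 := hall (w - (Φ D x w / Φ D x z1) • z1) (by
    rw [sub_right, smul_right, div_mul_cancel₀ _ hz1, sub_self])
  rw [sub_right, smul_right] at h1
  rw [sub_left, smul_left, D.hσ, ht]
  field_simp at h1 ⊢
  linear_combination h1

/-- An invariant relation with odd classes is trivial on the isotropic points. -/
theorem rel_isotropic (hn : 3 ≤ n) {x y : V} (hx : Φ D x x = 0) (h : Rel B x y) :
    ∃ a : F, y = a • x := by
  classical
  by_contra hne
  push Not at hne
  have hy := Rel.iso B h hx
  have key : ∀ u w, Rel B x u → Rel B x w → Φ D u w = 0 := fun u w hu hw => by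
    by_contra huw
    exact not_rel_of_ne_zero B hn (Rel.iso B hu hx) (Rel.iso B hw hx) huw ((hu.symm B).trans B hw)
  have hxx : Rel B x x := h.trans B (h.symm B)
  have hxy : Φ D x y = 0 := key x y hxx h
  have hyx := perp_comm D hxy
  -- an isotropic `a` orthogonal to `x` and not to `y`
  obtain ⟨a, hax, hay, haa⟩ : ∃ a, Φ D x a = 0 ∧ Φ D a y = 1 ∧ Φ D a a = 0 := by
    obtain ⟨z, hz1, hz2⟩ := exists_sep (D := D) h.1 hne
    have hzy : Φ D z y ≠ 0 := fun e => hz2 (perp_comm D e)
    set μ := -(Φ D z z / 2) / Φ D z y with hμ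
    set a := z + μ • y with ha
    have haa : Φ D a a = 0 := by
      rw [ha, add_left, add_right, add_right, smul_left, smul_left, smul_right, smul_right, hy,
        symm D z y]
      have h1 : μ * Φ D z y = -(Φ D z z / 2) := by rw [hμ, div_mul_cancel₀ _ hzy]
      have h2 : D.σ μ * (D.c * D.σ (Φ D z y)) = -(Φ D z z / 2) := by
        rw [mul_left_comm, ← map_mul, h1, map_neg, map_div₀, map_ofNat, mul_neg, ← mul_div_assoc,
          norm_symm]
      rw [h1, h2, mul_zero, mul_zero, add_zero]
      have := D.two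
      field_simp
      ring
    have hay : Φ D a y ≠ 0 := by
      rw [ha, add_left, smul_left, hy, mul_zero, add_zero]; exact hzy
    refine ⟨D.σ (Φ D a y)⁻¹ • a, ?_, ?_, ?_⟩
    · rw [smul_right, ha, add_right, smul_right, hxy, hz1, mul_zero, add_zero, mul_zero]
    · rw [smul_left, D.hσ, inv_mul_cancel₀ hay]
    · rw [smul_left, smul_right, haa, mul_zero, mul_zero]
  have hya : Φ D y a = D.c := by rw [symm D a y, hay, map_one, mul_one]
  by_cases horth : D.σ = 1 ∧ D.c = 1
  swap
  · -- a transvection
    obtain ⟨k, hk0, hk⟩ : ∃ k : F, k ≠ 0 ∧ D.σ k + k * D.c = 0 := by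
      by_contra hall
      push Not at hall
      have key2 : ∀ l : F, D.σ l = l * D.c := fun l => by
        by_contra hl
        refine hall (l - D.σ D.c * D.σ l) (sub_ne_zero.2 fun e => hl ?_) ?_
        · linear_combination (D.c) * (-e) + (-D.σ l) * norm_c D (by omega)
        · rw [map_sub, map_mul, D.hσ, D.hσ]
          linear_combination (-D.σ l) * norm_c D (by omega)
      have hc1 : D.c = 1 := by simpa using (key2 1).symm
      exact horth ⟨RingEquiv.ext fun l => by rw [key2, hc1, mul_one]; rfl, hc1⟩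
    have h1 := Rel.map B h (trSL D a k (by rw [haa, mul_zero]))
      (iso_tr D (by rw [haa, mul_zero, add_zero, hk]))
    change Rel B (tr D a k *ᵥ x) (tr D a k *ᵥ y) at h1
    rw [tr_mulVec, tr_mulVec, perp_comm D hax, mul_zero, zero_smul, add_zero] at h1
    have h2 := key y _ h h1
    rw [add_right, smul_right, hy, zero_add, hay, mul_one, hya] at h2
    exact mul_ne_zero hk0 (c_ne_zero D (by omega)) h2
  -- orthogonal forms
  obtain ⟨hσ, hc⟩ := horth
  have hsym : ∀ u w, Φ D w u = Φ D u w := fun u w => by rw [symm D u w, hc, hσ]; simp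
  obtain ⟨x', hx'x, hx'y⟩ : ∃ x', Φ D x' x = 1 ∧ Φ D x' y = 0 := by
    obtain ⟨z, hz1, hz2⟩ := exists_sep (D := D) h.2.1 (x := y) (y := x) fun b hb => by
      by_cases hb0 : b = 0
      · exact h.1 (by rw [hb, hb0, zero_smul])
      · exact hne b⁻¹ (by rw [hb, inv_smul_smul₀ hb0])
    refine ⟨(Φ D x z)⁻¹ • z, ?_, ?_⟩
    · rw [smul_left, hsym x z, hσ]; exact inv_mul_cancel₀ hz2
    · rw [smul_left, hsym y z, hz1, mul_zero]
  have hxa := perp_comm D hax
  have hli : LinearIndependent F ![x, y, x', a] := by
    refine Fintype.linearIndependent_iff.2 fun g hg i => ?_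
    rw [Fin.sum_univ_four] at hg
    simp only [Matrix.cons_val_zero, Matrix.cons_val_one, Matrix.cons_val] at hg
    have e2 := congrArg (Φ D x) hg
    have e3 := congrArg (Φ D y) hg
    have e0 := congrArg (Φ D x') hg
    have e1 := congrArg (Φ D a) hg
    simp only [add_right, smul_right, zero_right, hx, hxy, hyx, hy, hax, hxa, hya, hc,
      hsym x' x, hsym x' y, hx'x, hx'y, hay, haa, mul_zero, mul_one, add_zero, zero_add]
      at e0 e1 e2 e3
    have h2 : g 2 = 0 := by linear_combination e2
    have h3 : g 3 = 0 := by linear_combination e3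
    simp only [h2, h3, zero_mul, add_zero] at e0 e1
    fin_cases i
    · exact e0
    · exact e1
    · exact h2
    · exact h3
  have h4n : 4 ≤ n := by
    have := hli.fintype_card_le_finrank
    simpa using this
  -- projection to the complement of the two pairs
  let π : V → V := fun w => w - Φ D x' w • x - Φ D a w • y
  rcases (show n = 4 ∨ 5 ≤ n by omega) with h4 | h5
  · -- the class is a line
    let ht : F → SL := fun t =>
      Roots.tv (t • x) (row D a) (by rw [dotProduct_smul, row_dot, hxa, smul_zero]) *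
      Roots.tv (-(t • a)) (row D x) (by rw [dotProduct_neg, dotProduct_smul, row_dot, hax, smul_zero, neg_zero])
    have hht : ∀ t w, ((ht t : SL) : M) *ᵥ w = w + (t * Φ D a w) • x - (t * Φ D x w) • a := by
      intro t w
      simp only [ht, Matrix.SpecialLinearGroup.coe_mul, Roots.tv_coe, ← mulVec_mulVec, add_mulVec,
        one_mulVec, vecMulVec_mulVec, op_smul_eq_smul, row_dot, add_right, smul_right, neg_right,
        smul_neg, smul_smul, haa, mul_zero, neg_zero, add_zero]
      module
    have hiso : ∀ t, IsIso D ((ht t : SL) : M) := by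
      intro t u w
      rw [hht, hht]
      simp only [sub_left, add_left, smul_left, sub_right, add_right, smul_right, hx, haa, hax,
        hxa, hσ, RingAut.one_apply, mul_zero, add_zero, sub_zero, zero_sub, zero_add,
        hsym u x, hsym u a]
      ring
    have hline : ∀ t : F, Rel B x (y + t • x) := fun t => by
      have h1 := Rel.map B h (ht t) (hiso t)
      rw [hht, hht, hxa, hx, hxy, hay] at h1
      simpa using h1
    let f : Option F → {q // B.rel (Projectivization.mk F x h.1) q}
      | none => ⟨_, B.refl _⟩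
      | some t => ⟨Projectivization.mk F _ (hline t).2.1, (hline t).2.2⟩
    have hf : Function.Bijective f := by
      refine ⟨fun s t he => ?_, fun ⟨q, hq⟩ => ?_⟩
      · have e := congrArg Subtype.val he
        have hyne : ∀ c t : F, y + t • x ≠ c • x := fun c t hc' => hne (c - t) (by
          rw [sub_smul, ← hc']; abel)
        rcases s with _ | s <;> rcases t with _ | t
        · rfl
        · obtain ⟨c, hc'⟩ := (Projectivization.mk_eq_mk_iff' F _ _ _ _).1 e.symm
          exact absurd hc'.symm (hyne c t)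
        · obtain ⟨c, hc'⟩ := (Projectivization.mk_eq_mk_iff' F _ _ _ _).1 e
          exact absurd hc'.symm (hyne c s)
        · obtain ⟨c, hc'⟩ := (Projectivization.mk_eq_mk_iff' F _ _ _ _).1 e
          have hli2 := (LinearIndependent.pair_iff' h.1).2 fun b hb => hne b hb.symm
          obtain ⟨h1, h2⟩ := LinearIndependent.pair_iff.1 hli2 (c * t - s) (c - 1)
            (by linear_combination (norm := module) hc')
          rw [sub_eq_zero] at h1 h2
          rw [h2, one_mul] at h1
          rw [h1]
      · induction q with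
        | h w hw =>
          have hrel : Rel B x w := ⟨h.1, hw, hq⟩
          have hxw := key x w hxx hrel
          have hyw := key y w h hrel
          have hbot : π w = 0 := by
            have hspan := hli.span_eq_top_of_card_eq_finrank' (by simp [h4])
            refine eq_zero_of_perp D fun v => ?_
            have hv : v ∈ Submodule.span F (Set.range ![x, y, x', a]) := hspan ▸ Submodule.mem_top
            obtain ⟨g, rfl⟩ := Submodule.mem_span_range_iff_exists_fun F |>.1 hv
            have hq1 : Φ D (π w) x = 0 := by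
              rw [hsym]; simp [π, sub_right, smul_right, hxw, hx, hxy]
            have hq2 : Φ D (π w) y = 0 := by
              rw [hsym]; simp [π, sub_right, smul_right, hyw, hyx, hy]
            have hq3 : Φ D (π w) x' = 0 := by
              rw [hsym]; simp [π, sub_right, smul_right, hx'x, hx'y]
            have hq4 : Φ D (π w) a = 0 := by
              rw [hsym]; simp [π, sub_right, smul_right, hay, hxa]
            simp [Fin.sum_univ_four, add_right, smul_right, hq1, hq2, hq3, hq4]
          have hwe : w = Φ D x' w • x + Φ D a w • y := by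
            rw [← sub_eq_zero, ← hbot]
            simp only [π]
            abel
          generalize Φ D x' w = A at hwe
          generalize Φ D a w = C at hwe
          by_cases hq0 : C = 0
          · refine ⟨none, Subtype.ext ((Projectivization.mk_eq_mk_iff' F _ _ _ _).2 ?_)⟩
            rw [hq0, zero_smul, add_zero] at hwe
            refine ⟨A⁻¹, ?_⟩
            conv_lhs => rw [hwe]
            rw [inv_smul_smul₀ fun e => hw (by rw [hwe, e, zero_smul])]
          · refine ⟨some (A / C), Subtype.ext ((Projectivization.mk_eq_mk_iff' F _ _ _ _).2 ?_)⟩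
            refine ⟨C⁻¹, ?_⟩
            conv_lhs => rw [hwe]
            rw [smul_add, inv_smul_smul₀ hq0, smul_smul, div_eq_inv_mul, add_comm]
    have hodd := B.odd (Projectivization.mk F x h.1)
    rw [← Nat.card_congr (Equiv.ofBijective f hf), Finite.card_option] at hodd
    exact Nat.not_odd_iff_even.2 (two_ne_char D).add_one hodd
  · -- two reflections
    obtain ⟨b, hbb, hbx, hby, hba⟩ : ∃ b, Φ D b b ≠ 0 ∧ Φ D b x = 0 ∧ Φ D b y = 0 ∧ Φ D b a = 0 := by
      by_contra hall
      push Not at hall
      have hL : ∀ w, Φ D x w = 0 → Φ D y w = 0 → Φ D w w = 0 := fun w hw1 hw2 => by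
        by_contra hww
        refine hall (π w) ?_ ?_ ?_ ?_
        · have : Φ D (π w) (π w) = Φ D w w := by
            simp only [π, sub_left, sub_right, smul_left, smul_right, hx, hy, hxy, hyx, hw1, hw2,
              hsym x w, hsym y w, mul_zero, sub_zero]
          rw [this]; exact hww
        · rw [hsym]; simp [π, sub_right, smul_right, hw1, hx, hxy]
        · rw [hsym]; simp [π, sub_right, smul_right, hw2, hyx, hy]
        · rw [hsym]; simp [π, sub_right, smul_right, hay, hxa]
      have hspan : Submodule.span F (Set.range ![x, y, x', a]) = ⊤ := by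
        refine eq_top_iff.2 fun v _ => ?_
        let v' := v - Φ D x v • x' - Φ D y v • a
        have hv1 : Φ D x v' = 0 := by simp [v', sub_right, smul_right, hsym x' x, hx'x, hax]
        have hv2 : Φ D y v' = 0 := by simp [v', sub_right, smul_right, hsym x' y, hx'y, hya, hc]
        have hz : π v' = 0 := eq_zero_of_perp D fun w => by
          let w' := w - Φ D x w • x' - Φ D y w • a
          have hw1 : Φ D x w' = 0 := by simp [w', sub_right, smul_right, hsym x' x, hx'x, hax]
          have hw2 : Φ D y w' = 0 := by simp [w', sub_right, smul_right, hsym x' y, hx'y, hya, hc]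
          have hp1 : Φ D x (π v') = 0 := by simp [π, sub_right, smul_right, hv1, hx, hxy]
          have hp2 : Φ D y (π v') = 0 := by simp [π, sub_right, smul_right, hv2, hyx, hy]
          have h1 := hL (π v' + w') (by rw [add_right, hp1, hw1, add_zero])
            (by rw [add_right, hp2, hw2, add_zero])
          rw [add_left, add_right, add_right, hL _ hp1 hp2, hL _ hw1 hw2, hsym (π v') w', zero_add,
            add_zero] at h1
          have h2 : Φ D (π v') w' = 0 :=
            (mul_eq_zero.1 (show (2 : F) * _ = 0 by linear_combination h1)).resolve_left D.two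
          have hp3 : Φ D (π v') x' = 0 := by
            rw [hsym]; simp [π, sub_right, smul_right, hx'x, hx'y]
          have hp4 : Φ D (π v') a = 0 := by
            rw [hsym]; simp [π, sub_right, smul_right, hay, hxa]
          simpa [w', sub_right, smul_right, hp3, hp4] using h2
        have hv : v = Φ D x' v' • x + Φ D a v' • y + Φ D x v • x' + Φ D y v • a := by
          rw [← sub_eq_zero, ← hz]
          simp only [π, v']
          abel
        rw [hv]
        refine Submodule.add_mem _ (Submodule.add_mem _ (Submodule.add_mem _ ?_ ?_) ?_) ?_ <;>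
          refine Submodule.smul_mem _ _ (Submodule.subset_span ?_) <;> simp
      have := finrank_range_le_card (R := F) ![x, y, x', a]
      rw [Set.finrank, hspan, finrank_top, Module.finrank_fin_fun, Fintype.card_fin] at this
      omega
    set e := a + y with he
    have hee : Φ D e e ≠ 0 := by
      rw [he, add_left, add_right, add_right, haa, hay, hya, hy, hc, zero_add, add_zero,
        one_add_one_eq_two]
      exact D.two
    have h1 := Rel.map B h (refPair D e b hee hbb) (iso_mul D (iso_ref D hee) (iso_ref D hbb))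
    change Rel B ((tr D e (refK D e) * tr D b (refK D b)) *ᵥ x)
      ((tr D e (refK D e) * tr D b (refK D b)) *ᵥ y) at h1
    rw [← mulVec_mulVec, ← mulVec_mulVec, ref_perp D hbx, ref_perp D hby,
      ref_perp D (show Φ D e x = 0 by rw [he, add_left, hxa, hyx, add_zero])] at h1
    have h2 := key y _ h h1
    rw [tr_mulVec, add_right, smul_right, hy, zero_add, he, add_left, hay, hy, add_zero, add_right,
      hya, hy, add_zero, hc, mul_one, mul_one] at h2
    have h3 : refK D (a + y) ≠ 0 := div_ne_zero (neg_ne_zero.2 D.two) hee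
    exact h3 h2

end Cfsg.Agent.AutPSL.ReflForm
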