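import Cfsg.Agent.Lib.AutPSL.Roots
import Cfsg.Agent.Lib.AutPSL.Speiser

/-!
# Reflexive sesquilinear forms over a finite field of odd order

A form `Φ(u, v) = σ(u)ᵀ P v` with `Φ(v, u) = c σ(Φ(u, v))`: orthogonal, symplectic and Hermitian
forms at once. An odd group of semisimilarities that is normalised by the special isometries fixes
every isotropic point, and a semilinear map that fixes every isotropic point is scalar.
-/

set_option autoImplicit false

namespace Cfsg.Agent.AutPSL.ReflForm

open Matrix Cfsg.Agent.AutPSL.Roots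
open scoped LinearAlgebra.Projectivization

universe u

variable {F : Type u} [Field F] {n : ℕ}

local notation "V" => (Fin n → F)
local notation "M" => Matrix (Fin n) (Fin n) F
local notation "SL" => Matrix.SpecialLinearGroup (Fin n) F

/-- The data of a reflexive form. -/
structure Data (F : Type u) [Field F] (n : ℕ) where
  σ : F ≃+* F
  P : GL (Fin n) F
  c : F
  hσ : ∀ x, σ (σ x) = x
  herm : ∀ u v : Fin n → F, (fun i => σ (v i)) ⬝ᵥ ((P : Matrix (Fin n) (Fin n) F) *ᵥ u) =
    c * σ ((fun i => σ (u i)) ⬝ᵥ ((P : Matrix (Fin n) (Fin n) F) *ᵥ v))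
  two : (2 : F) ≠ 0

variable (D : Data F n)

/-- The form. -/
def Φ (u v : V) : F := (fun i => D.σ (u i)) ⬝ᵥ ((D.P : M) *ᵥ v)

theorem symm (u v : V) : Φ D v u = D.c * D.σ (Φ D u v) := D.herm u v

theorem add_left (u u' v : V) : Φ D (u + u') v = Φ D u v + Φ D u' v := by
  rw [Φ, Φ, Φ, ← add_dotProduct]
  exact congrArg (· ⬝ᵥ _) (funext fun i => map_add D.σ _ _)

theorem add_right (u v v' : V) : Φ D u (v + v') = Φ D u v + Φ D u v' := by
  rw [Φ, Φ, Φ, mulVec_add, dotProduct_add]

theorem smul_left (a : F) (u v : V) : Φ D (a • u) v = D.σ a * Φ D u v := by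
  rw [Φ, Φ, ← smul_eq_mul, ← smul_dotProduct]
  exact congrArg (· ⬝ᵥ _) (funext fun i => map_mul D.σ _ _)

theorem smul_right (a : F) (u v : V) : Φ D u (a • v) = a * Φ D u v := by
  rw [Φ, Φ, mulVec_smul, dotProduct_smul, smul_eq_mul]

theorem zero_left (v : V) : Φ D 0 v = 0 := by
  simp [Φ, dotProduct]

theorem zero_right (u : V) : Φ D u 0 = 0 := by simp [Φ]

theorem neg_left (u v : V) : Φ D (-u) v = -Φ D u v := by
  rw [← neg_one_smul F u, smul_left, map_neg, map_one, neg_one_mul]

theorem neg_right (u v : V) : Φ D u (-v) = -Φ D u v := by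
  rw [← neg_one_smul F v, smul_right, neg_one_mul]

theorem sub_left (u u' v : V) : Φ D (u - u') v = Φ D u v - Φ D u' v := by
  rw [sub_eq_add_neg, add_left, neg_left, ← sub_eq_add_neg]

theorem sub_right (u v v' : V) : Φ D u (v - v') = Φ D u v - Φ D u v' := by
  rw [sub_eq_add_neg, add_right, neg_right, ← sub_eq_add_neg]

theorem exists_pair {u : V} (hu : u ≠ 0) : ∃ v, Φ D u v ≠ 0 := by
  obtain ⟨i, hi⟩ := Function.ne_iff.1 hu
  refine ⟨((D.P⁻¹ : GL (Fin n) F) : M) *ᵥ Pi.single i 1, ?_⟩
  rw [Φ, mulVec_mulVec, Units.mul_inv, one_mulVec, dotProduct_single, mul_one]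
  exact (map_ne_zero D.σ).2 hi

theorem eq_zero_of_perp {u : V} (h : ∀ v, Φ D u v = 0) : u = 0 := by
  by_contra hu
  obtain ⟨v, hv⟩ := exists_pair D hu
  exact hv (h v)

theorem c_ne_zero (hn : 1 ≤ n) : D.c ≠ 0 := by
  intro h
  obtain ⟨v, hv⟩ := exists_pair D (u := (Pi.single ⟨0, hn⟩ 1 : V)) (by simp)
  rw [symm D v, h, zero_mul] at hv
  exact hv rfl

theorem norm_c (hn : 1 ≤ n) : D.c * D.σ D.c = 1 := by
  obtain ⟨v, hv⟩ := exists_pair D (u := (Pi.single ⟨0, hn⟩ 1 : V)) (by simp)
  have h := symm D v (Pi.single ⟨0, hn⟩ 1)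
  rw [symm D (Pi.single ⟨0, hn⟩ 1) v, map_mul, D.hσ, ← mul_assoc] at h
  exact mul_right_cancel₀ hv (by rw [one_mul, ← h])

theorem perp_comm {u v : V} (h : Φ D u v = 0) : Φ D v u = 0 := by
  rw [symm D, h, map_zero, mul_zero]

theorem norm_symm (v : V) : D.c * D.σ (Φ D v v) = Φ D v v := (symm D v v).symm

/-- The row vector of the functional `Φ(a, ·)`. -/
def row (a : V) : V := (fun i => D.σ (a i)) ᵥ* (D.P : M)

theorem row_dot (a z : V) : row D a ⬝ᵥ z = Φ D a z := (dotProduct_mulVec _ _ _).symm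

/-! ### Isometries -/

/-- Special isometries. -/
def IsIso (X : M) : Prop := ∀ u v : V, Φ D (X *ᵥ u) (X *ᵥ v) = Φ D u v

theorem iso_mul {X Y : M} (hX : IsIso D X) (hY : IsIso D Y) : IsIso D (X * Y) := fun u v => by
  rw [← mulVec_mulVec, ← mulVec_mulVec, hX, hY]

/-- `z ↦ z + k Φ(a, z) a`. -/
def tr (a : V) (k : F) : M := 1 + vecMulVec (k • a) (row D a)

theorem tr_mulVec (a z : V) (k : F) : tr D a k *ᵥ z = z + (k * Φ D a z) • a := by
  rw [tr, add_mulVec, one_mulVec, vecMulVec_mulVec, op_smul_eq_smul, row_dot, smul_smul, mul_comm]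

theorem det_tr (a : V) (k : F) : (tr D a k).det = 1 + k * Φ D a a := by
  rw [tr, vecMulVec_eq Unit, det_one_add_replicateCol_mul_replicateRow, row_dot, smul_right]

theorem iso_tr {a : V} {k : F} (hk : D.σ k + k * D.c + D.σ k * k * Φ D a a = 0) :
    IsIso D (tr D a k) := by
  intro u v
  rw [tr_mulVec, tr_mulVec, add_left, add_right, add_right, smul_left, smul_left, smul_right,
    smul_right, map_mul, symm D a u]
  linear_combination (D.σ (Φ D a u) * Φ D a v) * hk

/-- A transvection as an element of `SL`. -/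
def trSL (a : V) (k : F) (h : k * Φ D a a = 0) : SL := ⟨tr D a k, by rw [det_tr, h, add_zero]⟩

/-- The reflection constant. -/
def refK (a : V) : F := -2 / Φ D a a

theorem iso_ref {a : V} (ha : Φ D a a ≠ 0) : IsIso D (tr D a (refK D a)) := by
  refine iso_tr D ?_
  have h0 := norm_symm D a
  have hσ0 : D.σ (Φ D a a) ≠ 0 := (map_ne_zero D.σ).2 ha
  rw [refK, map_div₀, map_neg, map_ofNat]
  field_simp
  linear_combination 2 * h0 - 2 * h0 + (-2 : F) * h0

theorem det_ref {a : V} (ha : Φ D a a ≠ 0) : (tr D a (refK D a)).det = -1 := by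
  rw [det_tr, refK, div_mul_cancel₀ _ ha]
  norm_num

/-- The product of two reflections. -/
def refPair (a b : V) (ha : Φ D a a ≠ 0) (hb : Φ D b b ≠ 0) : SL :=
  ⟨tr D a (refK D a) * tr D b (refK D b), by rw [det_mul, det_ref D ha, det_ref D hb]; norm_num⟩

theorem ref_perp {a z : V} (h : Φ D a z = 0) (k : F) : tr D a k *ᵥ z = z := by
  rw [tr_mulVec, h, mul_zero, zero_smul, add_zero]

theorem ref_self {a : V} (ha : Φ D a a ≠ 0) : tr D a (refK D a) *ᵥ a = -a := by
  rw [tr_mulVec, refK, div_mul_cancel₀ _ ha]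
  module

theorem pairing_ref {a b : V} (z : V) (ha : Φ D a a ≠ 0) (hab : Φ D b a = 0) :
    Φ D b (tr D a (refK D a) *ᵥ z) = Φ D b z := by
  rw [tr_mulVec, add_right, smul_right, hab, mul_zero, add_zero]

theorem pairing_ref_self {a : V} (z : V) (ha : Φ D a a ≠ 0) :
    Φ D a (tr D a (refK D a) *ᵥ z) = -Φ D a z := by
  rw [tr_mulVec, add_right, smul_right, refK]
  field_simp
  ring

theorem ref_comm {a b : V} (hab : Φ D a b = 0) (k l : F) :
    tr D a k * tr D b l = tr D b l * tr D a k := by
  refine Matrix.ext_iff_mulVec.2 fun z => ?_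
  rw [← mulVec_mulVec, ← mulVec_mulVec, tr_mulVec, tr_mulVec, tr_mulVec, tr_mulVec, add_right,
    smul_right, hab, add_right, smul_right, perp_comm D hab]
  module

theorem ref_sq {a : V} (ha : Φ D a a ≠ 0) : tr D a (refK D a) * tr D a (refK D a) = 1 := by
  refine Matrix.ext_iff_mulVec.2 fun z => ?_
  rw [← mulVec_mulVec, one_mulVec]
  nth_rw 1 [tr_mulVec]
  rw [pairing_ref_self D z ha, tr_mulVec]
  module

/-! ### Anisotropic vectors and orthogonal bases -/

/-- The form is alternating. -/
def IsAlt : Prop := ∀ v : V, Φ D v v = 0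

theorem alt_facts (hn : 1 ≤ n) (h : IsAlt D) : D.σ = 1 ∧ D.c = -1 := by
  obtain ⟨v, hv⟩ := exists_pair D (u := (Pi.single ⟨0, hn⟩ 1 : V)) (by simp)
  set u : V := Pi.single ⟨0, hn⟩ 1
  have key : ∀ l : F, l + D.c * D.σ l = 0 := fun l => by
    have h1 := h (u + (l / Φ D u v) • v)
    rw [add_left, add_right, add_right, h, smul_left, smul_left, smul_right, smul_right, h,
      mul_zero, mul_zero, add_zero, zero_add, symm D u v] at h1
    rw [div_mul_cancel₀ _ hv] at h1
    have h2 : D.σ (l / Φ D u v) * (D.c * D.σ (Φ D u v)) = D.c * D.σ l := by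
      rw [mul_left_comm, ← map_mul, div_mul_cancel₀ _ hv]
    rwa [h2] at h1
  have hc : D.c = -1 := by
    have := key 1
    rw [map_one, mul_one] at this
    linear_combination this
  refine ⟨RingEquiv.ext fun l => ?_, hc⟩
  have := key l
  rw [hc] at this
  change D.σ l = l
  linear_combination -this

theorem exists_aniso_of_ne {S : Submodule F V} (hD : ¬ IsAlt D) {u v : V} (hu : u ∈ S) (hv : v ∈ S)
    (h : Φ D u v ≠ 0) : ∃ w ∈ S, Φ D w w ≠ 0 := by
  obtain ⟨w0, hw0⟩ : ∃ w, Φ D w w ≠ 0 := by simpa [IsAlt] using hD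
  by_contra hall
  push Not at hall
  set t := Φ D w0 w0 / Φ D u v
  have h1 := hall (u + t • v) (S.add_mem hu (S.smul_mem _ hv))
  rw [add_left, add_right, add_right, hall u hu, smul_left, smul_left, smul_right, smul_right,
    hall v hv, mul_zero, mul_zero, add_zero, zero_add, symm D u v] at h1
  rw [div_mul_cancel₀ _ h] at h1
  have h2 : D.σ t * (D.c * D.σ (Φ D u v)) = D.c * D.σ (Φ D w0 w0) := by
    rw [mul_left_comm, ← map_mul, div_mul_cancel₀ _ h]
  rw [h2, norm_symm] at h1
  exact hw0 (by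
    have : (2 : F) * Φ D w0 w0 = 0 := by linear_combination h1
    exact (mul_eq_zero.1 this).resolve_left D.two)

/-- An orthogonal family of anisotropic vectors. -/
def IsOrtho {k : ℕ} (e : Fin k → V) : Prop :=
  (∀ i, Φ D (e i) (e i) ≠ 0) ∧ ∀ i j, i ≠ j → Φ D (e i) (e j) = 0

theorem ortho_li {k : ℕ} {e : Fin k → V} (he : IsOrtho D e) : LinearIndependent F e := by
  refine Fintype.linearIndependent_iff.2 fun g hg i => ?_
  have h1 : Φ D (e i) (∑ j, g j • e j) = 0 := by rw [hg, zero_right]
  have hsum : Φ D (e i) (∑ j, g j • e j) = ∑ j, g j * Φ D (e i) (e j) := by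
    simp only [← row_dot, dotProduct_sum, dotProduct_smul, smul_eq_mul]
  rw [hsum, Finset.sum_eq_single i] at h1
  · exact (mul_eq_zero.1 h1).resolve_right (he.1 i)
  · exact fun j _ hj => by rw [he.2 i j (Ne.symm hj), mul_zero]
  · exact fun hi => absurd (Finset.mem_univ i) hi

theorem extend_ortho (hD : ¬ IsAlt D) {k : ℕ} {e : Fin k → V} (he : IsOrtho D e) (hk : k < n) :
    ∃ w : V, Φ D w w ≠ 0 ∧ ∀ i, Φ D (e i) w = 0 := by
  classical
  let proj : V → V := fun v => v - ∑ i, (Φ D (e i) v / Φ D (e i) (e i)) • e i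
  have hproj : ∀ v i, Φ D (e i) (proj v) = 0 := by
    intro v i
    rw [sub_right, ← row_dot D (e i) (∑ j, _), dotProduct_sum, Finset.sum_eq_single i]
    · rw [dotProduct_smul, row_dot, smul_eq_mul, div_mul_cancel₀ _ (he.1 i), sub_self]
    · exact fun j _ hj => by rw [dotProduct_smul, row_dot, he.2 i j (Ne.symm hj), smul_zero]
    · exact fun hi => absurd (Finset.mem_univ i) hi
  let S : Submodule F V :=
    { carrier := {z | ∀ i, Φ D (e i) z = 0}
      zero_mem' := fun i => zero_right D _
      add_mem' := fun {a b} ha hb i => by rw [add_right, ha i, hb i, add_zero]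
      smul_mem' := fun a z hz i => by rw [smul_right, hz i, mul_zero] }
  obtain ⟨v, hv⟩ : ∃ v : V, proj v ≠ 0 := by
    by_contra hall
    push Not at hall
    have hspan : Submodule.span F (Set.range e) = ⊤ := by
      refine eq_top_iff.2 fun v _ => ?_
      rw [sub_eq_zero.1 (hall v)]
      exact Submodule.sum_mem _ fun i _ => Submodule.smul_mem _ _ (Submodule.subset_span ⟨i, rfl⟩)
    have := finrank_range_le_card (R := F) e
    rw [Set.finrank, hspan, finrank_top, Module.finrank_fin_fun, Fintype.card_fin] at this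
    omega
  obtain ⟨x, hx⟩ := exists_pair D hv
  have hx' : Φ D (proj v) (proj x) ≠ 0 := by
    rw [show proj x = x - ∑ i, (Φ D (e i) x / Φ D (e i) (e i)) • e i from rfl, sub_right,
      ← row_dot D (proj v) (∑ j, _), dotProduct_sum, Finset.sum_eq_zero fun i _ => by
        rw [dotProduct_smul, row_dot, perp_comm D (hproj v i), smul_zero], sub_zero]
    exact hx
  obtain ⟨w, hwS, hw⟩ := exists_aniso_of_ne D (S := S) hD (hproj v) (hproj x) hx'
  exact ⟨w, hw, hwS⟩

theorem exists_ortho_basis (hD : ¬ IsAlt D) {k : ℕ} (e : Fin k → V) (he : IsOrtho D e) (hk : k ≤ n) :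
    ∃ b : Fin n → V, IsOrtho D b ∧ ∀ i : Fin k, b (Fin.castLE hk i) = e i := by
  induction h : n - k generalizing k with
  | zero =>
    obtain rfl : k = n := by omega
    exact ⟨e, he, fun i => rfl⟩
  | succ d ih =>
    obtain ⟨w, hw, hperp⟩ := extend_ortho D hD he (by omega)
    have he' : IsOrtho D (Fin.snoc e w) := by
      refine ⟨fun i => ?_, fun i j hij => ?_⟩
      · induction i using Fin.lastCases with
        | last => simpa using hw
        | cast i => simpa using he.1 i
      · induction i using Fin.lastCases with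
        | last =>
          induction j using Fin.lastCases with
          | last => exact absurd rfl hij
          | cast j => simpa using perp_comm D (hperp j)
        | cast i =>
          induction j using Fin.lastCases with
          | last => simpa using hperp i
          | cast j => simpa using he.2 i j (fun e => hij (by rw [e]))
    obtain ⟨b, hb, hbe⟩ := ih _ he' (by omega) (by omega)
    refine ⟨b, hb, fun i => ?_⟩
    have := hbe i.castSucc
    simpa using this

theorem eq_zero_of_perp_basis {b : Fin n → V} (hb : IsOrtho D b) {z : V}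
    (hz : ∀ i, Φ D (b i) z = 0) : z = 0 := by
  have hs := (ortho_li D hb).span_eq_top_of_card_eq_finrank' (by simp)
  obtain ⟨g, rfl⟩ := Submodule.mem_span_range_iff_exists_fun F |>.1 (hs ▸ Submodule.mem_top : z ∈ _)
  refine Finset.sum_eq_zero fun i _ => ?_
  have h1 := hz i
  rw [← row_dot, dotProduct_sum, Finset.sum_eq_single i] at h1
  · rw [dotProduct_smul, row_dot, smul_eq_mul] at h1
    rw [(mul_eq_zero.1 h1).resolve_right (hb.1 i), zero_smul]
  · exact fun j _ hj => by rw [dotProduct_smul, row_dot, hb.2 i j (Ne.symm hj), smul_zero]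
  · exact fun hi => absurd (Finset.mem_univ i) hi

/-- Normalised hyperbolic pair: both sum and difference are anisotropic and orthogonal. -/
theorem exists_scale {u v : V} (hD : ¬ IsAlt D) (hu : Φ D u u = 0) (hv : Φ D v v = 0)
    (h : Φ D u v ≠ 0) :
    ∃ a : F, a ≠ 0 ∧ IsOrtho D ![u + a • v, u - a • v] := by
  obtain ⟨w0, hw0⟩ : ∃ w, Φ D w w ≠ 0 := by simpa [IsAlt] using hD
  set a := Φ D w0 w0 / Φ D u v
  have ha : a ≠ 0 := div_ne_zero hw0 h
  have huv : Φ D u (a • v) = Φ D w0 w0 := by rw [smul_right, div_mul_cancel₀ _ h]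
  have hvu : Φ D (a • v) u = Φ D w0 w0 := by rw [symm D, huv, norm_symm]
  have hvv : Φ D (a • v) (a • v) = 0 := by rw [smul_left, smul_right, hv, mul_zero, mul_zero]
  refine ⟨a, ha, fun i => ?_, fun i j hij => ?_⟩
  · fin_cases i <;>
      simp [add_left, add_right, sub_left, sub_right, hu, huv, hvu, hvv] <;>
      intro h0 <;> refine hw0 ((mul_eq_zero.1 (?_ : (2 : F) * _ = 0)).resolve_left D.two) <;>
      first
      | linear_combination h0
      | linear_combination -h0
  · fin_cases i <;> fin_cases j <;>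
      simp [add_left, add_right, sub_left, sub_right, hu, huv, hvu, hvv] at hij ⊢

end Cfsg.Agent.AutPSL.ReflForm
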